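import Cfsg.Agent.RootSub.Basic

/-!
# The rank one group `SL₂(k)`
-/

set_option autoImplicit false
set_option linter.unusedSectionVars false
set_option linter.unusedVariables false

open Subgroup
open Cfsg

namespace Cfsg.Lib.RootSub

variable {k : Type*} [Field k]

local notation "SL2" => Matrix.SpecialLinearGroup (Fin 2) k

/-- `[[1, t], [0, 1]]`. -/
def upEl (t : k) : SL2 := ⟨!![1, t; 0, 1], by simp [Matrix.det_fin_two]⟩

theorem upEl_coe (t : k) : ((upEl t : SL2) : Matrix (Fin 2) (Fin 2) k) = !![1, t; 0, 1] := rfl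

/-- `[[1, 0], [s, 1]]`. -/
def loEl (s : k) : SL2 := ⟨!![1, 0; s, 1], by simp [Matrix.det_fin_two]⟩

theorem loEl_coe (t : k) : ((loEl t : SL2) : Matrix (Fin 2) (Fin 2) k) = !![1, 0; t, 1] := rfl

theorem upEl_mul (s t : k) : upEl s * upEl t = upEl (s + t) := by
  ext i j; fin_cases i <;> fin_cases j <;> simp [upEl_coe, Matrix.SpecialLinearGroup.coe_mul, Matrix.mul_apply, Fin.sum_univ_two, add_comm]

theorem loEl_mul (s t : k) : loEl s * loEl t = loEl (s + t) := by
  ext i j; fin_cases i <;> fin_cases j <;> simp [loEl_coe, Matrix.SpecialLinearGroup.coe_mul, Matrix.mul_apply, Fin.sum_univ_two, add_comm]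

theorem upEl_zero : upEl (0 : k) = 1 := by
  ext i j; fin_cases i <;> fin_cases j <;> simp [upEl_coe]

theorem loEl_zero : loEl (0 : k) = 1 := by
  ext i j; fin_cases i <;> fin_cases j <;> simp [loEl_coe]

theorem upEl_inv (t : k) : (upEl t)⁻¹ = upEl (-t) :=
  inv_eq_of_mul_eq_one_right (by rw [upEl_mul, add_neg_cancel, upEl_zero])

theorem loEl_inv (t : k) : (loEl t)⁻¹ = loEl (-t) :=
  inv_eq_of_mul_eq_one_right (by rw [loEl_mul, add_neg_cancel, loEl_zero])

theorem upEl_inj {s t : k} (h : upEl s = upEl t) : s = t := by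
  simpa [upEl_coe] using congrArg (fun g : SL2 => (g : Matrix (Fin 2) (Fin 2) k) 0 1) h

theorem loEl_inj {s t : k} (h : loEl s = loEl t) : s = t := by
  simpa [loEl_coe] using congrArg (fun g : SL2 => (g : Matrix (Fin 2) (Fin 2) k) 1 0) h

theorem mem_upper_iff {g : SL2} : g ∈ upperUnipotentSL2 k ↔ ∃ t, g = upEl t := by
  constructor
  · intro hg
    induction hg using Subgroup.closure_induction with
    | mem g hg =>
      obtain ⟨h1, h2, h3⟩ := hg
      exact ⟨(g : Matrix (Fin 2) (Fin 2) k) 0 1, by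
        ext i j; fin_cases i <;> fin_cases j <;> simp [upEl_coe, h1, h2, h3]⟩
    | one => exact ⟨0, upEl_zero.symm⟩
    | mul x y _ _ hx hy =>
      obtain ⟨s, rfl⟩ := hx; obtain ⟨t, rfl⟩ := hy
      exact ⟨_, upEl_mul s t⟩
    | inv x _ hx =>
      obtain ⟨s, rfl⟩ := hx
      exact ⟨_, upEl_inv s⟩
  · rintro ⟨t, rfl⟩
    exact Subgroup.subset_closure ⟨by simp [upEl_coe], by simp [upEl_coe], by simp [upEl_coe]⟩

theorem mem_lower_iff {g : SL2} : g ∈ lowerUnipotentSL2 k ↔ ∃ t, g = loEl t := by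
  constructor
  · intro hg
    induction hg using Subgroup.closure_induction with
    | mem g hg =>
      obtain ⟨h1, h2, h3⟩ := hg
      exact ⟨(g : Matrix (Fin 2) (Fin 2) k) 1 0, by
        ext i j; fin_cases i <;> fin_cases j <;> simp [loEl_coe, h1, h2, h3]⟩
    | one => exact ⟨0, loEl_zero.symm⟩
    | mul x y _ _ hx hy =>
      obtain ⟨s, rfl⟩ := hx; obtain ⟨t, rfl⟩ := hy
      exact ⟨_, loEl_mul s t⟩
    | inv x _ hx =>
      obtain ⟨s, rfl⟩ := hx
      exact ⟨_, loEl_inv s⟩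
  · rintro ⟨t, rfl⟩
    exact Subgroup.subset_closure ⟨by simp [loEl_coe], by simp [loEl_coe], by simp [loEl_coe]⟩

theorem up_lo_up (a b c : k) : ((upEl a * loEl b * upEl c : SL2) : Matrix (Fin 2) (Fin 2) k) =
    !![1 + a * b, (1 + a * b) * c + a; b, b * c + 1] := by
  ext i j; fin_cases i <;> fin_cases j <;> simp [upEl_coe, loEl_coe, Matrix.SpecialLinearGroup.coe_mul, Matrix.mul_apply, Fin.sum_univ_two]

theorem lo_up_lo (a b c : k) : ((loEl a * upEl b * loEl c : SL2) : Matrix (Fin 2) (Fin 2) k) =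
    !![1 + b * c, b; a + (a * b + 1) * c, a * b + 1] := by
  ext i j; fin_cases i <;> fin_cases j <;> simp [upEl_coe, loEl_coe, Matrix.SpecialLinearGroup.coe_mul, Matrix.mul_apply, Fin.sum_univ_two, add_comm]

theorem lower_sup_upper : lowerUnipotentSL2 k ⊔ upperUnipotentSL2 k = ⊤ := by
  rw [eq_top_iff]
  intro g _
  have key : ∀ g : SL2, (g : Matrix (Fin 2) (Fin 2) k) 1 0 ≠ 0 → g ∈ lowerUnipotentSL2 k ⊔ upperUnipotentSL2 k := by
    intro g hc
    have hdet := g.2
    rw [Matrix.det_fin_two] at hdet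
    have e : g = upEl ((g 0 0 - 1) / g 1 0) * loEl (g 1 0) * upEl ((g 1 1 - 1) / g 1 0) := by
      apply Subtype.ext
      rw [up_lo_up]
      ext i j; fin_cases i <;> fin_cases j <;> simp <;> field_simp <;>
        first | linear_combination hdet | linear_combination -hdet | ring
    rw [e]
    exact mul_mem (mul_mem (mem_sup_right (mem_upper_iff.mpr ⟨_, rfl⟩)) (mem_sup_left (mem_lower_iff.mpr ⟨_, rfl⟩)))
      (mem_sup_right (mem_upper_iff.mpr ⟨_, rfl⟩))
  by_cases hc : (g : Matrix (Fin 2) (Fin 2) k) 1 0 = 0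
  · have h1 : loEl (1 : k) * g ∈ lowerUnipotentSL2 k ⊔ upperUnipotentSL2 k := by
      refine key _ fun h0 => ?_
      have hdet := g.2
      rw [Matrix.det_fin_two, hc, mul_zero, sub_zero] at hdet
      simp [loEl_coe, Matrix.SpecialLinearGroup.coe_mul, Matrix.mul_apply, Fin.sum_univ_two, hc] at h0
      simp [h0] at hdet
    have h2 : loEl (1 : k) ∈ lowerUnipotentSL2 k ⊔ upperUnipotentSL2 k := mem_sup_left (mem_lower_iff.mpr ⟨_, rfl⟩)
    simpa using mul_mem (inv_mem h2) h1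
  · exact key g hc

theorem sl2_conj_eq {s t : k} (h : s * t = 1) :
    conjBy (lowerUnipotentSL2 k) (upEl t)⁻¹ = conjBy (upperUnipotentSL2 k) (loEl s)⁻¹ := by
  have key : ∀ x : k, upEl (-t) * loEl x * upEl t = loEl (-s) * upEl (-(t ^ 2) * x) * loEl s := by
    intro x
    apply Subtype.ext
    rw [up_lo_up, lo_up_lo]
    ext i j; fin_cases i <;> fin_cases j <;> simp
    all_goals
      first
        | ring1
        | linear_combination (t * x) * h
        | linear_combination (-(t * x)) * h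
        | linear_combination (-(x * (s * t + 1))) * h
        | linear_combination (x * (s * t + 1)) * h
  ext g
  rw [mem_conjBy, mem_conjBy, inv_inv, inv_inv, mem_lower_iff, mem_upper_iff]
  constructor
  · rintro ⟨x, hx⟩
    refine ⟨-(t ^ 2) * x, ?_⟩
    rw [upEl_inv] at hx
    have hg : g = upEl (-t) * loEl x * upEl t := by
      rw [← hx, ← upEl_inv]; group
    rw [hg, key, ← loEl_inv]
    group
  · rintro ⟨y, hy⟩
    refine ⟨-(s ^ 2) * y, ?_⟩
    rw [loEl_inv] at hy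
    have hg : g = loEl (-s) * upEl y * loEl s := by
      rw [← hy, ← loEl_inv]; group
    have hy' : y = -(t ^ 2) * (-(s ^ 2) * y) := by linear_combination (-(y * (s * t + 1))) * h
    rw [hg, hy', ← key, ← upEl_inv, ← hy']
    group

theorem sl2_isRankOnePair : IsRankOnePair (lowerUnipotentSL2 k) (upperUnipotentSL2 k) := by
  have hcomm : ∀ {S : Subgroup SL2} {f : k → SL2}, (∀ g, g ∈ S ↔ ∃ t, g = f t) →
      (∀ s t, f s * f t = f (s + t)) → IsMulCommutative S := by
    intro S f hS hf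
    refine ⟨⟨fun x y => Subtype.ext ?_⟩⟩
    obtain ⟨s, hs⟩ := (hS _).mp x.2
    obtain ⟨t, ht⟩ := (hS _).mp y.2
    simp only [Subgroup.coe_mul, hs, ht, hf, add_comm]
  refine ⟨?_, ?_, ?_, ?_, ?_⟩
  · intro he
    have h1 : loEl (1 : k) ∈ upperUnipotentSL2 k := he ▸ mem_lower_iff.mpr ⟨_, rfl⟩
    obtain ⟨t, ht⟩ := mem_upper_iff.mp h1
    simpa [loEl_coe, upEl_coe] using congrArg (fun g : SL2 => (g : Matrix (Fin 2) (Fin 2) k) 1 0) ht
  · haveI := hcomm (fun g => mem_lower_iff) loEl_mul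
    exact ⟨⟨1, Subgroup.upperCentralSeries_one_eq_top_iff.mpr inferInstance⟩⟩
  · haveI := hcomm (fun g => mem_upper_iff) upEl_mul
    exact ⟨⟨1, Subgroup.upperCentralSeries_one_eq_top_iff.mpr inferInstance⟩⟩
  · intro a ha ha1
    obtain ⟨s, rfl⟩ := mem_lower_iff.mp ha
    have hs : s ≠ 0 := fun h => ha1 (by rw [h, loEl_zero])
    refine ⟨upEl s⁻¹, mem_upper_iff.mpr ⟨_, rfl⟩, fun h => ?_, sl2_conj_eq (mul_inv_cancel₀ hs)⟩
    exact inv_ne_zero hs (upEl_inj (h.trans upEl_zero.symm))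
  · intro b hb hb1
    obtain ⟨t, rfl⟩ := mem_upper_iff.mp hb
    have ht : t ≠ 0 := fun h => hb1 (by rw [h, upEl_zero])
    refine ⟨loEl t⁻¹, mem_lower_iff.mpr ⟨_, rfl⟩, fun h => ?_, (sl2_conj_eq (inv_mul_cancel₀ ht)).symm⟩
    exact inv_ne_zero ht (loEl_inj (h.trans loEl_zero.symm))

theorem sl2_abelian : HasAbelianUnipotents (lowerUnipotentSL2 k) (upperUnipotentSL2 k) := by
  refine ⟨⟨⟨fun x y => Subtype.ext ?_⟩⟩, ⟨⟨fun x y => Subtype.ext ?_⟩⟩⟩
  · obtain ⟨s, hs⟩ := mem_lower_iff.mp x.2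
    obtain ⟨t, ht⟩ := mem_lower_iff.mp y.2
    simp only [Subgroup.coe_mul, hs, ht, loEl_mul, add_comm]
  · obtain ⟨s, hs⟩ := mem_upper_iff.mp x.2
    obtain ⟨t, ht⟩ := mem_upper_iff.mp y.2
    simp only [Subgroup.coe_mul, hs, ht, upEl_mul, add_comm]

theorem sl2_isSpecial : IsSpecialRankOnePair (lowerUnipotentSL2 k) (upperUnipotentSL2 k) := by
  refine ⟨sl2_isRankOnePair, fun a ha ha1 b hb hb1 he => ?_⟩
  obtain ⟨s, rfl⟩ := mem_lower_iff.mp ha
  have hs : s ≠ 0 := fun h => ha1 (by rw [h, loEl_zero])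
  have hb' : b = upEl s⁻¹ := b_unique sl2_isRankOnePair hb (mem_upper_iff.mpr ⟨_, rfl⟩)
    (he.trans (sl2_conj_eq (mul_inv_cancel₀ hs)).symm)
  subst hb'
  rw [upEl_inv, loEl_inv]
  apply Subtype.ext
  rw [up_lo_up, lo_up_lo]
  ext i j; fin_cases i <;> fin_cases j <;> simp <;> field_simp <;> first | ring1 | simp | skip

end Cfsg.Lib.RootSub
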