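import Mathlib
import Cfsg.Agent.RootSub.SL2
import Cfsg.Agent.Classical.Misc.SLTwoGen

/-!
# Generation of `SL₂(k(α))` by `k` above and `k α` below
-/

set_option autoImplicit false
set_option linter.unusedSectionVars false
set_option linter.unusedVariables false
set_option linter.unusedSimpArgs false
set_option linter.style.haveILetI false

open Matrix

namespace Cfsg.Lib.RootSub

local notation "SL2" K => Matrix.SpecialLinearGroup (Fin 2) K

section Basic

variable {K : Type*} [Field K]

/-- Conjugation by `diag(s, 1)` on matrices. -/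
def scaleMat (s : K) (A : Matrix (Fin 2) (Fin 2) K) : Matrix (Fin 2) (Fin 2) K :=
  !![A 0 0, s * A 0 1; A 1 0 / s, A 1 1]

theorem scaleMat_mul {s : K} (hs : s ≠ 0) (A B : Matrix (Fin 2) (Fin 2) K) :
    scaleMat s (A * B) = scaleMat s A * scaleMat s B := by
  ext i j
  fin_cases i <;> fin_cases j <;> simp [scaleMat, Matrix.mul_apply, Fin.sum_univ_two] <;> field_simp <;> ring

theorem scaleMat_det {s : K} (hs : s ≠ 0) (A : Matrix (Fin 2) (Fin 2) K) : (scaleMat s A).det = A.det := by
  rw [scaleMat, Matrix.det_fin_two_of, Matrix.det_fin_two]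
  field_simp

theorem scaleMat_one (s : K) : scaleMat s 1 = 1 := by
  ext i j
  fin_cases i <;> fin_cases j <;> simp [scaleMat]

/-- Conjugation by `diag(s, 1)`. -/
def scaleHom (s : K) (hs : s ≠ 0) : (SL2 K) →* (SL2 K) where
  toFun M := ⟨scaleMat s M.1, (scaleMat_det hs M.1).trans M.2⟩
  map_one' := Subtype.ext (scaleMat_one s)
  map_mul' M N := Subtype.ext (scaleMat_mul hs M.1 N.1)

theorem scaleHom_coe (s : K) (hs : s ≠ 0) (M : SL2 K) : (scaleHom s hs M).1 = scaleMat s M.1 := rfl

theorem scaleHom_up (s : K) (hs : s ≠ 0) (x : K) : scaleHom s hs (upEl x) = upEl (s * x) := by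
  apply Subtype.ext
  rw [scaleHom_coe]
  ext i j
  fin_cases i <;> fin_cases j <;> simp [scaleMat, upEl_coe]

theorem scaleHom_lo (s : K) (hs : s ≠ 0) (x : K) : scaleHom s hs (loEl x) = loEl (x / s) := by
  apply Subtype.ext
  rw [scaleHom_coe]
  ext i j
  fin_cases i <;> fin_cases j <;> simp [scaleMat, loEl_coe]

/-- Conjugation by `!![0, 1; -a, 0]` on matrices. -/
def swapMat (a : K) (A : Matrix (Fin 2) (Fin 2) K) : Matrix (Fin 2) (Fin 2) K :=
  !![A 1 1, -(A 1 0) / a; -a * A 0 1, A 0 0]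

theorem swapMat_mul {a : K} (ha : a ≠ 0) (A B : Matrix (Fin 2) (Fin 2) K) :
    swapMat a (A * B) = swapMat a A * swapMat a B := by
  ext i j
  fin_cases i <;> fin_cases j <;> simp [swapMat, Matrix.mul_apply, Fin.sum_univ_two] <;> field_simp <;> ring

theorem swapMat_det {a : K} (ha : a ≠ 0) (A : Matrix (Fin 2) (Fin 2) K) : (swapMat a A).det = A.det := by
  rw [swapMat, Matrix.det_fin_two_of, Matrix.det_fin_two]
  field_simp

theorem swapMat_one (a : K) : swapMat a 1 = 1 := by
  ext i j
  fin_cases i <;> fin_cases j <;> simp [swapMat]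

/-- Conjugation by `!![0, 1; -a, 0]`. -/
def swapHom (a : K) (ha : a ≠ 0) : (SL2 K) →* (SL2 K) where
  toFun M := ⟨swapMat a M.1, (swapMat_det ha M.1).trans M.2⟩
  map_one' := Subtype.ext (swapMat_one a)
  map_mul' M N := Subtype.ext (swapMat_mul ha M.1 N.1)

theorem swapHom_coe (a : K) (ha : a ≠ 0) (M : SL2 K) : (swapHom a ha M).1 = swapMat a M.1 := rfl

theorem swapHom_up (a : K) (ha : a ≠ 0) (x : K) : swapHom a ha (upEl x) = loEl (-a * x) := by
  apply Subtype.ext
  rw [swapHom_coe]
  ext i j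
  fin_cases i <;> fin_cases j <;> simp [swapMat, upEl_coe, loEl_coe]

theorem swapHom_lo (a : K) (ha : a ≠ 0) (x : K) : swapHom a ha (loEl x) = upEl (-x / a) := by
  apply Subtype.ext
  rw [swapHom_coe]
  ext i j
  fin_cases i <;> fin_cases j <;> simp [swapMat, upEl_coe, loEl_coe]

theorem upEl_mulVec (x u v : K) : ((upEl x : SL2 K) : Matrix (Fin 2) (Fin 2) K) *ᵥ ![u, v] = ![u + x * v, v] := by
  funext i
  fin_cases i <;> simp [upEl, Matrix.mulVec, dotProduct, Fin.sum_univ_two]

theorem loEl_mulVec (x u v : K) : ((loEl x : SL2 K) : Matrix (Fin 2) (Fin 2) K) *ᵥ ![u, v] = ![u, x * u + v] := by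
  funext i
  fin_cases i <;> simp [loEl, Matrix.mulVec, dotProduct, Fin.sum_univ_two]

/-- An element sending the second basis vector to a multiple of the first conjugates lower to upper. -/
theorem conj_loEl_of_col (h : SL2 K) (a y : K) (h01 : h.1 0 1 = a) (h11 : h.1 1 1 = 0) :
    h * loEl y * h⁻¹ = upEl (-(a ^ 2) * y) := by
  have hd := h.2
  rw [Matrix.det_fin_two, h01, h11] at hd
  rw [mul_inv_eq_iff_eq_mul]
  apply Subtype.ext
  rw [Matrix.SpecialLinearGroup.coe_mul, Matrix.SpecialLinearGroup.coe_mul, upEl_coe, loEl_coe]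
  ext i j
  fin_cases i <;> fin_cases j <;> simp [Matrix.mul_apply, Fin.sum_univ_two, h01, h11] <;>
    linear_combination (-(a * y)) * hd

end Basic

section Gen

variable (k : Type*) {K : Type*} [Field k] [Field K] [Algebra k K] (α : K)

/-- The subgroup generated by `k` above and `k α` below. -/
def mixGen : Subgroup (SL2 K) :=
  Subgroup.closure (Set.range (fun c : k => upEl (algebraMap k K c)) ∪
    Set.range fun c : k => loEl (algebraMap k K c * α))

variable {k α}

theorem mixGen_map_le (ψ : (SL2 K) →* (SL2 K)) (hu : ∀ c : k, ψ (upEl (algebraMap k K c)) ∈ mixGen k α)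
    (hl : ∀ c : k, ψ (loEl (algebraMap k K c * α)) ∈ mixGen k α) {g : SL2 K} (hg : g ∈ mixGen k α) :
    ψ g ∈ mixGen k α := by
  suffices mixGen k α ≤ (mixGen k α).comap ψ from this hg
  rw [mixGen, Subgroup.closure_le]
  rintro _ (⟨c, rfl⟩ | ⟨c, rfl⟩)
  exacts [hu c, hl c]

theorem up_base_mem (c : k) : upEl (algebraMap k K c) ∈ mixGen k α := Subgroup.subset_closure (Or.inl ⟨c, rfl⟩)

theorem lo_base_mem (c : k) : loEl (algebraMap k K c * α) ∈ mixGen k α := Subgroup.subset_closure (Or.inr ⟨c, rfl⟩)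

variable (hα : α ≠ 0)
include hα

theorem swap_mem {g : SL2 K} (hg : g ∈ mixGen k α) : swapHom α hα g ∈ mixGen k α := by
  refine mixGen_map_le _ (fun c => ?_) (fun c => ?_) hg
  · rw [swapHom_up]
    convert lo_base_mem (α := α) (-c) using 2
    rw [map_neg]; ring
  · rw [swapHom_lo]
    convert up_base_mem (α := α) (-c) using 2
    rw [map_neg]; field_simp

theorem scale_mem {s : k} (hs : algebraMap k K s ≠ 0) {g : SL2 K} (hg : g ∈ mixGen k α) :
    scaleHom (algebraMap k K s) hs g ∈ mixGen k α := by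
  refine mixGen_map_le _ (fun c => ?_) (fun c => ?_) hg
  · rw [scaleHom_up, ← map_mul]
    exact up_base_mem _
  · rw [scaleHom_lo, mul_div_right_comm, ← map_div₀]
    exact lo_base_mem _

/-- The upper entries of the group. -/
def upperPart : Submodule k K where
  carrier := {x | upEl x ∈ mixGen k α}
  add_mem' {x y} hx hy := by
    change upEl (x + y) ∈ mixGen k α
    rw [← upEl_mul]
    exact mul_mem hx hy
  zero_mem' := by
    change upEl (0 : K) ∈ mixGen k α
    rw [upEl_zero]
    exact one_mem _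
  smul_mem' s x hx := by
    change upEl (s • x) ∈ mixGen k α
    rw [Algebra.smul_def]
    by_cases hs : algebraMap k K s = 0
    · rw [hs, zero_mul, upEl_zero]; exact one_mem _
    · rw [← scaleHom_up _ hs]
      exact scale_mem hα hs hx

theorem mem_upperPart {x : K} : x ∈ upperPart hα (k := k) ↔ upEl x ∈ mixGen k α := Iff.rfl

theorem lo_mem_of_upper {x : K} (hx : x ∈ upperPart hα (k := k)) : loEl (α * x) ∈ mixGen k α := by
  have h := swap_mem hα ((mem_upperPart hα).mp ((upperPart hα).neg_mem hx))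
  rwa [swapHom_up, neg_mul_neg] at h

theorem one_mem_upperPart : (1 : K) ∈ upperPart hα (k := k) := by
  rw [mem_upperPart, ← map_one (algebraMap k K)]
  exact up_base_mem _

theorem mixGen_eq_top (h : upperPart hα (k := k) = ⊤) : mixGen k α = ⊤ := by
  rw [eq_top_iff, ← lower_sup_upper]
  refine sup_le (fun g hg => ?_) fun g hg => ?_
  · obtain ⟨t, rfl⟩ := mem_lower_iff.mp hg
    have h' := lo_mem_of_upper hα (h ▸ Submodule.mem_top : t / α ∈ upperPart hα (k := k))
    rwa [mul_div_cancel₀ _ hα] at h'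
  · obtain ⟨t, rfl⟩ := mem_upper_iff.mp hg
    exact (mem_upperPart hα).mp (h ▸ Submodule.mem_top)

theorem upperPart_top_of_pow (pb : PowerBasis k K) (hg : pb.gen = α)
    (h : ∀ i : ℕ, α ^ i ∈ upperPart hα (k := k)) : upperPart hα (k := k) = ⊤ := by
  rw [eq_top_iff, ← pb.basis.span_eq, Submodule.span_le]
  rintro _ ⟨i, rfl⟩
  rw [pb.basis_eq_pow, hg]
  exact h i

theorem mixGen_finite [Finite K] (h2 : (2 : k) ≠ 0) (h3 : Nat.card k ≠ 3) (pb : PowerBasis k K)
    (hg : pb.gen = α) : mixGen k α = ⊤ := by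
  classical
  haveI : Finite k := Finite.of_injective _ (algebraMap k K).injective
  obtain ⟨c, hc0, hc⟩ : ∃ c : k, c ≠ 0 ∧ (algebraMap k K c * α) ^ 2 ≠ -1 := by
    by_contra hcon
    push Not at hcon
    have h1 : α ^ 2 = -1 := by simpa using hcon 1 one_ne_zero
    have hsq : ∀ c : k, c = 0 ∨ c = 1 ∨ c = -1 := by
      intro c
      by_cases hc : c = 0
      · exact Or.inl hc
      have e := hcon c hc
      rw [mul_pow, h1, ← map_pow] at e
      exact Or.inr (sq_eq_one_iff.mp ((algebraMap k K).injective (by rw [map_one]; linear_combination -e)))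
    haveI := Fintype.ofFinite k
    have hle : Nat.card k ≤ 3 := by
      rw [Nat.card_eq_fintype_card]
      calc Fintype.card k ≤ ({0, 1, -1} : Finset k).card :=
            Finset.card_le_card fun c _ => by simpa [Finset.mem_insert] using hsq c
        _ ≤ 3 := Finset.card_le_three
    have h1' : 1 < Nat.card k := Finite.one_lt_card
    have h2' : Nat.card k ≠ 2 := fun e => h2 (by
      have := Nat.card_eq_fintype_card (α := k)
      exact_mod_cast (show ((Fintype.card k : ℕ) : k) = 0 from Nat.cast_card_eq_zero k) |>.symm ▸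
        (by rw [← this, e]; norm_num : ((Fintype.card k : ℕ) : k) = 2) |>.symm)
    omega
  set β := algebraMap k K c * α with hβ
  have hβ0 : β ≠ 0 := mul_ne_zero ((map_ne_zero _).mpr hc0) hα
  set F := Subfield.closure ({β} : Set K) with hF
  haveI : Fintype F := Fintype.ofFinite F
  let l : F := ⟨β, Subfield.subset_closure rfl⟩
  have hl : l ≠ 0 := fun e => hβ0 (congrArg Subtype.val e)
  have hgen : Subfield.closure ({l} : Set F) = ⊤ := by
    rw [eq_top_iff]
    rintro ⟨x, hx⟩ -
    have : (Subfield.closure ({l} : Set F)).map F.subtype = F := by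
      rw [RingHom.map_field_closure, Set.image_singleton]; rfl
    rw [← this] at hx
    obtain ⟨y, hy, he⟩ := hx
    exact (Subtype.ext he : y = ⟨x, _⟩) ▸ hy
  have hF2 : (2 : F) ≠ 0 := fun e => h2 ((algebraMap k K).injective (by
    rw [map_ofNat, map_zero]; exact congrArg Subtype.val e))
  let φ : (SL2 F) →* (SL2 K) :=
    (scaleHom β⁻¹ (inv_ne_zero hβ0)).comp (Matrix.SpecialLinearGroup.map F.subtype)
  rcases Cfsg.Lib.Classical.SLTwoGen.dickson_gen hF2 l hl hgen with ⟨hD, -⟩ | ⟨-, hl2, -⟩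
  swap
  · exact absurd (congrArg Subtype.val hl2) hc
  have hle : (Cfsg.Lib.Classical.SLTwoGen.gen l).map φ ≤ mixGen k α := by
    rw [Subgroup.map_le_iff_le_comap, Cfsg.Lib.Classical.SLTwoGen.gen, ← Cfsg.Lib.Classical.SLTwoGen.set_eq,
      Subgroup.closure_le]
    rintro g (hgm | hgm)
    · have e : φ g = loEl β := by
        apply Subtype.ext
        change scaleMat β⁻¹ (F.subtype.mapMatrix g.1) = _
        rw [loEl_coe]
        ext i j
        fin_cases i <;> fin_cases j <;> simp [scaleMat, hgm]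
      change φ g ∈ mixGen k α
      rw [e]
      exact lo_base_mem c
    · have e : φ g = upEl 1 := by
        apply Subtype.ext
        change scaleMat β⁻¹ (F.subtype.mapMatrix g.1) = _
        rw [upEl_coe]
        ext i j
        fin_cases i <;> fin_cases j <;> simp [scaleMat, hgm, l, hβ0]
      change φ g ∈ mixGen k α
      rw [e, ← map_one (algebraMap k K)]
      exact up_base_mem 1
  refine mixGen_eq_top hα (upperPart_top_of_pow hα pb hg fun i => ?_)
  have hmem : β ^ i ∈ upperPart hα (k := k) := by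
    rw [mem_upperPart]
    refine hle ⟨upEl (l ^ (i + 1)), hD ▸ Subgroup.mem_top _, ?_⟩
    apply Subtype.ext
    change scaleMat β⁻¹ (F.subtype.mapMatrix (upEl (l ^ (i + 1))).1) = _
    rw [upEl_coe, upEl_coe]
    ext a b
    fin_cases a <;> fin_cases b <;> simp [scaleMat, l, pow_succ', hβ0, inv_mul_cancel_left₀]
  have := (upperPart hα (k := k)).smul_mem (c ^ i)⁻¹ hmem
  rwa [hβ, mul_pow, ← map_pow, ← Algebra.smul_def, inv_smul_smul₀ (pow_ne_zero i hc0)] at this

/-- The multipliers of the upper part. -/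
def multPart : Subalgebra k K where
  carrier := {r | ∀ x ∈ upperPart hα (k := k), r * x ∈ upperPart hα (k := k)}
  mul_mem' {a b} ha hb := fun x hx => by rw [mul_assoc]; exact ha _ (hb x hx)
  add_mem' {a b} ha hb := fun x hx => by rw [add_mul]; exact add_mem (ha x hx) (hb x hx)
  algebraMap_mem' c := fun x hx => by rw [← Algebra.smul_def]; exact Submodule.smul_mem _ _ hx

theorem mem_multPart {r : K} :
    r ∈ multPart hα (k := k) ↔ ∀ x ∈ upperPart hα (k := k), r * x ∈ upperPart hα (k := k) := Iff.rfl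

omit hα

variable (k α) in
/-- Span of the first `j` powers. -/
def powSpan (j : ℕ) : Submodule k K := Submodule.span k (Set.range fun i : Fin j => α ^ (i : ℕ))

theorem pow_mem_powSpan {i j : ℕ} (h : i < j) : α ^ i ∈ powSpan k α j := Submodule.subset_span ⟨⟨i, h⟩, rfl⟩

theorem powSpan_mono {i j : ℕ} (h : i ≤ j) : powSpan k α i ≤ powSpan k α j := by
  rw [powSpan, Submodule.span_le]
  rintro _ ⟨a, rfl⟩
  exact pow_mem_powSpan (lt_of_lt_of_le a.2 h)

theorem mul_mem_powSpan {x : K} {j : ℕ} (hx : x ∈ powSpan k α j) : α * x ∈ powSpan k α (j + 1) := by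
  induction hx using Submodule.span_induction with
  | mem y hy =>
    obtain ⟨a, rfl⟩ := hy
    rw [← pow_succ']
    exact pow_mem_powSpan (Nat.succ_lt_succ a.2)
  | zero => rw [mul_zero]; exact zero_mem _
  | add x y _ _ hx hy => rw [mul_add]; exact add_mem hx hy
  | smul c x _ hx => rw [mul_smul_comm]; exact Submodule.smul_mem _ _ hx

/-- No element of `powSpan j` is orthogonal to it, for the functional `L` shifted by `e`. -/
def ShiftNondeg (L : K →ₗ[k] k) (e j : ℕ) : Prop :=
  ∀ x ∈ powSpan k α j, (∀ i < j, L (x * α ^ (i + e)) = 0) → x = 0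

theorem shiftNondeg_of_det (L : K →ₗ[k] k) (e j : ℕ)
    (h : (Matrix.of fun a b : Fin j => L (α ^ ((a : ℕ) + b + e))).det ≠ 0) : ShiftNondeg (α := α) L e j := by
  intro x hx h0
  obtain ⟨c, rfl⟩ := (Submodule.mem_span_range_iff_exists_fun k).mp hx
  have hc : c = 0 := by
    refine Matrix.eq_zero_of_mulVec_eq_zero h (funext fun a => ?_)
    have := h0 a a.2
    rw [Finset.sum_mul, map_sum] at this
    rw [Pi.zero_apply, ← this]
    simp only [Matrix.mulVec, dotProduct, Matrix.of_apply]
    refine Finset.sum_congr rfl fun b _ => ?_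
    rw [smul_mul_assoc, map_smul, smul_eq_mul, ← pow_add, mul_comm]
    congr 3
    omega
  simp [hc]

include hα

theorem step_reach (pb : PowerBasis k K) (hg : pb.gen = α) (L : K →ₗ[k] k)
    (h0 : ∀ j < pb.dim, ShiftNondeg (α := α) L 0 (j + 1))
    (h1 : ∀ j, j + 1 < pb.dim → ShiftNondeg (α := α) L 1 (j + 1)) :
    ∀ j < pb.dim, ∃ p r : K, p - α ^ j ∈ powSpan k α j ∧ r - α ^ j ∈ powSpan k α j ∧
      (∀ i < j, L (p * α ^ i) = 0) ∧ (∀ i < j, L (r * α ^ (i + 1)) = 0) ∧
      ∃ h ∈ mixGen k α, ∃ s t : k, s ≠ 0 ∧ t ≠ 0 ∧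
        h.1 *ᵥ ![0, 1] = ![algebraMap k K s * r, algebraMap k K t * p] := by
  have hnot : ∀ j < pb.dim, α ^ j ∉ powSpan k α j := by
    intro j hj hm
    have hli : LinearIndependent k (fun i : Fin pb.dim => α ^ (i : ℕ)) := by
      have := pb.basis.linearIndependent
      rwa [show (pb.basis : Fin pb.dim → K) = fun i : Fin pb.dim => α ^ (i : ℕ) from
        funext fun i => by rw [pb.basis_eq_pow, hg]] at this
    refine hli.notMem_span_image (s := {i : Fin pb.dim | (i : ℕ) < j}) (x := ⟨j, hj⟩) (by simp)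
      (Submodule.span_mono ?_ hm)
    rintro _ ⟨a, rfl⟩
    exact ⟨⟨a, by omega⟩, a.2, rfl⟩
  have hmem : ∀ {x : K} {j : ℕ}, x - α ^ j ∈ powSpan k α j → x ∈ powSpan k α (j + 1) := by
    intro x j hx
    have := add_mem (powSpan_mono (Nat.le_succ j) hx) (pow_mem_powSpan (k := k) (α := α) (Nat.lt_succ_self j))
    rwa [sub_add_cancel] at this
  have hne : ∀ {x : K} {j : ℕ}, j < pb.dim → x - α ^ j ∈ powSpan k α j → x ≠ 0 := by
    intro x j hj hx h
    rw [h, zero_sub, Submodule.neg_mem_iff] at hx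
    exact hnot j hj hx
  intro j
  induction j with
  | zero =>
    intro _
    refine ⟨1, 1, by simp, by simp, fun i hi => absurd hi (Nat.not_lt_zero i), fun i hi => absurd hi (Nat.not_lt_zero i),
      upEl (algebraMap k K 1), up_base_mem 1, 1, 1, one_ne_zero, one_ne_zero, ?_⟩
    rw [upEl_mulVec]
    simp
  | succ j ih =>
    intro hj
    have hj' : j < pb.dim := by omega
    obtain ⟨p, r, hp, hr, hpo, hro, h, hh, s, t, hs, ht, hv⟩ := ih hj'
    have hh0 : L (p * α ^ j) ≠ 0 := fun e => hne hj' hp (h0 j hj' p (hmem hp) fun i hi => by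
      rcases Nat.lt_succ_iff_lt_or_eq.mp hi with hi | rfl
      exacts [hpo i hi, e])
    have hg0 : L (r * α ^ (j + 1)) ≠ 0 := fun e => hne hj' hr (h1 j hj r (hmem hr) fun i hi => by
      rcases Nat.lt_succ_iff_lt_or_eq.mp hi with hi | rfl
      exacts [hro i hi, e])
    set q := L (r * α ^ (j + 1)) / L (p * α ^ j) with hq
    have hq0 : q ≠ 0 := div_ne_zero hg0 hh0
    set p' := α * r - q • p with hp'
    have hp'o : ∀ i < j + 1, L (p' * α ^ i) = 0 := by
      intro i hi
      rw [hp', sub_mul, smul_mul_assoc, map_sub, map_smul, smul_eq_mul, mul_comm α r, mul_assoc, ← pow_succ']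
      rcases Nat.lt_succ_iff_lt_or_eq.mp hi with hi | rfl
      · rw [hro i hi, hpo i hi]; ring
      · rw [hq, div_mul_cancel₀ _ hh0, sub_self]
    have hp'm : p' - α ^ (j + 1) ∈ powSpan k α (j + 1) := by
      rw [show p' - α ^ (j + 1) = α * (r - α ^ j) - q • p by rw [hp', pow_succ']; ring]
      exact sub_mem (mul_mem_powSpan hr) (Submodule.smul_mem _ _ (hmem hp))
    have hp'0 : L (p' * α ^ (j + 1)) ≠ 0 := fun e => hne hj hp'm (h0 (j + 1) hj p' (hmem hp'm) fun i hi => by
      rcases Nat.lt_succ_iff_lt_or_eq.mp hi with hi | rfl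
      exacts [hp'o i hi, e])
    set d := L (p' * α ^ (j + 1)) / L (r * α ^ (j + 1)) with hd
    have hd0 : d ≠ 0 := div_ne_zero hp'0 hg0
    refine ⟨p', p' - d • r, hp'm, ?_, hp'o, fun i hi => ?_, ?_⟩
    · rw [sub_right_comm]
      exact sub_mem hp'm (Submodule.smul_mem _ _ (hmem hr))
    · rw [sub_mul, smul_mul_assoc, map_sub, map_smul, smul_eq_mul]
      rcases Nat.lt_succ_iff_lt_or_eq.mp hi with hi | rfl
      · rw [hro i hi, hp'o (i + 1) (Nat.succ_lt_succ hi), mul_zero, sub_zero]
      · rw [hd, div_mul_cancel₀ _ hg0, sub_self]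
    · refine ⟨upEl (algebraMap k K (s * q / (d * t))) * (loEl (algebraMap k K (-t / (q * s)) * α) * h),
        mul_mem (up_base_mem _) (mul_mem (lo_base_mem _) hh), -s / d, -t / q,
        div_ne_zero (neg_ne_zero.mpr hs) hd0, div_ne_zero (neg_ne_zero.mpr ht) hq0, ?_⟩
      rw [Matrix.SpecialLinearGroup.coe_mul, Matrix.SpecialLinearGroup.coe_mul, ← mulVec_mulVec, ← mulVec_mulVec,
        hv, loEl_mulVec, upEl_mulVec]
      have hs' : algebraMap k K s ≠ 0 := (map_ne_zero _).mpr hs
      have ht' : algebraMap k K t ≠ 0 := (map_ne_zero _).mpr ht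
      have hq' : algebraMap k K q ≠ 0 := (map_ne_zero _).mpr hq0
      have hd' : algebraMap k K d ≠ 0 := (map_ne_zero _).mpr hd0
      funext i
      fin_cases i <;> simp [map_div₀, map_neg, map_mul, hp', Algebra.smul_def] <;> field_simp <;> ring

theorem exists_torus (pb : PowerBasis k K) (hg : pb.gen = α) (L : K →ₗ[k] k)
    (h0 : ∀ j < pb.dim, ShiftNondeg (α := α) L 0 (j + 1))
    (h1 : ∀ j, j + 1 < pb.dim → ShiftNondeg (α := α) L 1 (j + 1)) :
    ∃ r : K, r ≠ 0 ∧ α * r ^ 2 ∈ multPart hα (k := k) ∧ ∀ i < pb.dim - 1, L (r * α ^ (i + 1)) = 0 := by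
  obtain ⟨m, hm⟩ : ∃ m, pb.dim = m + 1 := ⟨pb.dim - 1, by have := pb.dim_pos; omega⟩
  obtain ⟨p, r, hp, hr, hpo, hro, h, hh, s, t, hs, ht, hv⟩ := step_reach hα pb hg L h0 h1 m (by omega)
  have htop : powSpan k α (m + 1) = ⊤ := by
    rw [eq_top_iff, ← pb.basis.span_eq, Submodule.span_le]
    rintro _ ⟨i, rfl⟩
    rw [pb.basis_eq_pow, hg]
    exact pow_mem_powSpan (by have := i.2; omega)
  have hnz : ∀ x : K, (∀ i < m + 1, L (x * α ^ i) = 0) → x = 0 := fun x hx =>
    h0 m (by omega) x (htop ▸ Submodule.mem_top) hx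
  have hr0 : r ≠ 0 := by
    rintro rfl
    rw [mul_zero] at hv
    have h01 := congrFun hv 0
    simp [Matrix.mulVec, dotProduct, Fin.sum_univ_two] at h01
    have hd := h.2
    rw [Matrix.det_fin_two, h01] at hd
    have h11 := congrFun hv 1
    rw [zero_sub, Submodule.neg_mem_iff] at hr
    have hmem : ∀ i : Fin pb.dim, pb.basis i ∈ powSpan k α m := fun i => by
      rw [pb.basis_eq_pow, hg]
      by_cases hi : (i : ℕ) < m
      · exact pow_mem_powSpan hi
      · rwa [show (i : ℕ) = m by have := i.2; omega]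
    have hle : (⊤ : Submodule k K) ≤ powSpan k α m := by
      rw [← pb.basis.span_eq, Submodule.span_le]
      rintro _ ⟨i, rfl⟩
      exact hmem i
    haveI := pb.finite
    have hfr := Submodule.finrank_mono hle
    have h2 : Module.finrank k (powSpan k α m) ≤ m := (finrank_range_le_card _).trans_eq (Fintype.card_fin m)
    rw [finrank_top, pb.finrank] at hfr
    omega
  set q := L (r * α ^ (m + 1)) / L (p * α ^ m) with hq
  have hh0 : L (p * α ^ m) ≠ 0 := fun e => by
    have hp0 : p = 0 := hnz p fun i hi => by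
      rcases Nat.lt_succ_iff_lt_or_eq.mp hi with hi | rfl
      exacts [hpo i hi, e]
    subst hp0
    have hd := h.2
    have e1 := congrFun hv 1
    simp [Matrix.mulVec, dotProduct, Fin.sum_univ_two] at e1
    rw [zero_sub, Submodule.neg_mem_iff] at hp
    have hle : (⊤ : Submodule k K) ≤ powSpan k α m := by
      rw [← pb.basis.span_eq, Submodule.span_le]
      rintro _ ⟨i, rfl⟩
      rw [pb.basis_eq_pow, hg]
      by_cases hi : (i : ℕ) < m
      · exact pow_mem_powSpan hi
      · rwa [show (i : ℕ) = m by have := i.2; omega]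
    haveI := pb.finite
    have hfr := Submodule.finrank_mono hle
    have h2 : Module.finrank k (powSpan k α m) ≤ m := (finrank_range_le_card _).trans_eq (Fintype.card_fin m)
    rw [finrank_top, pb.finrank] at hfr
    omega
  have hlast : α * r = q • p := by
    rw [← sub_eq_zero]
    refine hnz _ fun i hi => ?_
    rw [sub_mul, smul_mul_assoc, map_sub, map_smul, smul_eq_mul, mul_comm α r, mul_assoc, ← pow_succ']
    rcases Nat.lt_succ_iff_lt_or_eq.mp hi with hi | rfl
    · rw [hro i hi, hpo i hi]; ring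
    · rw [hq, div_mul_cancel₀ _ hh0, sub_self]
  have hq0 : algebraMap k K q ≠ 0 := fun e => by
    rw [Algebra.smul_def, e, zero_mul, mul_eq_zero] at hlast
    exact hlast.elim hα hr0
  set g := loEl (algebraMap k K (-t / (q * s)) * α) * h with hgdef
  have hg' : g.1 *ᵥ ![0, 1] = ![algebraMap k K s * r, 0] := by
    rw [hgdef, Matrix.SpecialLinearGroup.coe_mul, ← mulVec_mulVec, hv, loEl_mulVec]
    have hs' : algebraMap k K s ≠ 0 := (map_ne_zero _).mpr hs
    rw [Algebra.smul_def] at hlast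
    funext i
    fin_cases i
    · simp
    · simp [map_div₀, map_neg, map_mul]
      field_simp
      linear_combination (-(algebraMap k K t)) * hlast
  have h01 := congrFun hg' 0
  have h11 := congrFun hg' 1
  simp [Matrix.mulVec, dotProduct, Fin.sum_univ_two] at h01 h11
  refine ⟨r, hr0, fun x hx => ?_, fun i hi => hro i (by omega)⟩
  have hc : g * loEl (α * x) * g⁻¹ ∈ mixGen k α :=
    mul_mem (mul_mem (mul_mem (lo_base_mem _) hh) (lo_mem_of_upper hα hx)) (inv_mem (mul_mem (lo_base_mem _) hh))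
  rw [conj_loEl_of_col g _ _ h01 h11] at hc
  have := (upperPart hα (k := k)).smul_mem (-(s ^ 2)⁻¹) ((mem_upperPart hα).mpr hc)
  rw [Algebra.smul_def, map_neg, map_inv₀, map_pow] at this
  have hs' : algebraMap k K s ≠ 0 := (map_ne_zero _).mpr hs
  convert this using 1
  field_simp

open MvPolynomial in
theorem exists_generic (pb : PowerBasis k K) (hg : pb.gen = α) :
    ∃ (L₀ : K →ₗ[k] k) (f : MvPolynomial (Fin pb.dim) k), (∀ x, (∀ y, L₀ (x * y) = 0) → x = 0) ∧ f ≠ 0 ∧
      ∀ θ : K, eval (pb.basis.repr θ) f ≠ 0 →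
        (∀ j < pb.dim, ShiftNondeg (α := α) (L₀.comp (LinearMap.mulLeft k θ)) 0 (j + 1)) ∧
        ∀ j, j + 1 < pb.dim → ShiftNondeg (α := α) (L₀.comp (LinearMap.mulLeft k θ)) 1 (j + 1) := by
  classical
  haveI := pb.finite
  have hn : 0 < pb.dim := pb.dim_pos
  let L₀ : K →ₗ[k] k := pb.basis.coord ⟨0, hn⟩
  have hL0 : ∀ x, (∀ y, L₀ (x * y) = 0) → x = 0 := by
    intro x hx
    by_contra h
    have := hx (x⁻¹ * pb.basis ⟨0, hn⟩)
    rw [mul_inv_cancel_left₀ h] at this
    simp only [L₀, Module.Basis.coord_apply, Module.Basis.repr_self, Finsupp.single_eq_same] at this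
    exact one_ne_zero this
  let Φ : K →ₗ[k] (Fin pb.dim → k) :=
    { toFun := fun θ i => L₀ (θ * α ^ (i : ℕ))
      map_add' := fun x y => funext fun i => by simp [add_mul]
      map_smul' := fun c x => funext fun i => by simp }
  have hΦ : Function.Surjective Φ := by
    rw [← LinearMap.injective_iff_surjective_of_finrank_eq_finrank (by simp [pb.finrank])]
    rw [← LinearMap.ker_eq_bot, LinearMap.ker_eq_bot']
    intro θ hθ
    refine hL0 θ fun y => ?_
    have : L₀.comp (LinearMap.mulLeft k θ) = 0 := pb.basis.ext fun i => by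
      rw [pb.basis_eq_pow, hg]
      exact congrFun hθ i
    exact LinearMap.congr_fun this y
  let M : ℕ → (j : ℕ) → Matrix (Fin j) (Fin j) (MvPolynomial (Fin pb.dim) k) := fun e j =>
    Matrix.of fun a b => ∑ i, C (L₀ (pb.basis i * α ^ ((a : ℕ) + b + e))) * X i
  have hM : ∀ e j (θ : K), eval (pb.basis.repr θ) (M e j).det =
      (Matrix.of fun a b : Fin j => (L₀.comp (LinearMap.mulLeft k θ)) (α ^ ((a : ℕ) + b + e))).det := by
    intro e j θ
    rw [RingHom.map_det]
    congr 1
    ext a b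
    simp only [M, RingHom.mapMatrix_apply, Matrix.map_apply, Matrix.of_apply, map_sum, map_mul, eval_C, eval_X,
      LinearMap.comp_apply, LinearMap.mulLeft_apply]
    conv_rhs => rw [← pb.basis.sum_repr θ, Finset.sum_mul, map_sum]
    exact Finset.sum_congr rfl fun i _ => by rw [smul_mul_assoc, map_smul, smul_eq_mul, mul_comm]
  have hwit : ∀ e j, j + e < pb.dim → (M e (j + 1)).det ≠ 0 := by
    intro e j hje h
    obtain ⟨θ, hθ⟩ := hΦ (Pi.single ⟨j + e, hje⟩ 1)
    have h' := hM e (j + 1) θ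
    rw [h, map_zero] at h'
    set A := Matrix.of fun a b : Fin (j + 1) => (L₀.comp (LinearMap.mulLeft k θ)) (α ^ ((a : ℕ) + b + e)) with hA
    have hval : ∀ a b : Fin (j + 1), (a : ℕ) + b ≤ j → A a b = if (a : ℕ) + b = j then 1 else 0 := by
      intro a b hab
      have := congrFun hθ ⟨(a : ℕ) + b + e, by omega⟩
      change L₀ (θ * α ^ ((a : ℕ) + b + e)) = _
      rw [show L₀ (θ * α ^ ((a : ℕ) + b + e)) = _ from this, Pi.single_apply]
      simp [Fin.ext_iff]
    set B := A.submatrix id Fin.revPerm with hB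
    have hBd : B.det = 1 := by
      rw [Matrix.det_of_lowerTriangular]
      · refine Finset.prod_eq_one fun a _ => ?_
        have hr := Fin.val_rev a
        have ha := a.2
        rw [hB, Matrix.submatrix_apply, id, Fin.revPerm_apply, hval _ _ (by omega), if_pos (by omega)]
      · intro a b hab
        have hab' : (a : ℕ) < b := hab
        have hr := Fin.val_rev b
        have hb := b.2
        rw [hB, Matrix.submatrix_apply, id, Fin.revPerm_apply, hval _ _ (by omega), if_neg (by omega)]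
    rw [hB, Matrix.det_permute', ← h', mul_zero] at hBd
    exact zero_ne_one hBd
  refine ⟨L₀, (∏ j : Fin pb.dim, (M 0 ((j : ℕ) + 1)).det) * ∏ j : Fin (pb.dim - 1), (M 1 ((j : ℕ) + 1)).det,
    hL0, mul_ne_zero (Finset.prod_ne_zero_iff.mpr fun j _ => hwit 0 j j.2)
      (Finset.prod_ne_zero_iff.mpr fun j _ => hwit 1 j (by have := j.2; omega)), fun θ hθ => ?_⟩
  rw [map_mul, map_prod, map_prod, mul_ne_zero_iff, Finset.prod_ne_zero_iff, Finset.prod_ne_zero_iff] at hθ
  refine ⟨fun j hj => shiftNondeg_of_det _ _ _ ?_, fun j hj => shiftNondeg_of_det _ _ _ ?_⟩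
  · rw [← hM]
    exact hθ.1 ⟨j, hj⟩ (Finset.mem_univ _)
  · rw [← hM]
    exact hθ.2 ⟨j, by omega⟩ (Finset.mem_univ _)

theorem mixGen_infinite [Infinite k] (h2 : (2 : k) ≠ 0) (pb : PowerBasis k K) (hg : pb.gen = α) :
    mixGen k α = ⊤ := by
  classical
  haveI := pb.finite
  obtain ⟨L₀, f, hL0, hf, hgood⟩ := exists_generic hα pb hg
  obtain ⟨c, hc⟩ : ∃ c, MvPolynomial.eval c f ≠ 0 := by
    by_contra h
    push Not at h
    exact hf (MvPolynomial.funext fun c => by rw [h c, map_zero])
  have hrepr : ∀ c : Fin pb.dim → k, (pb.basis.repr (∑ i, c i • pb.basis i) : Fin pb.dim → k) = c := fun c =>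
    funext fun i => congrFun (pb.basis.repr_sum_self c) i
  set θ₀ := ∑ i, c i • pb.basis i with hθ₀
  have hθg : MvPolynomial.eval (pb.basis.repr θ₀) f ≠ 0 := by rw [hθ₀, hrepr]; exact hc
  obtain ⟨hn0, hn1⟩ := hgood θ₀ hθg
  have hθne : ∀ θ : K, MvPolynomial.eval (pb.basis.repr θ) f ≠ 0 → θ ≠ 0 := by
    rintro θ hθ rfl
    have := (hgood 0 hθ).1 0 pb.dim_pos 1 (by simpa using pow_mem_powSpan (k := k) (α := α) (Nat.zero_lt_one))
      (fun i _ => by simp)
    exact one_ne_zero this
  obtain ⟨r₀, hr₀, hr₀R, hr₀o⟩ := exists_torus hα pb hg _ hn0 hn1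
  set γ := α * (θ₀ * r₀) ^ 2 with hγ
  have hγ0 : γ ≠ 0 := mul_ne_zero hα (pow_ne_zero _ (mul_ne_zero (hθne _ hθg) hr₀))
  set E := multPart hα (k := k) with hE
  have halg : Algebra.IsAlgebraic k K := Algebra.IsAlgebraic.of_finite k K
  have hinv : ∀ x ∈ E, x⁻¹ ∈ E := fun x hx =>
    Subalgebra.inv_mem_of_algebraic E (x := ⟨x, hx⟩) (Algebra.IsAlgebraic.isAlgebraic x)
  have key : ∀ θ : K, MvPolynomial.eval (pb.basis.repr θ) f ≠ 0 → θ ^ 2 * γ⁻¹ ∈ E := by
    intro θ hθ
    obtain ⟨g0, g1⟩ := hgood θ hθ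
    obtain ⟨r, hr, hrR, hro⟩ := exists_torus hα pb hg _ g0 g1
    obtain ⟨m, hm⟩ : ∃ m, pb.dim = m + 1 := ⟨pb.dim - 1, by have := pb.dim_pos; omega⟩
    have hz : ∀ z : K, (∀ i < m, L₀ (z * α ^ i) = 0) → L₀ (z * α ^ m) = 0 → z = 0 := by
      intro z h1 h2'
      refine hL0 z fun y => ?_
      have : L₀.comp (LinearMap.mulLeft k z) = 0 := pb.basis.ext fun i => by
        rw [pb.basis_eq_pow, hg]
        rcases Nat.lt_succ_iff_lt_or_eq.mp (hm ▸ i.2 : (i : ℕ) < m + 1) with hi | hi
        · exact h1 _ hi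
        · rw [hi]; exact h2'
      exact LinearMap.congr_fun this y
    set z := θ * (α * r) with hzdef
    set z₀ := θ₀ * (α * r₀) with hz0def
    have ha : ∀ i < m, L₀ (z * α ^ i) = 0 := fun i hi => by
      have := hro i (by omega)
      simp only [LinearMap.comp_apply, LinearMap.mulLeft_apply] at this
      rw [← this, hzdef, pow_succ']
      ring_nf
    have hb : ∀ i < m, L₀ (z₀ * α ^ i) = 0 := fun i hi => by
      have := hr₀o i (by omega)
      simp only [LinearMap.comp_apply, LinearMap.mulLeft_apply] at this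
      rw [← this, hz0def, pow_succ']
      ring_nf
    have hb0 : L₀ (z₀ * α ^ m) ≠ 0 := fun e =>
      mul_ne_zero (hθne _ hθg) (mul_ne_zero hα hr₀) (hz z₀ hb e)
    set μ := L₀ (z * α ^ m) / L₀ (z₀ * α ^ m) with hμ
    have he : z = μ • z₀ := by
      rw [← sub_eq_zero]
      refine hz _ (fun i hi => ?_) ?_
      · rw [sub_mul, smul_mul_assoc, map_sub, map_smul, ha i hi, hb i hi, smul_zero, sub_zero]
      · rw [sub_mul, smul_mul_assoc, map_sub, map_smul, smul_eq_mul, hμ, div_mul_cancel₀ _ hb0, sub_self]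
    have hμ0 : algebraMap k K μ ≠ 0 := fun e => by
      rw [Algebra.smul_def, e, zero_mul] at he
      exact mul_ne_zero (hθne θ hθ) (mul_ne_zero hα hr) he
    have h' := mul_mem (hinv _ hrR) (E.algebraMap_mem (μ ^ 2))
    rw [Algebra.smul_def, hzdef, hz0def] at he
    have he' : θ * r = algebraMap k K μ * (θ₀ * r₀) := mul_left_cancel₀ hα (by linear_combination he)
    have hθ0 := hθne θ hθ
    have hθ00 := hθne θ₀ hθg
    convert h' using 1
    rw [map_pow, hγ]
    field_simp
    first
      | linear_combination (θ * r + algebraMap k K μ * (θ₀ * r₀)) * he'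
      | linear_combination -(θ * r + algebraMap k K μ * (θ₀ * r₀)) * he'
  have hall : ∀ z : K, θ₀ * z * γ⁻¹ ∈ E := by
    intro z
    let P : Polynomial k := MvPolynomial.aeval
      (fun i => Polynomial.C (pb.basis.repr θ₀ i) + Polynomial.C (pb.basis.repr z i) * Polynomial.X) f
    have hP : ∀ t, P.eval t = MvPolynomial.eval (pb.basis.repr (θ₀ + t • z)) f := by
      intro t
      rw [← Polynomial.coe_aeval_eq_eval]
      change Polynomial.aeval t (MvPolynomial.aeval _ f) = _
      rw [MvPolynomial.comp_aeval_apply, MvPolynomial.aeval_eq_eval]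
      congr 2
      funext i
      simp only [map_add, map_mul, Polynomial.aeval_C, Polynomial.aeval_X, map_smul, Finsupp.add_apply,
        Finsupp.smul_apply, smul_eq_mul, Algebra.algebraMap_self, RingHom.id_apply]
      ring
    have hP0 : P ≠ 0 := fun h => hθg (by
      have h' := hP 0
      rw [h, Polynomial.eval_zero, zero_smul, add_zero] at h'
      exact h'.symm)
    have hfin := Polynomial.finite_setOf_isRoot hP0
    obtain ⟨t₁, ht₁⟩ := (hfin.union (Set.finite_singleton 0)).infinite_compl.nonempty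
    obtain ⟨t₂, ht₂⟩ := (hfin.union ({0, t₁} : Set k).toFinite).infinite_compl.nonempty
    simp only [Set.mem_compl_iff, Set.mem_union, Set.mem_setOf_eq, Polynomial.IsRoot.def, Set.mem_singleton_iff,
      Set.mem_insert_iff, not_or, hP] at ht₁ ht₂
    have a := key θ₀ hθg
    have b := key _ ht₁.1
    have d := key _ ht₂.1
    have hd' : (algebraMap k K) (2 * (t₁ * t₂ * (t₂ - t₁))) ≠ 0 := (map_ne_zero _).mpr
      (mul_ne_zero h2 (mul_ne_zero (mul_ne_zero ht₁.2 ht₂.2.1) (sub_ne_zero.mpr ht₂.2.2)))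
    have hsum := E.smul_mem (sub_mem (E.smul_mem (sub_mem b a) (t₂ ^ 2)) (E.smul_mem (sub_mem d a) (t₁ ^ 2)))
      (2 * (t₁ * t₂ * (t₂ - t₁)))⁻¹
    convert hsum using 1
    simp only [Algebra.smul_def, map_inv₀, map_pow]
    rw [eq_inv_mul_iff_mul_eq₀ hd']
    simp only [map_mul, map_sub, map_ofNat]
    ring
  refine mixGen_eq_top hα (eq_top_iff.mpr fun x _ => ?_)
  have := hall (x * γ / θ₀)
  have hθ0 := hθne θ₀ hθg
  rw [show θ₀ * (x * γ / θ₀) * γ⁻¹ = x by field_simp] at this
  simpa using (mem_multPart hα).mp this 1 (one_mem_upperPart hα)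

end Gen

/-- The group generated by `k` above and `k α` below consists of all matrices over `k(α)`. -/
theorem dickson_extension {k K : Type*} [Field k] [Field K] [Algebra k K] (h2 : (2 : k) ≠ 0) (h3 : Nat.card k ≠ 3)
    (α : K) (hα : IsAlgebraic k α) (hα0 : α ≠ 0) :
    (Subgroup.closure ({g : SL2 K | ∃ c : k, (g : Matrix (Fin 2) (Fin 2) K) = !![1, algebraMap k K c; 0, 1]} ∪
        {g : SL2 K | ∃ c : k, (g : Matrix (Fin 2) (Fin 2) K) = !![1, 0; algebraMap k K c * α, 1]}) :
      Set (SL2 K)) =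
    {g : SL2 K | ∀ i j : Fin 2, (g : Matrix (Fin 2) (Fin 2) K) i j ∈ IntermediateField.adjoin k ({α} : Set K)} := by
  classical
  have hset : ({g : SL2 K | ∃ c : k, (g : Matrix (Fin 2) (Fin 2) K) = !![1, algebraMap k K c; 0, 1]} ∪
      {g : SL2 K | ∃ c : k, (g : Matrix (Fin 2) (Fin 2) K) = !![1, 0; algebraMap k K c * α, 1]}) =
      Set.range (fun c : k => upEl (algebraMap k K c)) ∪ Set.range fun c : k => loEl (algebraMap k K c * α) := by
    ext g
    simp only [Set.mem_union, Set.mem_setOf_eq, Set.mem_range]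
    exact or_congr (exists_congr fun c => ⟨fun h => (Subtype.ext h).symm, fun h => h ▸ rfl⟩)
      (exists_congr fun c => ⟨fun h => (Subtype.ext h).symm, fun h => h ▸ rfl⟩)
  set F := IntermediateField.adjoin k ({α} : Set K) with hF
  let pb := IntermediateField.adjoin.powerBasis hα.isIntegral
  let a : F := IntermediateField.AdjoinSimple.gen k α
  have ha : a ≠ 0 := fun h => hα0 (congrArg Subtype.val h)
  have htop : mixGen k a = ⊤ := by
    rcases finite_or_infinite k with hk | hk
    · haveI := pb.finite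
      haveI : Finite F := Module.finite_of_finite k
      exact mixGen_finite ha h2 h3 pb rfl
    · exact mixGen_infinite ha h2 pb rfl
  let φ : (SL2 F) →* (SL2 K) := Matrix.SpecialLinearGroup.map F.val.toRingHom
  have hup : ∀ x : F, φ (upEl x) = upEl (x : K) := fun x => by
    apply Subtype.ext
    change F.val.toRingHom.mapMatrix (upEl x).1 = _
    rw [upEl_coe, upEl_coe]
    ext i j
    fin_cases i <;> fin_cases j <;> simp
  have hlo : ∀ x : F, φ (loEl x) = loEl (x : K) := fun x => by
    apply Subtype.ext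
    change F.val.toRingHom.mapMatrix (loEl x).1 = _
    rw [loEl_coe, loEl_coe]
    ext i j
    fin_cases i <;> fin_cases j <;> simp
  have hmap : (mixGen k a).map φ = Subgroup.closure
      (Set.range (fun c : k => upEl (algebraMap k K c)) ∪ Set.range fun c : k => loEl (algebraMap k K c * α)) := by
    rw [mixGen, MonoidHom.map_closure, Set.image_union, ← Set.range_comp, ← Set.range_comp]
    congr 3
    · funext c; exact hup _
    · funext c; exact hlo _
  rw [hset, ← hmap, htop, ← MonoidHom.range_eq_map]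
  ext g
  constructor
  · rintro ⟨M, rfl⟩ i j
    exact (M.1 i j).2
  · intro hg
    refine ⟨⟨Matrix.of fun i j => (⟨g.1 i j, hg i j⟩ : F), Subtype.ext ?_⟩, Subtype.ext (by ext i j; rfl)⟩
    have hd := g.2
    rw [Matrix.det_fin_two] at hd
    rw [Matrix.det_fin_two]
    exact hd

end Cfsg.Lib.RootSub
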