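import Cfsg.Agent.RootSub.CommCase

/-!
# Components of the graph of rank one pairs
-/

set_option autoImplicit false
set_option linter.unusedSectionVars false
set_option linter.unusedVariables false
set_option linter.style.haveILetI false

open Subgroup
open Cfsg

namespace Cfsg.Lib.RootSub

open scoped commutatorElement

variable {G : Type*} [Group G] {S : Set (Subgroup G)} {A B C D E P : Subgroup G}

theorem not_pair_conj_commute (hS : IsRootSubgroupSet S) (hA : A ∈ S) (hB : B ∈ S) (h : ¬ IsRankOnePair A B)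
    {x : G} (hx : x ∈ A) : ∀ y ∈ conjBy B x, ∀ b ∈ B, y * b = b * y := by
  intro y hy b hb
  rw [mem_conjBy] at hy
  have c2 : Commute (x⁻¹ * y * x) b := abelian_comm hS hB hy hb
  have e : y = ⁅x, x⁻¹ * y * x⁆ * (x⁻¹ * y * x) := by rw [commutatorElement_def]; group
  have hmem : ⁅x, x⁻¹ * y * x⁆ ∈ ⁅A, B⁆ := Subgroup.commutator_mem_commutator hx hy
  have c1 : Commute ⁅x, x⁻¹ * y * x⁆ b := by
    rcases hS.pair A hA B hB with h0 | hr | hc
    · rw [h0, Subgroup.mem_bot] at hmem
      rw [hmem]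
      exact Commute.one_left b
    · exact absurd hr h
    · exact hc.2.1 _ hmem b (mem_sup_right hb)
  rw [e]
  exact (c1.mul_left c2).eq

/-- A root element which is a product of two commuting root elements is adjacent to the partners of the first factor,
if the second factor is not. -/
theorem pair_of_product (hS : IsRootSubgroupSet S) (hA : A ∈ S) (hP : P ∈ S) (hAP : IsRankOnePair A P)
    (hB : B ∈ S) (hAB : ∀ a ∈ A, ∀ b ∈ B, a * b = b * a) (hBP : ¬ IsRankOnePair B P)
    (hC : C ∈ S) {a b : G} (ha : a ∈ A) (ha1 : a ≠ 1) (hb : b ∈ B) (habC : a * b ∈ C) : IsRankOnePair C P := by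
  by_contra hCP
  have hfixA : conjBy A b = A := conjBy_eq_self_iff.mpr
    (Subgroup.centralizer_le_normalizer _ (mem_centralizer_iff.mpr fun x hx => hAB x hx b hb))
  set P' := conjBy P b with hP'
  have hAP' : IsRankOnePair A P' := by
    have := conj_pair hAP b
    rwa [hfixA] at this
  have h1 := not_pair_conj_commute hS hB hP hBP hb
  have h2 : ∀ y ∈ conjBy P' a, ∀ p ∈ P, y * p = p * y := by
    intro y hy p hp
    rw [hP', conjBy_conjBy] at hy
    exact not_pair_conj_commute hS hC hP hCP habC y hy p hp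
  have hne : conjBy P' a ≠ P' := fun h => ha1 (eq_one_of_normalizes hAP' ha h)
  have hsup : P' ⊔ conjBy P' a = A ⊔ P' := sup_eq_of_unipotent hAP' (right_mem hAP')
    (unipotent_conj (mem_sup_left ha) (right_mem hAP')) hne.symm
  obtain ⟨p, hp, hne'⟩ := not_commute hAP ha ha1
  have hle : P' ⊔ conjBy P' a ≤ centralizer {p} := sup_le
    (fun y hy => mem_centralizer_singleton_iff.mpr (h1 y hy p hp))
    (fun y hy => mem_centralizer_singleton_iff.mpr (h2 y hy p hp))
  exact hne' (mem_centralizer_singleton_iff.mp (hle (hsup ▸ mem_sup_left ha)))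

theorem fadj_symm {Λ : Set (Subgroup G)} {A B : Subgroup G} (h : FAdj Λ A B) : FAdj Λ B A :=
  ⟨h.2.1, h.1, RankOnePair_symm h.2.2⟩

theorem freach_symm {Λ : Set (Subgroup G)} {A B : Subgroup G} (h : Relation.ReflTransGen (FAdj Λ) A B) :
    Relation.ReflTransGen (FAdj Λ) B A := by
  induction h with
  | refl => exact .refl
  | tail _ hbc ih => exact Relation.ReflTransGen.head (fadj_symm hbc) ih

theorem freach_mem (hA : A ∈ S) (h : Relation.ReflTransGen (FAdj S) A B) : B ∈ S := by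
  rcases Relation.ReflTransGen.cases_tail h with rfl | ⟨c, -, hc⟩
  · exact hA
  · exact hc.2.1

theorem component_eq_iff (hA : A ∈ S) (hB : B ∈ S) :
    componentOf (FAdj S) S A = componentOf (FAdj S) S B ↔ Relation.ReflTransGen (FAdj S) A B := by
  constructor
  · intro h
    exact ((Set.ext_iff.mp h B).mpr ⟨hB, .refl⟩).2
  · intro h
    ext C
    exact and_congr_right fun _ => ⟨fun h' => (freach_symm h).trans h', fun h' => h.trans h'⟩

/-- Two commuting members, some product of whose elements is a root element, lie in the same component. -/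
theorem reach_of_product (hS : IsRootSubgroupSet S) (hA : A ∈ S) (hB : B ∈ S) (hC : C ∈ S)
    (hA' : ∃ P ∈ S, IsRankOnePair A P) (hB' : ∃ Q ∈ S, IsRankOnePair B Q)
    (hAB : ∀ a ∈ A, ∀ b ∈ B, a * b = b * a) {a b : G} (ha : a ∈ A) (ha1 : a ≠ 1) (hb : b ∈ B) (hb1 : b ≠ 1)
    (habC : a * b ∈ C) : Relation.ReflTransGen (FAdj S) A B := by
  obtain ⟨P, hP, hAP⟩ := hA'
  obtain ⟨Q, hQ, hBQ⟩ := hB'
  by_cases hBP : IsRankOnePair B P
  · exact (Relation.ReflTransGen.single ⟨hA, hP, hAP⟩).tail ⟨hP, hB, RankOnePair_symm hBP⟩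
  by_cases hAQ : IsRankOnePair A Q
  · exact (Relation.ReflTransGen.single ⟨hA, hQ, hAQ⟩).tail ⟨hQ, hB, RankOnePair_symm hBQ⟩
  have hCP := pair_of_product hS hA hP hAP hB hAB hBP hC ha ha1 hb habC
  have hCQ := pair_of_product hS hB hQ hBQ hA (fun x hx y hy => (hAB y hy x hx).symm) hAQ hC hb hb1 ha
    (hAB a ha b hb ▸ habC)
  exact (((Relation.ReflTransGen.single ⟨hA, hP, hAP⟩).tail ⟨hP, hC, RankOnePair_symm hCP⟩).tail
    ⟨hC, hQ, hCQ⟩).tail ⟨hQ, hB, RankOnePair_symm hBQ⟩

theorem reach_conj (hS : IsRootSubgroupSet S) (g : G) (h : Relation.ReflTransGen (FAdj S) A B) :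
    Relation.ReflTransGen (FAdj S) (conjBy A g) (conjBy B g) :=
  by
  induction h with
  | refl => exact .refl
  | tail _ hbc ih => exact ih.tail ⟨hS.conj_mem _ hbc.1 g, hS.conj_mem _ hbc.2.1 g, conj_pair hbc.2.2 g⟩

theorem reach_conj_root (hS : IsRootSubgroupSet S) (hA : A ∈ S) (hB : B ∈ S) (hB' : ∃ Q ∈ S, IsRankOnePair B Q)
    {a : G} (ha : a ∈ A) : Relation.ReflTransGen (FAdj S) B (conjBy B a) := by
  by_cases heq : conjBy B a = B
  · rw [heq]
  rcases hS.pair B hB A hA with h0 | hr | hc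
  · exfalso
    refine heq (conjBy_eq_self_iff.mpr (Subgroup.centralizer_le_normalizer _ (mem_centralizer_iff.mpr fun x hx => ?_)))
    exact commute_of_bot h0 hx ha
  · exact (Relation.ReflTransGen.single ⟨hB, hA, hr⟩).tail ⟨hA, hS.conj_mem B hB a, by
      have := conj_pair (RankOnePair_symm hr) a
      rwa [conjBy_self ha] at this⟩
  · obtain ⟨Q, hQ, hBQ⟩ := hB'
    obtain ⟨b, hb, hb1⟩ := exists_ne_one hBQ
    obtain ⟨hQ', hBQ'⟩ := conj_pair_mem hS hQ hBQ a
    obtain ⟨b', hb', hb'1⟩ := exists_ne_one hBQ'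
    have hle := line_le hS hB hA hc.1 ha
    have hmem : b * b' ∈ B ⊔ ⁅B, A⁆ := mul_mem (mem_sup_left hb) (hle hb')
    have hne1 : b * b' ≠ 1 := fun h => hb1 (by
      rw [← Subgroup.mem_bot, ← (inf_bot_or_eq hS hB hQ hBQ (hS.conj_mem B hB a)).resolve_right (Ne.symm heq)]
      exact ⟨hb, show b ∈ conjBy B a from (eq_inv_of_mul_eq_one_left h) ▸ inv_mem hb'⟩)
    obtain ⟨C, hC, hbC⟩ := (line_partition hS hB hQ hBQ hA hc.1).2.1 _ hmem hne1
    refine reach_of_product hS hB (hS.conj_mem B hB a) hC.1 ⟨Q, hQ, hBQ⟩ ⟨_, hQ', hBQ'⟩ ?_ hb hb1 hb' hb'1 hbC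
    intro x hx y hy
    have hy' := hle hy
    have hcomm : B ⊔ ⁅B, A⁆ ≤ centralizer {x} := sup_le
      (fun z hz => mem_centralizer_singleton_iff.mpr (abelian_comm hS hB hz hx))
      (fun z hz => mem_centralizer_singleton_iff.mpr (hc.2.1 z hz x (mem_sup_left hx)))
    exact (mem_centralizer_singleton_iff.mp (hcomm hy')).symm

theorem reach_conj_any (hS : IsRootSubgroupSet S) (hF : ∀ A ∈ S, ∃ P ∈ S, IsRankOnePair A P) (hB : B ∈ S) (g : G) :
    Relation.ReflTransGen (FAdj S) B (conjBy B g) := by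
  let K : Subgroup G :=
    { carrier := {g | ∀ B ∈ S, Relation.ReflTransGen (FAdj S) B (conjBy B g)}
      one_mem' := fun B hB => by rw [conjBy_one]
      mul_mem' := fun {g h} hg hh B hB => by
        rw [← conjBy_conjBy]
        exact (hh B hB).trans (hg _ (hS.conj_mem B hB h))
      inv_mem' := fun {g} hg B hB => by
        have := hg _ (hS.conj_mem B hB g⁻¹)
        rw [conjBy_conjBy, mul_inv_cancel, conjBy_one] at this
        exact freach_symm this }
  have hle : (⊤ : Subgroup G) ≤ K := by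
    rw [← hS.generates]
    exact iSup₂_le fun A hA a ha B hB => reach_conj_root hS hA hB (hF B hB) ha
  exact hle (mem_top g) B hB

theorem conj_of_reach (h : Relation.ReflTransGen (FAdj S) A B) : ∃ g : G, B = conjBy A g := by
  induction h with
  | refl => exact ⟨1, conjBy_one.symm⟩
  | tail _ hbc ih =>
    obtain ⟨g, rfl⟩ := ih
    obtain ⟨x, -, hx⟩ := right_mem hbc.2.2
    exact ⟨x * g, hx.trans (conjBy_conjBy g x)⟩

theorem connected_iff_class (hS : IsRootSubgroupSet S) (h2 : ∃ A ∈ S, ∃ B ∈ S, A ≠ B) :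
    IsConnectedFamily (FAdj S) S ↔ (IsConjClassOfSubgroups S ∧ ∃ A ∈ S, ¬ IsIsolatedIn (FAdj S) S A) := by
  obtain ⟨A₀, hA₀, B₀, hB₀, hne⟩ := h2
  constructor
  · intro h
    refine ⟨⟨⟨A₀, hA₀⟩, fun A hA B hB => conj_of_reach (h A hA B hB)⟩, A₀, hA₀, fun hiso => ?_⟩
    rcases Relation.ReflTransGen.cases_head (h A₀ hA₀ B₀ hB₀) with h' | ⟨c, hc, -⟩
    · exact hne h'
    · exact (hiso.2 c).1 hc
  · rintro ⟨⟨-, hcl⟩, A, hA, hAiso⟩
    obtain ⟨P, hP, hAP⟩ := exists_partner hS hA hAiso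
    have hF : ∀ B ∈ S, ∃ Q ∈ S, IsRankOnePair B Q := fun B hB => by
      obtain ⟨g, rfl⟩ := hcl A hA B hB
      exact ⟨_, conj_pair_mem hS hP hAP g⟩
    intro X hX Y hY
    obtain ⟨g, rfl⟩ := hcl X hX Y hY
    exact reach_conj_any hS hF hX g

theorem not_linePartner (hS : IsRootSubgroupSet S) (hA : A ∈ S) (hB : B ∈ S)
    (hA' : ∃ P ∈ S, IsRankOnePair A P) (hB' : ∃ Q ∈ S, IsRankOnePair B Q)
    (hne : ¬ Relation.ReflTransGen (FAdj S) A B) : B ∉ linePartners S A := by
  rintro ⟨⟨-, hBA, hcomm⟩, -, hcov, -⟩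
  obtain ⟨P, hP, hAP⟩ := hA'
  obtain ⟨a, ha, ha1⟩ := exists_ne_one hAP
  obtain ⟨b, hb, hb1⟩ := B.bot_or_exists_ne_one.resolve_left (hS.ne_bot B hB)
  have hab1 : a * b ≠ 1 := fun h => ha1 (by
    rw [← Subgroup.mem_bot, ← (inf_bot_or_eq hS hA hP hAP hB).resolve_right (Ne.symm hBA)]
    exact ⟨ha, show a ∈ B from (eq_inv_of_mul_eq_one_left h) ▸ inv_mem hb⟩)
  obtain ⟨C, hC, habC⟩ := hcov _ (mul_mem (mem_sup_left ha) (mem_sup_right hb)) hab1
  exact hne (reach_of_product hS hA hB hC.1 ⟨P, hP, hAP⟩ hB' (fun x hx y hy => commute_of_bot hcomm hx hy)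
    ha ha1 hb hb1 habC)

theorem partner_of_component (hA : A ∈ S) (h : ∃ A' ∈ componentOf (FAdj S) S A, A' ≠ A) :
    ∃ P ∈ S, IsRankOnePair A P := by
  obtain ⟨A', ⟨-, hr⟩, hne⟩ := h
  rcases Relation.ReflTransGen.cases_head hr with h' | ⟨c, hc, -⟩
  · exact absurd h'.symm hne
  · exact ⟨c, hc.2.1, hc.2.2⟩

/-! ### Homomorphic images -/

theorem map_pair {H : Type*} [Group H] (f : G →* H) (h : IsRankOnePair A B) (hne : A.map f ≠ B.map f) :
    IsRankOnePair (A.map f) (B.map f) := by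
  have hconj : ∀ (C : Subgroup G) (g : G), (conjBy C g).map f = conjBy (C.map f) (f g) := fun C g => by
    rw [conjBy, conjBy, Subgroup.map_map, Subgroup.map_map]
    congr 1
    ext x
    simp
  haveI := h.nilpotent_left
  haveI := h.nilpotent_right
  refine ⟨hne, Group.nilpotent_of_surjective (f := f.subgroupMap A) (MonoidHom.subgroupMap_surjective f A),
    Group.nilpotent_of_surjective (f := f.subgroupMap B) (MonoidHom.subgroupMap_surjective f B), ?_, ?_⟩
  all_goals
    rintro _ ⟨a, ha, rfl⟩ ha1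
    have ha1' : a ≠ 1 := fun h' => ha1 (by rw [h', map_one])
  · obtain ⟨b, hb, -, he⟩ := h.cond_left a ha ha1'
    have he' := congrArg (Subgroup.map f) he
    rw [hconj, hconj, map_inv, map_inv] at he'
    refine ⟨f b, Subgroup.mem_map_of_mem f hb, fun h' => hne ?_, he'⟩
    rw [h', inv_one, conjBy_one] at he'
    have := congrArg (fun S => conjBy S (f a)) he'
    simp only [conjBy_conjBy, mul_inv_cancel, conjBy_one, conjBy_self (Subgroup.mem_map_of_mem f ha)] at this
    exact this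
  · obtain ⟨b, hb, -, he⟩ := h.cond_right a ha ha1'
    have he' := congrArg (Subgroup.map f) he
    rw [hconj, hconj, map_inv, map_inv] at he'
    refine ⟨f b, Subgroup.mem_map_of_mem f hb, fun h' => hne ?_, he'⟩
    rw [h', inv_one, conjBy_one] at he'
    have := congrArg (fun S => conjBy S (f a)) he'
    simp only [conjBy_conjBy, mul_inv_cancel, conjBy_one, conjBy_self (Subgroup.mem_map_of_mem f ha)] at this
    exact this.symm

theorem map_rootSet {H : Type*} [Group H] (f : G →* H) (hf : Function.Surjective f) (hS : IsRootSubgroupSet S)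
    (hne : ∀ A ∈ S, A.map f ≠ ⊥) : IsRootSubgroupSet ((fun A : Subgroup G => A.map f) '' S) := by
  refine ⟨?_, ?_, ?_, ?_, ?_⟩
  · rintro _ ⟨A, hA, rfl⟩
    refine ⟨⟨fun x y => Subtype.ext ?_⟩⟩
    obtain ⟨a, ha, hax⟩ := x.2
    obtain ⟨b, hb, hby⟩ := y.2
    simp only [Subgroup.coe_mul, ← hax, ← hby, ← map_mul, abelian_comm hS hA ha hb]
  · rintro _ ⟨A, hA, rfl⟩
    exact hne A hA
  · rw [iSup_image, ← Subgroup.map_top_of_surjective f hf, ← hS.generates, Subgroup.map_iSup]
    exact iSup_congr fun A => (Subgroup.map_iSup _ _).symm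
  · rintro _ ⟨A, hA, rfl⟩ h
    obtain ⟨g, rfl⟩ := hf h
    refine ⟨conjBy A g, hS.conj_mem A hA g, ?_⟩
    show (conjBy A g).map f = _
    rw [conjBy, conjBy, Subgroup.map_map, Subgroup.map_map]
    congr 1
    ext x
    simp
  · rintro _ ⟨A, hA, rfl⟩ _ ⟨B, hB, rfl⟩
    by_cases heq : A.map f = B.map f
    · left
      show ⁅A.map f, B.map f⁆ = ⊥
      rw [← heq, ← Subgroup.map_commutator, Subgroup.map_eq_bot_iff]
      intro x hx
      have hbot : ⁅A, A⁆ = ⊥ := by
        rw [Subgroup.commutator_eq_bot_iff_le_centralizer]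
        exact fun a ha => mem_centralizer_iff.mpr fun a' ha' => abelian_comm hS hA ha' ha
      rw [hbot, Subgroup.mem_bot] at hx
      rw [hx]; exact one_mem _
    rcases hS.pair A hA B hB with h0 | hr | ⟨hc, hcen, hg1, hg2⟩
    · left
      show ⁅A.map f, B.map f⁆ = ⊥
      rw [← Subgroup.map_commutator, h0, Subgroup.map_bot]
    · exact Or.inr (Or.inl (map_pair f hr heq))
    · refine Or.inr (Or.inr ⟨⟨_, hc, Subgroup.map_commutator _ _ _⟩, ?_, ?_, ?_⟩)
      · show ∀ c ∈ ⁅A.map f, B.map f⁆, _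
        rw [← Subgroup.map_commutator]
        rintro _ ⟨c, hc', rfl⟩ x hx
        rw [← Subgroup.map_sup] at hx
        obtain ⟨y, hy, rfl⟩ := hx
        rw [← map_mul, ← map_mul, hcen c hc' y hy]
      · rintro _ ⟨a, ha, rfl⟩ ha1
        have := congrArg (Subgroup.map f) (hg1 a ha fun h => ha1 (by rw [h, map_one]))
        rw [MonoidHom.map_closure, Subgroup.map_commutator, Set.image_image] at this
        rw [Subgroup.coe_map, Set.image_image]
        simpa only [map_mul, map_inv] using this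
      · rintro _ ⟨b, hb, rfl⟩ hb1
        have := congrArg (Subgroup.map f) (hg2 b hb fun h => hb1 (by rw [h, map_one]))
        rw [MonoidHom.map_closure, Subgroup.map_commutator, Set.image_image] at this
        rw [Subgroup.coe_map, Set.image_image]
        simpa only [map_mul, map_inv] using this

theorem map_connected {H : Type*} [Group H] (f : G →* H) (hc : IsConnectedFamily (FAdj S) S) :
    IsConnectedFamily (FAdj ((fun A : Subgroup G => A.map f) '' S)) ((fun A : Subgroup G => A.map f) '' S) := by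
  rintro _ ⟨A, hA, rfl⟩ _ ⟨B, hB, rfl⟩
  have h := hc A hA B hB
  induction h with
  | refl => exact .refl
  | @tail X Y _ hbc ih =>
    show Relation.ReflTransGen _ (A.map f) (Y.map f)
    by_cases he : X.map f = Y.map f
    · rw [← he]; exact ih hbc.1
    · exact (ih hbc.1).tail ⟨⟨X, hbc.1, rfl⟩, ⟨Y, hbc.2.1, rfl⟩, map_pair f hbc.2.2 he⟩

end Cfsg.Lib.RootSub
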