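import Cfsg.Agent.RootSub.CommCase
import Cfsg.Agent.RootSub.Components

/-!
# The members on a line are permuted doubly transitively
-/

set_option autoImplicit false
set_option linter.unusedSectionVars false
set_option linter.unusedVariables false
set_option linter.style.haveILetI false

open Subgroup
open Cfsg

namespace Cfsg.Lib.RootSub

open scoped commutatorElement

variable {G : Type*} [Group G] {S : Set (Subgroup G)} {A B C E F P : Subgroup G}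

/-- A member not adjacent to a partner of its line partner. -/
theorem line_commutator (hS : IsRootSubgroupSet S) (hA : A ∈ S) (hP : P ∈ S) (hAP : IsRankOnePair A P)
    (hB : B ∈ S) (hBA : B ≠ A) (hB' : ∃ Q ∈ S, IsRankOnePair B Q) (hAB : ∀ a ∈ A, ∀ b ∈ B, a * b = b * a)
    (hcov : ∀ x ∈ A ⊔ B, x ≠ 1 → ∃ C ∈ S, x ∈ C) (hBP : ¬ IsRankOnePair B P) :
    ⁅B, P⁆ ∈ S ∧ ⁅A, ⁅B, P⁆⁆ = B := by
  obtain ⟨Q, hQ, hBQ⟩ := hB'
  have hinf : ∀ x, x ∈ A → x ∈ B → x = 1 := fun x hx hx' => by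
    rw [← Subgroup.mem_bot, ← (inf_bot_or_eq hS hA hP hAP hB).resolve_right (Ne.symm hBA)]
    exact ⟨hx, hx'⟩
  have hzAP : ∀ {z : G}, (∀ x ∈ A, z * x = x * z) → (∀ x ∈ P, z * x = x * z) → ∀ x ∈ A ⊔ P, z * x = x * z := by
    intro z h1 h2 x hx
    have hle : A ⊔ P ≤ centralizer {z} := sup_le (fun x hx => mem_centralizer_singleton_iff.mpr (h1 x hx).symm)
      (fun x hx => mem_centralizer_singleton_iff.mpr (h2 x hx).symm)
    exact (mem_centralizer_singleton_iff.mp (hle hx)).symm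
  have hF : ⁅B, P⁆ ∈ S := by
    rcases hS.pair B hB P hP with h0 | hr | hc
    · exfalso
      obtain ⟨a, ha, ha1⟩ := exists_ne_one hAP
      obtain ⟨b, hb, hb1⟩ := exists_ne_one hBQ
      have hne : a * b ≠ 1 := fun h => ha1 (hinf a ha ((eq_inv_of_mul_eq_one_left h) ▸ inv_mem hb))
      obtain ⟨C, hC, habC⟩ := hcov _ (mul_mem (mem_sup_left ha) (mem_sup_right hb)) hne
      exact hb1 (root_shift hS hA hP hAP (hzAP (fun x hx => (hAB x hx b hb).symm)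
        (fun x hx => commute_of_bot h0 hb hx)) ha ha1 hC (hAB a ha b hb ▸ habC)).1
    · exact absurd hr hBP
    · exact hc.1
  refine ⟨hF, ?_⟩
  obtain ⟨-, hcen, hgenB, hgenP⟩ := commutator_case hS hB hP hF
  have hPB : ⁅P, B⁆ ∈ S := by rw [Subgroup.commutator_comm]; exact hF
  set F := ⁅B, P⁆ with hFdef
  have hFB : ∀ f ∈ F, ∀ b ∈ B, Commute f b := fun f hf b hb => hcen f hf b (mem_sup_left hb)
  have hFP : ∀ f ∈ F, ∀ p ∈ P, Commute f p := fun f hf p hp => hcen f hf p (mem_sup_right hp)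
  have hPBF : ⁅P, B⁆ = F := Subgroup.commutator_comm P B
  -- the partner data
  obtain ⟨p, hp, hp1⟩ := exists_ne_one (RankOnePair_symm hAP)
  obtain ⟨a, ha, ha1, he⟩ := hAP.cond_right p hp hp1
  set g := p * a⁻¹ with hg
  have hgP : conjBy P g = A := by
    rw [hg, ← conjBy_conjBy, he, conjBy_conjBy, mul_inv_cancel, conjBy_one]
  have hgB : conjBy B g = conjBy B p := by
    rw [hg, ← conjBy_conjBy]
    congr 1
    exact conjBy_eq_self_iff.mpr (Subgroup.centralizer_le_normalizer _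
      (mem_centralizer_iff.mpr fun b hb => (hAB a⁻¹ (inv_mem ha) b hb).symm))
  have hmap : ⁅A, conjBy B p⁆ = conjBy F g := by
    rw [← hgB, ← hgP, hFdef, Subgroup.commutator_comm B P]
    exact (Subgroup.map_commutator _ _ _).symm
  have hsurj : ∀ f ∈ F, ∃ b ∈ B, ⁅p, b⁆ = f := fun f hf => by
    obtain ⟨b, hb⟩ := commHom_surjective hS hP hB hPB (a := ⟨p, hp⟩) hp1 ⟨f, hPBF.symm ▸ hf⟩
    exact ⟨b, b.2, congrArg Subtype.val hb⟩
  have hpb : ∀ b ∈ B, ⁅p, b⁆ ∈ F := fun b hb => hPBF ▸ Subgroup.commutator_mem_commutator hp hb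
  have hcomb : ∀ a' ∈ A, ∀ b ∈ B, ∀ f ∈ F, ⁅a', f * b⁆ = ⁅a', f⁆ := by
    intro a' ha' b hb f hf
    have h1 : b * a'⁻¹ = a'⁻¹ * b := (hAB a'⁻¹ (inv_mem ha') b hb).symm
    rw [commutatorElement_def, commutatorElement_def, mul_inv_rev,
      show a' * (f * b) * a'⁻¹ * (b⁻¹ * f⁻¹) = a' * f * (b * a'⁻¹) * b⁻¹ * f⁻¹ by group, h1]
    group
  have hEeq : ⁅A, F⁆ = conjBy F g := by
    rw [← hmap]
    refine le_antisymm ?_ ?_
    · rw [Subgroup.commutator_le]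
      intro a' ha' f hf
      obtain ⟨b, hb, rfl⟩ := hsurj f hf
      have hmem : ⁅p, b⁆ * b ∈ conjBy B p := by
        rw [commutatorElement_def, mem_conjBy]
        simpa [mul_assoc] using hb
      rw [← hcomb a' ha' b hb _ (hpb b hb)]
      exact Subgroup.commutator_mem_commutator ha' hmem
    · rw [Subgroup.commutator_le]
      intro a' ha' y hy
      rw [mem_conjBy] at hy
      have e : y = ⁅p, p⁻¹ * y * p⁆ * (p⁻¹ * y * p) := by rw [commutatorElement_def]; group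
      rw [e, hcomb a' ha' _ hy _ (hpb _ hy)]
      exact Subgroup.commutator_mem_commutator ha' (hpb _ hy)
  have hES : ⁅A, F⁆ ∈ S := hEeq ▸ hS.conj_mem F hF g
  obtain ⟨-, hcenE, -, -⟩ := commutator_case hS hA hF hES
  set E := ⁅A, F⁆ with hEdef
  have hEA : ∀ x ∈ E, ∀ y ∈ A, Commute x y := fun x hx y hy => hcenE x hx y (mem_sup_left hy)
  have hEF : ∀ x ∈ E, ∀ y ∈ F, Commute x y := fun x hx y hy => hcenE x hx y (mem_sup_right hy)
  have hES' : ⁅A, conjBy B p⁆ ∈ S := hmap ▸ hS.conj_mem F hF g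
  have hEB : ∀ x ∈ E, ∀ y ∈ B, Commute x y := by
    intro x hx y hy
    have hx' : x ∈ ⁅A, conjBy B p⁆ := by rw [hmap, ← hEeq]; exact hx
    have hmem : ⁅p, y⁆ * y ∈ conjBy B p := by rw [commutatorElement_def, mem_conjBy]; simpa [mul_assoc] using hy
    have h1 : Commute x (⁅p, y⁆ * y) := (commutator_case hS hA (hS.conj_mem B hB p) hES').2.1 x hx' _ (mem_sup_right hmem)
    have h2 := (hEF x hx _ (hpb y hy)).inv_right.mul_right h1
    rwa [inv_mul_cancel_left] at h2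
  -- a concrete element
  obtain ⟨f, hf, hf1⟩ := F.bot_or_exists_ne_one.resolve_left (hS.ne_bot F hF)
  set e := ⁅a⁻¹, f⁆ with he'
  have heE : e ∈ E := Subgroup.commutator_mem_commutator (inv_mem ha) hf
  have he1 : e ≠ 1 := fun h => hf1 (congrArg Subtype.val
    ((injective_iff_map_eq_one _).mp (commHom_injective hS hA hP hAP hF hES (a := ⟨a⁻¹, inv_mem ha⟩) (inv_ne_one.mpr ha1))
      ⟨f, hf⟩ (Subtype.ext h)))
  set e₂ := g * f * g⁻¹ with he₂
  have he₂E : e₂ ∈ E := by rw [hEeq, mem_conjBy]; simpa [he₂, mul_assoc] using hf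
  have he₂1 : e₂ ≠ 1 := fun h => hf1 (conj_eq_one_iff.mp h)
  have hpe : p * e * p⁻¹ = e₂ * f⁻¹ := by
    have h1 : p * f * p⁻¹ = f := by rw [← (hFP f hf p hp).eq, mul_inv_cancel_right]
    rw [he₂, hg, he', commutatorElement_def]
    calc p * (a⁻¹ * f * a⁻¹⁻¹ * f⁻¹) * p⁻¹ = (p * a⁻¹) * f * (p * a⁻¹)⁻¹ * (p * f * p⁻¹)⁻¹ := by group
      _ = _ := by rw [h1]
  have hEP : ⁅P, E⁆ ∈ S := by
    rcases hS.pair P hP E hES with h0 | hr | hc
    · exfalso
      rw [commute_of_bot h0 hp heE, mul_inv_cancel_right] at hpe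
      have hfE : f ∈ E := by
        have : f = e⁻¹ * e₂ := by rw [hpe]; simpa using (hEF e₂ he₂E f hf).symm.eq
        rw [this]; exact mul_mem (inv_mem heE) he₂E
      have := hEA f hfE a⁻¹ (inv_mem ha)
      exact he1 (commutatorElement_eq_one_iff_mul_comm.mpr this.symm.eq)
    · exfalso
      have hr' := RankOnePair_symm hr
      have hz : ∀ x ∈ E ⊔ P, f⁻¹ * x = x * f⁻¹ := by
        intro x hx
        have hle : E ⊔ P ≤ centralizer {f⁻¹} := sup_le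
          (fun x hx => mem_centralizer_singleton_iff.mpr (hEF x hx f hf).inv_right.eq)
          (fun x hx => mem_centralizer_singleton_iff.mpr (hFP f hf x hx).inv_left.symm.eq)
        exact (mem_centralizer_singleton_iff.mp (hle hx)).symm
      refine hf1 (inv_eq_one.mp (root_shift hS hES hP hr' hz he₂E he₂1 (hS.conj_mem E hES p) ?_).1)
      rw [← (hEF e₂ he₂E f hf).inv_right.eq, ← hpe, mem_conjBy]
      simpa [mul_assoc] using heE
    · exact hc.1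
  have hee : e₂ = e := by
    have h0 : ⁅p, e⁆ = e₂ * f⁻¹ * e⁻¹ := by rw [commutatorElement_def, hpe]
    have h1 : Commute p (e₂ * f⁻¹ * e⁻¹) := h0 ▸
      ((commutator_case hS hP hES hEP).2.1 _ (Subgroup.commutator_mem_commutator hp heE) p (mem_sup_left hp) :
        Commute ⁅p, e⁆ p).symm
    have h2 : e₂ * f⁻¹ * e⁻¹ = (e₂ * e⁻¹) * f⁻¹ := by
      rw [mul_assoc, ← (hEF e heE f hf).inv_left.inv_right.eq, ← mul_assoc]
    rw [h2] at h1
    have h3 : Commute p (e₂ * e⁻¹) := by simpa using h1.mul_right (hFP f hf p hp).symm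
    exact mul_inv_eq_one.mp (congrArg Subtype.val ((injective_iff_map_eq_one _).mp
      (commHom_injective hS hP hA (RankOnePair_symm hAP) hES hEP (a := ⟨p, hp⟩) hp1)
      ⟨e₂ * e⁻¹, mul_mem he₂E (inv_mem heE)⟩ (Subtype.ext (commutatorElement_eq_one_iff_mul_comm.mpr h3.eq))))
  rw [hee] at hpe
  obtain ⟨b', hb', hpb'⟩ := hsurj f⁻¹ (inv_mem hf)
  have hb'1 : b' ≠ 1 := fun h => hf1 (by rw [h, commutatorElement_one_right] at hpb'; exact inv_eq_one.mp hpb'.symm)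
  set z := e⁻¹ * b' with hzdef
  have hpb'' : p * b' * p⁻¹ = f⁻¹ * b' := by rw [← hpb', commutatorElement_def]; group
  have hzp : z * p = p * z := by
    have h1 : p * z * p⁻¹ = (p * e * p⁻¹)⁻¹ * (p * b' * p⁻¹) := by rw [hzdef]; group
    rw [hpe, hpb'', mul_inv_rev, inv_inv, (hEF e heE f hf).inv_left.symm.eq] at h1
    have h2 : p * z * p⁻¹ = z := by rw [h1, hzdef]; group
    exact (mul_inv_eq_iff_eq_mul.mp h2).symm
  have hzA : ∀ x ∈ A, z * x = x * z := fun x hx =>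
    ((hEA e heE x hx).inv_left.mul_left (hAB x hx b' hb' : Commute x b').symm).eq
  have hzY : ∀ x ∈ A ⊔ P, z * x = x * z := by
    have hne : conjBy A p ≠ A := fun h => hp1 (eq_one_of_normalizes (RankOnePair_symm hAP) hp h)
    have hsup : A ⊔ conjBy A p = A ⊔ P :=
      sup_eq_of_unipotent hAP (left_mem A P) ⟨p, mem_sup_right hp, rfl⟩ hne.symm
    intro x hx
    rw [← hsup] at hx
    have hle : A ⊔ conjBy A p ≤ centralizer {z} := sup_le
      (fun x hx => mem_centralizer_singleton_iff.mpr (hzA x hx).symm)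
      (fun x hx => by
        rw [mem_conjBy] at hx
        have c1 : Commute z p := hzp
        have c2 : Commute z (p⁻¹ * x * p) := hzA _ hx
        have c3 := (c1.mul_right c2).mul_right c1.inv_right
        exact mem_centralizer_singleton_iff.mpr (by simpa [mul_assoc] using c3.symm.eq))
    exact (mem_centralizer_singleton_iff.mp (hle hx)).symm
  obtain ⟨a₀, ha₀, ha₀1⟩ := exists_ne_one hAP
  have hae : a₀ * e ∉ E := fun h => ha₀1 (by
    rw [← Subgroup.mem_bot, ← inf_commutator hS hA hP hAP hF hES]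
    exact ⟨ha₀, show a₀ ∈ E by simpa using mul_mem h (inv_mem heE)⟩)
  obtain ⟨f', hf', hf'mem⟩ := mem_line hS hA hP hAP hF hES (mul_mem (mem_sup_left ha₀) (mem_sup_right heE)) hae
  have hPf : conjBy P f' = P := conjBy_eq_self_iff.mpr (Subgroup.centralizer_le_normalizer _
    (mem_centralizer_iff.mpr fun x hx => (hFP f' hf' x hx).symm.eq))
  have hA1P : IsRankOnePair (conjBy A f') P := hPf ▸ conj_pair hAP f'
  have hzF : ∀ x ∈ F, Commute z x := fun x hx => (hEF e heE x hx).inv_left.mul_left (hFB x hx b' hb').symm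
  have hz1 : ∀ x ∈ conjBy A f' ⊔ P, z * x = x * z := by
    intro x hx
    have hle : conjBy A f' ⊔ P ≤ centralizer {z} := sup_le
      (fun x hx => by
        rw [mem_conjBy] at hx
        have c1 : Commute z f' := hzF f' hf'
        have c2 : Commute z (f'⁻¹ * x * f') := hzA _ hx
        have c3 := (c1.mul_right c2).mul_right c1.inv_right
        exact mem_centralizer_singleton_iff.mpr (by simpa [mul_assoc] using c3.symm.eq))
      (fun x hx => mem_centralizer_singleton_iff.mpr (hzY x (mem_sup_right hx)).symm)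
    exact (mem_centralizer_singleton_iff.mp (hle hx)).symm
  have hprod : z * (a₀ * e) = a₀ * b' := by
    rw [← mul_assoc, hzA a₀ ha₀, mul_assoc, hzdef, mul_assoc e⁻¹, ← (hEB e heE b' hb').eq, inv_mul_cancel_left]
  have hne1 : a₀ * e ≠ 1 := fun h => hae (h ▸ one_mem _)
  have hab1 : a₀ * b' ≠ 1 := fun h => ha₀1 (hinf a₀ ha₀ ((eq_inv_of_mul_eq_one_left h) ▸ inv_mem hb'))
  obtain ⟨C, hC, hmemC⟩ := hcov _ (mul_mem (mem_sup_left ha₀) (mem_sup_right hb')) hab1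
  have hzone := (root_shift hS (hS.conj_mem A hA f') hP hA1P hz1 hf'mem hne1 hC (hprod ▸ hmemC)).1
  have hbe : b' = e := by rw [hzdef, inv_mul_eq_one] at hzone; exact hzone.symm
  exact ((inf_bot_or_eq hS hB hQ hBQ hES).resolve_left fun h => hb'1 (by
    rw [← Subgroup.mem_bot, ← h]; exact ⟨hb', show b' ∈ E from hbe ▸ heE⟩)).symm

/-- Not all members on a line are adjacent to one partner. -/
theorem exists_exception (hS : IsRootSubgroupSet S) (hA : A ∈ S) (hP : P ∈ S) (hAP : IsRankOnePair A P)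
    (hB : B ∈ S) (hBA : B ≠ A) (hAB : ∀ a ∈ A, ∀ b ∈ B, a * b = b * a)
    (hcov : ∀ x ∈ A ⊔ B, x ≠ 1 → ∃ C ∈ S, C ≤ A ⊔ B ∧ x ∈ C) :
    ∃ C ∈ S, C ≤ A ⊔ B ∧ C ≠ A ∧ ¬ IsRankOnePair C P := by
  by_contra hno
  push Not at hno
  have hall : ∀ C ∈ S, C ≤ A ⊔ B → IsRankOnePair C P := fun C hC hle => by
    by_cases h : C = A
    · exact h ▸ hAP
    · exact hno C hC hle h
  have hinf : ∀ x, x ∈ A → x ∈ B → x = 1 := fun x hx hx' => by
    rw [← Subgroup.mem_bot, ← (inf_bot_or_eq hS hA hP hAP hB).resolve_right (Ne.symm hBA)]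
    exact ⟨hx, hx'⟩
  have hBP := hall B hB le_sup_right
  obtain ⟨p, hp, hp1⟩ := exists_ne_one (RankOnePair_symm hAP)
  obtain ⟨a, ha, ha1, hea⟩ := hAP.cond_right p hp hp1
  obtain ⟨b, hb, hb1, heb⟩ := hBP.cond_right p⁻¹ (inv_mem hp) (inv_ne_one.mpr hp1)
  rw [inv_inv] at heb
  have hq : b⁻¹ * p * b ∈ conjBy B p := by rw [← heb, mem_conjBy]; simpa [mul_assoc] using hp
  rw [mem_conjBy] at hq
  set b₁ := p⁻¹ * (b⁻¹ * p * b) * p with hb₁
  have hab1 : a * b ≠ 1 := fun h => ha1 (hinf a ha ((eq_inv_of_mul_eq_one_left h) ▸ inv_mem hb))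
  have hab₁1 : a * b₁ ≠ 1 := fun h => ha1 (hinf a ha ((eq_inv_of_mul_eq_one_left h) ▸ inv_mem hq))
  obtain ⟨C, hC, hCle, habC⟩ := hcov _ (mul_mem (mem_sup_left ha) (mem_sup_right hb)) hab1
  obtain ⟨C', hC', hCle', habC'⟩ := hcov _ (mul_mem (mem_sup_left ha) (mem_sup_right hq)) hab₁1
  have hCP := hall C hC hCle
  obtain ⟨p', hp', -, hp'e⟩ := hCP.cond_left _ habC hab1
  obtain ⟨p'', hp'', -, hp''e⟩ := (hall C' hC' hCle').cond_left _ habC' hab₁1
  have hfixA : ∀ y ∈ B, conjBy A y = A := fun y hy => conjBy_eq_self_iff.mpr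
    (Subgroup.centralizer_le_normalizer _ (mem_centralizer_iff.mpr fun x hx => hAB x hx y hy))
  have key : conjBy P (a * b)⁻¹ = conjBy (conjBy P (a * b₁)⁻¹) p := by
    have h1 : ∀ y ∈ B, (a * y)⁻¹ = y⁻¹ * a⁻¹ := fun y _ => mul_inv_rev a y
    rw [h1 b hb, h1 b₁ hq, ← conjBy_conjBy (A := P) a⁻¹, hea, conjBy_conjBy,
      show b⁻¹ * p⁻¹ = (p * b₁⁻¹ * p⁻¹) * b⁻¹ by rw [hb₁]; group, ← conjBy_conjBy, hfixA _ (inv_mem hb),
      ← conjBy_conjBy (A := P) a⁻¹, hea, conjBy_conjBy, conjBy_conjBy]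
    skip
  rw [← hp'e, ← hp''e, conjBy_conjBy] at key
  have hCC' : C' = conjBy C (p'' * p⁻¹ * p'⁻¹) := by
    have := congrArg (fun S => conjBy S (p'' * p⁻¹)) key
    simp only [conjBy_conjBy] at this
    rw [show p'' * p⁻¹ * (p * p''⁻¹) = 1 by group, conjBy_one] at this
    rw [← this]
  have hs : p'' * p⁻¹ * p'⁻¹ ∈ P := mul_mem (mul_mem hp'' (inv_mem hp)) (inv_mem hp')
  have habel : ∀ x ∈ A ⊔ B, ∀ y ∈ A ⊔ B, x * y = y * x := by
    intro x hx y hy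
    have key : ∀ w ∈ A ⊔ B, (∀ u ∈ A, u * w = w * u) ∧ (∀ u ∈ B, u * w = w * u) := by
      intro w hw
      have hle : A ⊔ B ≤ centralizer ((A : Set G) ∪ B) := sup_le
        (fun z hz => mem_centralizer_iff.mpr fun u hu => hu.elim (fun h => abelian_comm hS hA h hz)
          (fun h => (hAB z hz u h).symm))
        (fun z hz => mem_centralizer_iff.mpr fun u hu => hu.elim (fun h => hAB u h z hz)
          (fun h => abelian_comm hS hB h hz))
      exact ⟨fun u hu => mem_centralizer_iff.mp (hle hw) u (Or.inl hu), fun u hu => mem_centralizer_iff.mp (hle hw) u (Or.inr hu)⟩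
    have hle : A ⊔ B ≤ centralizer {y} := sup_le
      (fun u hu => mem_centralizer_singleton_iff.mpr ((key y hy).1 u hu))
      (fun u hu => mem_centralizer_singleton_iff.mpr ((key y hy).2 u hu))
    exact mem_centralizer_singleton_iff.mp (hle hx)
  have heqC : C' = C := by
    by_contra hne
    exact conj_commutes_bot hCP (C := C') (hCC' ▸ unipotent_conj (mem_sup_right hs) (left_mem C P)) hne
      fun x hx y hy => habel x (hCle hx) y (hCle' hy)
  have hs1 : p'' * p⁻¹ * p'⁻¹ = 1 :=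
    eq_one_of_normalizes (RankOnePair_symm hCP) hs (hCC'.symm.trans heqC)
  have hbb : b₁ = b := by
    have hne : C ≠ B := fun h => ha1 (hinf a ha (by
      have := B.mul_mem (h ▸ habC) (B.inv_mem hb)
      simpa using this))
    have hmem : b⁻¹ * b₁ ∈ C := by
      have := C.mul_mem (C.inv_mem habC) (heqC ▸ habC')
      simpa [mul_assoc] using this
    have hbot := ((inf_bot_or_eq hS hC hP hCP hB).resolve_right hne)
    have : b⁻¹ * b₁ ∈ (⊥ : Subgroup G) := hbot ▸ ⟨hmem, show b⁻¹ * b₁ ∈ B from mul_mem (inv_mem hb) hq⟩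
    exact (inv_mul_eq_one.mp (Subgroup.mem_bot.mp this)).symm
  have hpp : p'' = p' := by
    subst heqC
    rw [hbb] at hp''e
    exact b_unique hCP hp'' hp' (hp''e.trans hp'e.symm)
  rw [hpp] at hs1
  exact hp1 (inv_eq_one.mp (conj_eq_one_iff.mp hs1))

theorem line_exception_transitive (hS : IsRootSubgroupSet S) (hF : ∀ A ∈ S, ∃ P ∈ S, IsRankOnePair A P)
    (hA : A ∈ S) (hB : B ∈ S) (hBA : B ≠ A) (hAB : ∀ a ∈ A, ∀ b ∈ B, a * b = b * a)
    (hcov : ∀ x ∈ A ⊔ B, x ≠ 1 → ∃ C ∈ S, C ≤ A ⊔ B ∧ x ∈ C) :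
    ∃ B₀ ∈ membersIn S (A ⊔ B), B₀ ≠ A ∧ A ⊔ B₀ = A ⊔ B ∧ ∃ F ∈ normalizingMembers S (A ⊔ B),
      (∀ f ∈ F, conjBy B₀ f = B₀) ∧ ∀ X ∈ membersIn S (A ⊔ B), X ≠ B₀ → ∃ f ∈ F, conjBy A f = X := by
  obtain ⟨P, hP, hAP⟩ := hF A hA
  obtain ⟨B₀, hB₀, hle₀, hne₀, hnP⟩ := exists_exception hS hA hP hAP hB hBA hAB hcov
  have hn : B ≤ normalizer (A : Set G) := fun b hb =>
    Subgroup.centralizer_le_normalizer _ (mem_centralizer_iff.mpr fun a ha => hAB a ha b hb)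
  have hnc : A ⊔ B ≤ centralizer (A : Set G) := sup_le
    (fun x hx => mem_centralizer_iff.mpr fun a ha => abelian_comm hS hA ha hx)
    (fun x hx => mem_centralizer_iff.mpr fun a ha => hAB a ha x hx)
  have hAB₀ : ∀ a ∈ A, ∀ y ∈ B₀, a * y = y * a := fun a ha y hy => mem_centralizer_iff.mp (hnc (hle₀ hy)) a ha
  have hsub : A ⊔ B₀ ≤ A ⊔ B := sup_le le_sup_left hle₀
  obtain ⟨hFS, hAF⟩ := line_commutator hS hA hP hAP hB₀ hne₀ (hF B₀ hB₀) hAB₀
    (fun x hx hx1 => (hcov x (hsub hx) hx1).imp fun C h => ⟨h.1, h.2.2⟩) hnP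
  have hAF' : ⁅A, ⁅B₀, P⁆⁆ ∈ S := hAF.symm ▸ hB₀
  have hlm := line_members hS hA hP hAP hFS hAF'
  have hpart := line_partition hS hA hP hAP hFS hAF'
  rw [hAF] at hlm hpart
  have heq : A ⊔ B₀ = A ⊔ B := by
    refine le_antisymm hsub (sup_le le_sup_left ?_)
    obtain ⟨Q, hQ, hBQ⟩ := hF B hB
    obtain ⟨y, hy, hy1⟩ := B₀.bot_or_exists_ne_one.resolve_left (hS.ne_bot B₀ hB₀)
    have hy' := hle₀ hy
    rw [← SetLike.mem_coe, Subgroup.coe_mul_of_right_le_normalizer_left _ _ hn] at hy'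
    obtain ⟨a, ha, b, hb, rfl⟩ := hy'
    have hb1 : b ≠ 1 := fun h => hy1 (by
      obtain ⟨Q₀, hQ₀, h0⟩ := hF B₀ hB₀
      subst h
      simp only [mul_one] at hy ⊢
      rw [← Subgroup.mem_bot, ← (inf_bot_or_eq hS hB₀ hQ₀ h0 hA).resolve_right hne₀]
      exact ⟨hy, ha⟩)
    have hbmem : b ∈ A ⊔ B₀ := by simpa using mul_mem (mem_sup_left (inv_mem ha)) (mem_sup_right hy)
    obtain ⟨C, hC, hbC⟩ := hpart.2.1 b hbmem hb1
    rw [(inf_bot_or_eq hS hB hQ hBQ hC.1).resolve_left fun h => hb1 (by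
      rw [← Subgroup.mem_bot, ← h]; exact ⟨hb, hbC⟩)]
    exact hC.2
  have hfixB : ∀ f ∈ ⁅B₀, P⁆, conjBy B₀ f = B₀ := fun f hf => conjBy_eq_self_iff.mpr
    (Subgroup.centralizer_le_normalizer _ (mem_centralizer_iff.mpr fun y hy =>
      ((commutator_case hS hB₀ hP hFS).2.1 f hf y (mem_sup_left hy)).symm))
  have hfix : ∀ f ∈ ⁅B₀, P⁆, conjBy (A ⊔ B₀) f ≤ A ⊔ B₀ := fun f hf => by
    rw [conjBy_sup, hfixB f hf]
    refine sup_le ?_ le_sup_right
    have := line_le hS hA hFS hAF' hf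
    rwa [hAF] at this
  rw [← heq]
  refine ⟨B₀, ⟨hB₀, le_sup_right⟩, hne₀, rfl, ⁅B₀, P⁆, ⟨hFS, fun f hf => ?_⟩, hfixB, fun X hX hne => ?_⟩
  · rw [← conjBy_eq_self_iff]
    refine le_antisymm (hfix f hf) ?_
    have := Subgroup.map_mono (f := (MulAut.conj f).toMonoidHom) (hfix f⁻¹ (inv_mem hf))
    rwa [← conjBy, ← conjBy, conjBy_conjBy, mul_inv_cancel, conjBy_one] at this
  · rw [hlm] at hX
    rcases hX with ⟨f, hf, rfl⟩ | hX
    · exact ⟨f, hf, rfl⟩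
    · exact absurd hX hne

theorem line_two_transitive (hS : IsRootSubgroupSet S) (hF : ∀ A ∈ S, ∃ P ∈ S, IsRankOnePair A P)
    (hA : A ∈ S) (hB : B ∈ linePartners S A) :
    ∀ C₁ ∈ membersIn S (A ⊔ B), ∀ C₂ ∈ membersIn S (A ⊔ B), ∀ D₁ ∈ membersIn S (A ⊔ B),
      ∀ D₂ ∈ membersIn S (A ⊔ B), C₁ ≠ C₂ → D₁ ≠ D₂ →
        ∃ x ∈ ⨆ E ∈ normalizingMembers S (A ⊔ B), E, conjBy C₁ x = D₁ ∧ conjBy C₂ x = D₂ := by
  obtain ⟨⟨hBS, hBA, hcomm⟩, -, hcov0, -⟩ := hB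
  have hAB : ∀ a ∈ A, ∀ b ∈ B, a * b = b * a := fun a ha b hb => commute_of_bot hcomm ha hb
  have hcov : ∀ x ∈ A ⊔ B, x ≠ 1 → ∃ C ∈ S, C ≤ A ⊔ B ∧ x ∈ C := fun x hx hx1 =>
    (hcov0 x hx hx1).elim fun C hC => ⟨C, hC.1.1, hC.1.2, hC.2⟩
  set N := A ⊔ B with hN
  set H := ⨆ E ∈ normalizingMembers S N, E with hH
  have hHmem : ∀ E ∈ normalizingMembers S N, E ≤ H := fun E hE => le_iSup₂ (f := fun E _ => E) E hE
  have hHN : H ≤ normalizer (N : Set G) := iSup₂_le fun E hE => hE.2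
  have hconj : ∀ x ∈ H, ∀ X ∈ membersIn S N, conjBy X x ∈ membersIn S N := fun x hx X hX =>
    ⟨hS.conj_mem X hX.1 x, by
      have := Subgroup.map_mono (f := (MulAut.conj x).toMonoidHom) hX.2
      rwa [← conjBy, ← conjBy, conjBy_eq_self_iff.mpr (hHN hx)] at this⟩
  obtain ⟨B₀, hB₀, hne₀, heq₀, F₀, hF₀, hfix₀, htr₀⟩ := line_exception_transitive hS hF hA hBS hBA hAB hcov
  have hAB₀ : ∀ b ∈ B₀, ∀ a ∈ A, b * a = a * b := by
    intro b hb a ha
    have hle : N ≤ centralizer {a} := sup_le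
      (fun x hx => mem_centralizer_singleton_iff.mpr (abelian_comm hS hA hx ha))
      (fun x hx => mem_centralizer_singleton_iff.mpr (hAB a ha x hx).symm)
    exact mem_centralizer_singleton_iff.mp (hle (hB₀.2 hb))
  have heq₀' : B₀ ⊔ A = N := sup_comm B₀ A ▸ heq₀
  obtain ⟨B₁, hB₁, hne₁, -, F₁, hF₁, hfix₁, htr₁⟩ := line_exception_transitive hS hF hB₀.1 hA (Ne.symm hne₀) hAB₀
    (heq₀'.symm ▸ hcov)
  rw [heq₀'] at hB₁ hF₁ htr₁
  have hr₀ : ∀ X ∈ membersIn S N, ∀ Y ∈ membersIn S N, X ≠ B₀ → Y ≠ B₀ →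
      ∃ x ∈ H, conjBy X x = Y ∧ conjBy B₀ x = B₀ := by
    intro X hX Y hY h1 h2
    obtain ⟨f, hf, rfl⟩ := htr₀ X hX h1
    obtain ⟨f', hf', rfl⟩ := htr₀ Y hY h2
    refine ⟨f' * f⁻¹, hHmem F₀ hF₀ (mul_mem hf' (inv_mem hf)), ?_, hfix₀ _ (mul_mem hf' (inv_mem hf))⟩
    rw [conjBy_conjBy, inv_mul_cancel_right]
  obtain ⟨X₃, hX₃, h30, h31⟩ : ∃ X ∈ membersIn S N, X ≠ B₀ ∧ X ≠ B₁ := by
    obtain ⟨Q, hQ, hBQ⟩ := hF B₀ hB₀.1
    obtain ⟨y, hy, hy1⟩ := exists_ne_one hBQ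
    obtain ⟨Q', hQ', hBQ'⟩ := hF B₁ hB₁.1
    obtain ⟨w, hw, hw1⟩ := exists_ne_one hBQ'
    have hbot := (inf_bot_or_eq hS hB₀.1 hQ hBQ hB₁.1).resolve_right (Ne.symm hne₁)
    have hne : y * w ≠ 1 := fun h => hy1 (by
      rw [← Subgroup.mem_bot, ← hbot]
      exact ⟨hy, show y ∈ B₁ from (eq_inv_of_mul_eq_one_left h) ▸ inv_mem hw⟩)
    obtain ⟨C, hC, hCle, hyC⟩ := hcov _ (mul_mem (hB₀.2 hy) (hB₁.2 hw)) hne
    refine ⟨C, ⟨hC, hCle⟩, fun h => hw1 ?_, fun h => hy1 ?_⟩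
    · rw [← Subgroup.mem_bot, ← hbot]
      exact ⟨show w ∈ B₀ by
        have h' : y * w ∈ B₀ := h ▸ hyC
        simpa using mul_mem (inv_mem hy) h', hw⟩
    · rw [← Subgroup.mem_bot, ← hbot]
      exact ⟨hy, show y ∈ B₁ by
        have h' : y * w ∈ B₁ := h ▸ hyC
        simpa using mul_mem h' (inv_mem hw)⟩
  have hto : ∀ X ∈ membersIn S N, ∃ x ∈ H, conjBy B₀ x = X := by
    intro X hX
    by_cases hX1 : X = B₁
    · obtain ⟨f, hf, hfe⟩ := htr₁ X₃ hX₃ h31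
      obtain ⟨x, hx, hxe, -⟩ := hr₀ X₃ hX₃ X hX h30 (hX1 ▸ hne₁)
      exact ⟨x * f, mul_mem hx (hHmem F₁ hF₁ hf), by rw [← conjBy_conjBy, hfe, hxe]⟩
    · obtain ⟨f, hf, hfe⟩ := htr₁ X hX hX1
      exact ⟨f, hHmem F₁ hF₁ hf, hfe⟩
  intro C₁ hC₁ C₂ hC₂ D₁ hD₁ D₂ hD₂ hC hD
  obtain ⟨x, hx, rfl⟩ := hto C₁ hC₁
  obtain ⟨y, hy, rfl⟩ := hto D₁ hD₁
  obtain ⟨z, hz, hz1, hz0⟩ := hr₀ (conjBy C₂ x⁻¹) (hconj _ (inv_mem hx) _ hC₂) (conjBy D₂ y⁻¹)
    (hconj _ (inv_mem hy) _ hD₂)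
    (fun h => hC (by rw [← h, conjBy_conjBy, mul_inv_cancel, conjBy_one]))
    (fun h => hD (by rw [← h, conjBy_conjBy, mul_inv_cancel, conjBy_one]))
  refine ⟨y * z * x⁻¹, mul_mem (mul_mem hy hz) (inv_mem hx), ?_, ?_⟩
  · rw [conjBy_conjBy, inv_mul_cancel_right, ← conjBy_conjBy, hz0]
  · rw [mul_assoc, ← conjBy_conjBy (A := C₂) (z * x⁻¹), ← conjBy_conjBy (A := C₂) x⁻¹ z, hz1, conjBy_conjBy,
      mul_inv_cancel, conjBy_one]

end Cfsg.Lib.RootSub
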