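import Cfsg.Agent.RootSub.CommCase
import Cfsg.Agent.RootSub.Components

/-!
# The rank one group acting on a line
-/

set_option autoImplicit false
set_option linter.unusedSectionVars false
set_option linter.unusedVariables false
set_option linter.style.haveILetI false

open Subgroup
open Cfsg

namespace Cfsg.Lib.RootSub

open scoped commutatorElement

variable {G : Type*} [Group G] {S : Set (Subgroup G)} {A B D : Subgroup G}

theorem line_group (hS : IsRootSubgroupSet S) (hA : A ∈ S) (hB : B ∈ S) (hC : ⁅A, B⁆ ∈ S) (hD : D ∈ S)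
    (hDC : ⁅D, ⁅A, B⁆⁆ = A) :
    IsRankOnePair B D ∧
    {E | ∃ x ∈ B ⊔ D, E = conjBy A x} = {E | ∃ x ∈ B ⊔ D, E = conjBy ⁅A, B⁆ x} ∧
    {E | ∃ x ∈ B ⊔ D, E = conjBy A x} = (fun b : G => conjBy A b) '' (B : Set G) ∪ {⁅A, B⁆} ∧
    {E | ∃ x ∈ B ⊔ D, E = conjBy A x} = (fun d : G => conjBy ⁅A, B⁆ d) '' (D : Set G) ∪ {A} ∧
    IsSubgroupPartition (A ⊔ ⁅A, B⁆) {E | ∃ x ∈ B ⊔ D, E = conjBy A x} ∧
    ∀ x ∈ (B ⊔ D) ⊓ centralizer ((A ⊔ ⁅A, B⁆ : Subgroup G) : Set G), ∀ y ∈ B ⊔ D, x * y = y * x := by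
  set C := ⁅A, B⁆ with hCdef
  have hDC' : ⁅D, C⁆ ∈ S := hDC.symm ▸ hA
  obtain ⟨-, hcen, hgenA, hgenB⟩ := commutator_case hS hA hB (hCdef ▸ hC)
  obtain ⟨-, hcen', hgenD, hgenC⟩ := commutator_case hS hD hC hDC'
  rw [hDC] at hcen'
  rw [← hCdef] at hcen
  have hcC : ∀ c ∈ C, ∀ b ∈ B, c * b = b * c := fun c hc b hb => hcen c hc b (mem_sup_right hb)
  have haD : ∀ a ∈ A, ∀ d ∈ D, a * d = d * a := fun a ha d hd => hcen' a ha d (mem_sup_left hd)
  have hac : ∀ a ∈ A, ∀ c ∈ C, a * c = c * a := fun a ha c hc => (hcen c hc a (mem_sup_left ha)).symm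
  -- only the identity of `A` centralises `B`, only the identity of `C` centralises `D`
  have hAB1 : ∀ a ∈ A, (∀ b ∈ B, a * b = b * a) → a = 1 := by
    intro a ha hab
    by_contra ha1
    apply hS.ne_bot _ hC
    rw [hCdef, ← hgenA a ha ha1, closure_eq_bot_iff, Set.subset_singleton_iff]
    rintro _ ⟨b, hb, rfl⟩
    simp [hab b hb]
  have hCD1 : ∀ c ∈ C, (∀ d ∈ D, c * d = d * c) → c = 1 := by
    intro c hc hcd
    by_contra hc1
    apply hS.ne_bot _ hA
    rw [← hDC, ← hgenC c hc hc1, closure_eq_bot_iff, Set.subset_singleton_iff]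
    rintro _ ⟨d, hd, rfl⟩
    simp [← hcd d hd]
  have hdisj : ∀ x, x ∈ A → x ∈ C → x = 1 := fun x hxA hxC => hAB1 x hxA (hcC x hxC)
  set N := A ⊔ C with hN
  have hn : C ≤ normalizer (A : Set G) := fun c hc =>
    Subgroup.centralizer_le_normalizer _ (mem_centralizer_iff.mpr fun a ha => hac a ha c hc)
  have hNmem : ∀ x ∈ N, ∃ a ∈ A, ∃ c ∈ C, x = a * c := by
    intro x hx
    rw [← SetLike.mem_coe, hN, Subgroup.coe_mul_of_right_le_normalizer_left _ _ hn] at hx
    obtain ⟨a, ha, c, hc, rfl⟩ := hx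
    exact ⟨a, ha, c, hc, rfl⟩
  have hNab : ∀ x ∈ N, ∀ c ∈ C, x * c = c * x := by
    intro x hx c hc
    obtain ⟨a, ha, c', hc', rfl⟩ := hNmem x hx
    exact ((show Commute a c from hac a ha c hc).mul_left (abelian_comm hS hC hc' hc)).eq
  have hcNB : ∀ x ∈ N, (∀ b ∈ B, x * b = b * x) → x ∈ C := by
    intro x hx hxb
    obtain ⟨a, ha, c, hc, rfl⟩ := hNmem x hx
    have : a = 1 := hAB1 a ha fun b hb => by
      have h1 : Commute (a * c) b := hxb b hb
      have h2 : Commute c⁻¹ b := (show Commute c b from hcC c hc b hb).inv_left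
      simpa using (h1.mul_left h2).eq
    rw [this, one_mul]; exact hc
  have hcND : ∀ x ∈ N, (∀ d ∈ D, x * d = d * x) → x ∈ A := by
    intro x hx hxd
    obtain ⟨a, ha, c, hc, rfl⟩ := hNmem x hx
    have : c = 1 := hCD1 c hc fun d hd => by
      have h1 : Commute (a * c) d := hxd d hd
      have h2 : Commute a⁻¹ d := (show Commute a d from haD a ha d hd).inv_left
      simpa using (h2.mul_left h1).eq
    rw [this, mul_one]; exact ha
  have hBN : ∀ b ∈ B, ∀ x ∈ N, b * x * b⁻¹ ∈ N := by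
    intro b hb x hx
    obtain ⟨a, ha, c, hc, rfl⟩ := hNmem x hx
    rw [show b * (a * c) * b⁻¹ = (⁅a, b⁆⁻¹ * a) * (b * c * b⁻¹) by rw [commutatorElement_def]; group,
      ← hcC c hc b hb, mul_inv_cancel_right]
    exact mul_mem (mul_mem (mem_sup_right (inv_mem (Subgroup.commutator_mem_commutator ha hb))) (mem_sup_left ha))
      (mem_sup_right hc)
  have hDN : ∀ d ∈ D, ∀ x ∈ N, d * x * d⁻¹ ∈ N := by
    intro d hd x hx
    obtain ⟨a, ha, c, hc, rfl⟩ := hNmem x hx
    rw [show d * (a * c) * d⁻¹ = (d * a * d⁻¹) * (⁅d, c⁆ * c) by rw [commutatorElement_def]; group,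
      ← haD a ha d hd, mul_inv_cancel_right]
    exact mul_mem (mem_sup_left ha)
      (mul_mem (mem_sup_left (hDC ▸ Subgroup.commutator_mem_commutator hd hc)) (mem_sup_right hc))
  have hXN : B ⊔ D ≤ normalizer (N : Set G) := by
    refine sup_le ?_ ?_
    · intro b hb
      rw [Subgroup.mem_normalizer_iff]
      refine fun x => ⟨hBN b hb x, fun hx => ?_⟩
      simpa [mul_assoc] using hBN b⁻¹ (inv_mem hb) _ hx
    · intro d hd
      rw [Subgroup.mem_normalizer_iff]
      refine fun x => ⟨hDN d hd x, fun hx => ?_⟩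
      simpa [mul_assoc] using hDN d⁻¹ (inv_mem hd) _ hx
  -- `B` and `D` form a rank one pair
  have hpair : IsRankOnePair B D := by
    by_contra hno
    obtain ⟨b, hb, hb1⟩ := B.bot_or_exists_ne_one.resolve_left (hS.ne_bot B hB)
    obtain ⟨d, hd, hd1⟩ := D.bot_or_exists_ne_one.resolve_left (hS.ne_bot D hD)
    have hf := not_pair_conj_commute hS hD hB (fun h => hno (RankOnePair_symm h)) hd (d * b * d⁻¹)
      (mem_conjBy.mpr (by simpa [mul_assoc] using hb))
    have key : ∀ a ∈ A, ⁅a, b⁆ * d = d * ⁅a, b⁆ := by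
      intro a ha
      have hdc : ⁅D, C⁆ = A := hDC
      obtain ⟨c, hc⟩ := commHom_surjective hS hD hC hDC' (a := ⟨d⁻¹, inv_mem hd⟩) (inv_ne_one.mpr hd1)
        ⟨a, hdc.symm ▸ ha⟩
      have hc' : ⁅d⁻¹, (c : G)⁆ = a := congrArg Subtype.val hc
      set c₁ := ⁅a, b⁆⁻¹ with hc₁
      have hc₁C : c₁ ∈ C := inv_mem (Subgroup.commutator_mem_commutator ha hb)
      have hy : d * b * d⁻¹ * c * (d * b * d⁻¹)⁻¹ ∈ C := by
        refine hcNB _ ?_ fun b' hb' => ?_
        · exact (Subgroup.mem_normalizer_iff.mp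
            (mul_mem (mul_mem (hXN (mem_sup_right hd)) (hXN (mem_sup_left hb))) (inv_mem (hXN (mem_sup_right hd)))) _).mp
            (mem_sup_right c.2)
        · have h1 : Commute (d * b * d⁻¹) b' := hf b' hb'
          have h2 : Commute (c : G) b' := hcC c c.2 b' hb'
          exact ((h1.mul_left h2).mul_left h1.inv_left).eq
      have e1 : d * b * d⁻¹ * c * (d * b * d⁻¹)⁻¹ = (d * a * d⁻¹) * (d * (b * c * b⁻¹) * d⁻¹) * ⁅d, c₁⁆ * c₁ := by
        have hbab : b * a * b⁻¹ = c₁ * a := by rw [hc₁, commutatorElement_def]; group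
        have h1 : d⁻¹ * (c : G) * d = a * c := by rw [← hc', commutatorElement_def]; group
        have h2 : c₁ * a = a * c₁ := (hac a ha c₁ hc₁C).symm
        have h3 : c₁ * (c : G) = c * c₁ := abelian_comm hS hC hc₁C c.2
        calc d * b * d⁻¹ * c * (d * b * d⁻¹)⁻¹ = d * (b * (d⁻¹ * c * d) * b⁻¹) * d⁻¹ := by group
          _ = d * ((b * a * b⁻¹) * (b * c * b⁻¹)) * d⁻¹ := by rw [h1]; group
          _ = d * (a * (c₁ * (b * c * b⁻¹))) * d⁻¹ := by rw [hbab, h2]; simp only [mul_assoc]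
          _ = d * (a * ((b * c * b⁻¹) * c₁)) * d⁻¹ := by rw [← hcC c c.2 b hb, mul_inv_cancel_right, h3]
          _ = _ := by rw [commutatorElement_def]; group
      rw [e1, ← haD a ha d hd, mul_inv_cancel_right, ← hcC c c.2 b hb, mul_inv_cancel_right] at hy
      have e2 : a * (d * c * d⁻¹) = c := by
        have h1 : a * (d * c * d⁻¹) = d * (a * c) * d⁻¹ := by
          rw [show d * (a * (c : G)) * d⁻¹ = (d * a * d⁻¹) * (d * c * d⁻¹) by group,
            ← haD a ha d hd, mul_inv_cancel_right]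
        rw [h1, ← hc', commutatorElement_def]
        group
      rw [e2] at hy
      have h4 : ⁅d, c₁⁆ ∈ C := by
        have := mul_mem (mul_mem (inv_mem c.2) hy) (inv_mem hc₁C)
        simpa [mul_assoc] using this
      have h5 := hdisj _ (hDC ▸ Subgroup.commutator_mem_commutator hd hc₁C) h4
      rw [commutatorElement_eq_one_iff_mul_comm] at h5
      have h6 : Commute d c₁⁻¹ := (show Commute d c₁ from h5).inv_right
      rw [hc₁, inv_inv] at h6
      exact h6.eq.symm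
    apply hS.ne_bot _ hA
    rw [← hDC, ← hgenD d hd hd1, closure_eq_bot_iff, Set.subset_singleton_iff]
    rintro _ ⟨c, hc, rfl⟩
    have hle : C ≤ centralizer {d} := by
      rw [hCdef, ← hgenB b hb hb1, closure_le]
      rintro _ ⟨a, ha, rfl⟩
      exact mem_centralizer_singleton_iff.mpr (key a ha)
    simp [← mem_centralizer_singleton_iff.mp (hle hc)]
  -- points and their centralisers in `N`
  let Φ : Subgroup G → Subgroup G := fun E => N ⊓ centralizer (E : Set G)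
  have hΦB : Φ B = C := le_antisymm (fun x hx => hcNB x hx.1 fun b hb => (mem_centralizer_iff.mp hx.2 b hb).symm)
    fun c hc => ⟨mem_sup_right hc, mem_centralizer_iff.mpr fun b hb => (hcC c hc b hb).symm⟩
  have hΦD : Φ D = A := le_antisymm (fun x hx => hcND x hx.1 fun d hd => (mem_centralizer_iff.mp hx.2 d hd).symm)
    fun a ha => ⟨mem_sup_left ha, mem_centralizer_iff.mpr fun d hd => (haD a ha d hd).symm⟩
  have hΦ : ∀ x ∈ B ⊔ D, ∀ E : Subgroup G, conjBy (Φ E) x = Φ (conjBy E x) := by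
    intro x hx E
    ext y
    rw [mem_conjBy]
    refine and_congr ((Subgroup.mem_normalizer_iff''.mp (hXN hx) y).symm) ⟨fun h => ?_, fun h => ?_⟩
    · refine mem_centralizer_iff.mpr fun z hz => ?_
      rw [SetLike.mem_coe, mem_conjBy] at hz
      have h1 := mem_centralizer_iff.mp h _ hz
      calc z * y = x * ((x⁻¹ * z * x) * (x⁻¹ * y * x)) * x⁻¹ := by group
        _ = x * ((x⁻¹ * y * x) * (x⁻¹ * z * x)) * x⁻¹ := by rw [h1]
        _ = y * z := by group
    · refine mem_centralizer_iff.mpr fun z hz => ?_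
      have h1 := mem_centralizer_iff.mp h (x * z * x⁻¹) (mem_conjBy.mpr (by simpa [mul_assoc] using hz))
      calc z * (x⁻¹ * y * x) = x⁻¹ * ((x * z * x⁻¹) * y) * x := by group
        _ = x⁻¹ * (y * (x * z * x⁻¹)) * x := by rw [h1]
        _ = _ := by group
  obtain ⟨x₀, hx₀, hDx⟩ := right_mem hpair
  have hAx : A = conjBy C x₀ := by rw [← hΦB, hΦ _ hx₀, ← hDx, hΦD]
  have hsymm := RankOnePair_symm hpair
  have horb1 : {E | ∃ x ∈ B ⊔ D, E = conjBy A x} = {E | ∃ x ∈ B ⊔ D, E = conjBy C x} := by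
    ext E
    constructor
    · rintro ⟨x, hx, rfl⟩
      exact ⟨x * x₀, mul_mem hx hx₀, by rw [hAx, conjBy_conjBy]⟩
    · rintro ⟨x, hx, rfl⟩
      exact ⟨x * x₀⁻¹, mul_mem hx (inv_mem hx₀), by rw [hAx, conjBy_conjBy, inv_mul_cancel_right]⟩
  have horb2 : {E | ∃ x ∈ B ⊔ D, E = conjBy A x} = (fun b : G => conjBy A b) '' (B : Set G) ∪ {C} := by
    ext E
    constructor
    · rintro ⟨x, hx, rfl⟩
      rw [← hΦD, hΦ x hx]
      rcases mem_union_of_unipotent hpair (unipotent_conj hx (right_mem hpair)) with h | ⟨b, hb, h⟩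
      · rw [h, hΦB]; exact Or.inr rfl
      · exact Or.inl ⟨b, hb, by rw [h, ← hΦ b (mem_sup_left hb), hΦD]⟩
    · rintro (⟨b, hb, rfl⟩ | rfl)
      · exact ⟨b, mem_sup_left hb, rfl⟩
      · exact ⟨x₀⁻¹, inv_mem hx₀, by rw [hAx, conjBy_conjBy, inv_mul_cancel, conjBy_one]⟩
  have horb3 : {E | ∃ x ∈ B ⊔ D, E = conjBy A x} = (fun d : G => conjBy C d) '' (D : Set G) ∪ {A} := by
    rw [horb1]
    ext E
    constructor
    · rintro ⟨x, hx, rfl⟩
      rw [← hΦB, hΦ x hx]
      rcases mem_union_of_unipotent hsymm (unipotent_conj (sup_comm B D ▸ hx) (right_mem hsymm)) with h | ⟨d, hd, h⟩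
      · rw [h, hΦD]; exact Or.inr rfl
      · exact Or.inl ⟨d, hd, by rw [h, ← hΦ d (mem_sup_right hd), hΦB]⟩
    · rintro (⟨d, hd, rfl⟩ | rfl)
      · exact ⟨d, mem_sup_right hd, rfl⟩
      · exact ⟨x₀, hx₀, hAx⟩
  have hsep : ∀ P ∈ unipotentSubgroups B D, ∀ Q ∈ unipotentSubgroups B D, P ≠ Q → Φ P ⊓ Φ Q = ⊥ := by
    intro P hP Q hQ hne
    obtain ⟨x, hx, rfl, rfl⟩ := unipotent_two_trans hpair hP hQ hne
    rw [← hΦ x hx, ← hΦ x hx, hΦB, hΦD, eq_bot_iff_forall]
    rintro y ⟨h1, h2⟩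
    have := hdisj _ (mem_conjBy.mp h2) (mem_conjBy.mp h1)
    rw [show y = x * (x⁻¹ * y * x) * x⁻¹ by group, this, mul_one, mul_inv_cancel]
  refine ⟨hpair, horb1, horb2, horb3, ⟨?_, ?_, ?_⟩, ?_⟩
  · rintro E ⟨x, hx, rfl⟩
    rw [← hΦD, hΦ x hx]
    exact inf_le_left
  · intro y hy hy1
    by_cases hyC : y ∈ C
    · exact ⟨C, horb2 ▸ Or.inr rfl, hyC⟩
    obtain ⟨a, ha, c, hc, rfl⟩ := hNmem y hy
    have ha1 : a ≠ 1 := fun h => hyC (by simpa [h] using hc)
    obtain ⟨b, hb⟩ := commHom_surjective hS hA hB (hCdef ▸ hC) (a := ⟨a, ha⟩) ha1 ⟨c⁻¹, inv_mem hc⟩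
    refine ⟨conjBy A b, ⟨b, mem_sup_left b.2, rfl⟩, mem_conjBy.mpr ?_⟩
    have hb' : a * b * a⁻¹ * (b : G)⁻¹ = c⁻¹ := congrArg Subtype.val hb
    have hc' : c = (b : G) * a * (b : G)⁻¹ * a⁻¹ := by rw [← inv_inv c, ← hb']; group
    rw [hac a ha c hc, hc', inv_mul_cancel_right]
    simpa [mul_assoc] using ha
  · rintro E ⟨x, hx, rfl⟩ F ⟨z, hz, rfl⟩ hne
    rw [← hΦD, hΦ x hx, hΦ z hz]
    refine hsep _ (unipotent_conj hx (right_mem hpair)) _ (unipotent_conj hz (right_mem hpair)) fun h => hne ?_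
    rw [← hΦD, hΦ x hx, hΦ z hz, h]
  · rintro x ⟨hx, hxN⟩
    have hfix : ∀ P ∈ unipotentSubgroups B D, conjBy P x = P := by
      intro P hP
      by_contra hne
      have h1 := hsep _ (unipotent_conj hx hP) P hP hne
      have hsame : Φ (conjBy P x) = Φ P := by
        rw [← hΦ x hx]
        refine conjBy_eq_self_iff.mpr (Subgroup.centralizer_le_normalizer _ ?_)
        exact Subgroup.centralizer_le (fun z hz => hz.1) hxN
      rw [hsame, inf_idem] at h1
      obtain ⟨z, hz, rfl⟩ := hP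
      rw [← hΦ z hz, hΦB] at h1
      exact hS.ne_bot _ hC (conjBy_inj (h1.trans (Subgroup.map_bot _).symm))
    have hfix' : ∀ P ∈ unipotentSubgroups D B, conjBy P x = P := by
      rintro P ⟨z, hz, rfl⟩
      exact hfix _ (unipotent_conj (sup_comm D B ▸ hz) (right_mem hpair))
    have hle : B ⊔ D ≤ centralizer {x} := sup_le
      (fun b hb => mem_centralizer_singleton_iff.mpr (commute_of_fixes hpair hfix hb).symm)
      (fun d hd => mem_centralizer_singleton_iff.mpr (commute_of_fixes hsymm hfix' hd).symm)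
    exact fun y hy => (mem_centralizer_singleton_iff.mp (hle hy)).symm

end Cfsg.Lib.RootSub
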