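import Cfsg.Agent.RootSub.Basic
import Cfsg.Prelude.Def_Transfer

/-!
# Rank one groups acting quadratically on an abelian group
-/

set_option autoImplicit false
set_option linter.unusedSectionVars false
set_option linter.unusedVariables false
set_option linter.style.haveILetI false

open Subgroup
open Cfsg

namespace Cfsg.Lib.RootSub

open scoped commutatorElement

section Action

variable {X : Type*} [Group X] {A B : Subgroup X} {V : Type*} [AddCommGroup V]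
  (ρ : X →* AddMonoid.End V)

/-- `ρ x - 1`. -/
def dl (x : X) : AddMonoid.End V := ρ x - 1

theorem dl_mul (x y : X) : dl ρ (x * y) = dl ρ x + dl ρ y + dl ρ x * dl ρ y := by
  simp only [dl, map_mul, sub_mul, mul_sub, one_mul, mul_one]
  abel

theorem dl_one : dl ρ 1 = 0 := by simp [dl]

theorem dl_inv (x : X) : dl ρ x⁻¹ = -(dl ρ x * ρ x⁻¹) := by
  simp only [dl, sub_mul, one_mul, ← map_mul, mul_inv_cancel, map_one]
  abel

theorem dl_conj (g x : X) : dl ρ (g * x * g⁻¹) = ρ g * dl ρ x * ρ g⁻¹ := by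
  simp only [dl, mul_sub, sub_mul, mul_one, ← map_mul, mul_inv_cancel, map_one]

theorem quad_mul (hq : ∀ a ∈ A, ∀ a' ∈ A, dl ρ a' * dl ρ a = 0) {a a' : X} (ha : a ∈ A) (ha' : a' ∈ A) :
    dl ρ (a * a') = dl ρ a + dl ρ a' := by
  rw [dl_mul, hq a' ha' a ha, add_zero]

theorem quad_pow (hq : ∀ a ∈ A, ∀ a' ∈ A, dl ρ a' * dl ρ a = 0) {a : X} (ha : a ∈ A) (n : ℕ) :
    dl ρ (a ^ n) = n • dl ρ a := by
  induction n with
  | zero => rw [pow_zero, dl_one, zero_smul]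
  | succ n ih => rw [pow_succ, quad_mul ρ hq (A.pow_mem ha n) ha, ih, succ_nsmul]

theorem quad_inv (hq : ∀ a ∈ A, ∀ a' ∈ A, dl ρ a' * dl ρ a = 0) {a : X} (ha : a ∈ A) :
    dl ρ a⁻¹ = -dl ρ a := by
  have := quad_mul ρ hq ha (inv_mem ha)
  rw [mul_inv_cancel, dl_one] at this
  exact eq_neg_of_add_eq_zero_right this.symm

theorem quad_conj (hq : ∀ a ∈ A, ∀ a' ∈ A, dl ρ a' * dl ρ a = 0) (g : X) :
    ∀ c ∈ conjBy A g, ∀ c' ∈ conjBy A g, dl ρ c' * dl ρ c = 0 := by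
  intro c hc c' hc'
  have e : ∀ y : X, dl ρ y = ρ g * dl ρ (g⁻¹ * y * g) * ρ g⁻¹ := fun y => by
    rw [← dl_conj]; congr 1; group
  have hgg : ρ g⁻¹ * ρ g = 1 := by rw [← map_mul, inv_mul_cancel, map_one]
  rw [e c', e c, mul_assoc (ρ g * _) (ρ g⁻¹), ← mul_assoc (ρ g⁻¹), ← mul_assoc (ρ g⁻¹), hgg, one_mul,
    ← mul_assoc, mul_assoc (ρ g) (dl ρ _) (dl ρ _), hq _ (mem_conjBy.mp hc) _ (mem_conjBy.mp hc'), mul_zero, zero_mul]

/-! ### Unipotent actions -/

/-- The additive subgroups spanned by longer and longer products of displacements. -/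
def jSeq : ℕ → AddSubgroup (AddMonoid.End V)
  | 0 => AddSubgroup.closure (Set.range (dl ρ))
  | k + 1 => AddSubgroup.closure {e | ∃ y : X, ∃ d ∈ jSeq k, e = dl ρ y * d ∨ e = d * dl ρ y}

theorem jSeq_succ_le (k : ℕ) : jSeq ρ (k + 1) ≤ jSeq ρ k := by
  induction k with
  | zero =>
    show AddSubgroup.closure _ ≤ _
    rw [AddSubgroup.closure_le]
    rintro e ⟨y, d, hd, rfl | rfl⟩
    · simp only [SetLike.mem_coe]
      refine AddSubgroup.closure_induction (p := fun d _ => dl ρ y * d ∈ jSeq ρ 0) ?_ ?_ ?_ ?_ hd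
      · rintro _ ⟨x, rfl⟩
        rw [show dl ρ y * dl ρ x = dl ρ (y * x) - dl ρ y - dl ρ x by rw [dl_mul]; abel]
        exact sub_mem (sub_mem (AddSubgroup.subset_closure ⟨_, rfl⟩) (AddSubgroup.subset_closure ⟨_, rfl⟩))
          (AddSubgroup.subset_closure ⟨_, rfl⟩)
      · simp
      · intro _ _ _ _ h1 h2; simp only [mul_add]; exact add_mem h1 h2
      · intro _ _ h1; simp only [mul_neg]; exact neg_mem h1
    · simp only [SetLike.mem_coe]
      refine AddSubgroup.closure_induction (p := fun d _ => d * dl ρ y ∈ jSeq ρ 0) ?_ ?_ ?_ ?_ hd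
      · rintro _ ⟨x, rfl⟩
        rw [show dl ρ x * dl ρ y = dl ρ (x * y) - dl ρ x - dl ρ y by rw [dl_mul]; abel]
        exact sub_mem (sub_mem (AddSubgroup.subset_closure ⟨_, rfl⟩) (AddSubgroup.subset_closure ⟨_, rfl⟩))
          (AddSubgroup.subset_closure ⟨_, rfl⟩)
      · simp
      · intro _ _ _ _ h1 h2; simp only [add_mul]; exact add_mem h1 h2
      · intro _ _ h1; simp only [neg_mul]; exact neg_mem h1
  | succ k ih =>
    conv_lhs => rw [jSeq]
    rw [AddSubgroup.closure_le]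
    rintro e ⟨y, d, hd, he⟩
    exact AddSubgroup.subset_closure ⟨y, d, ih hd, he⟩

theorem dl_mul_jSeq {k : ℕ} (y : X) {d : AddMonoid.End V} (hd : d ∈ jSeq ρ k) : dl ρ y * d ∈ jSeq ρ (k + 1) :=
  AddSubgroup.subset_closure ⟨y, d, hd, Or.inl rfl⟩

theorem jSeq_mul_dl {k : ℕ} (y : X) {d : AddMonoid.End V} (hd : d ∈ jSeq ρ k) : d * dl ρ y ∈ jSeq ρ (k + 1) :=
  AddSubgroup.subset_closure ⟨y, d, hd, Or.inr rfl⟩

theorem jSeq_mul_rho {k : ℕ} (y : X) {d : AddMonoid.End V} (hd : d ∈ jSeq ρ k) : d * ρ y ∈ jSeq ρ k := by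
  rw [show d * ρ y = d + d * dl ρ y by rw [dl, mul_sub, mul_one, add_sub_cancel]]
  exact add_mem hd (jSeq_succ_le ρ k (jSeq_mul_dl ρ y hd))

/-- The elements whose displacement lies in the `k`-th term. -/
def gSeq (k : ℕ) : Subgroup X where
  carrier := {x | dl ρ x ∈ jSeq ρ k}
  one_mem' := by simp [dl_one, zero_mem]
  mul_mem' := fun {x y} hx hy => by
    show dl ρ (x * y) ∈ jSeq ρ k
    rw [dl_mul]
    exact add_mem (add_mem hx hy) (jSeq_succ_le ρ k (jSeq_mul_dl ρ y hx))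
  inv_mem' := fun {x} hx => by
    show dl ρ x⁻¹ ∈ jSeq ρ k
    rw [dl_inv]
    exact neg_mem (jSeq_mul_rho ρ _ hx)

theorem lower_le_gSeq (k : ℕ) : (⊤ : Subgroup X).lowerCentralSeries k ≤ gSeq ρ k := by
  induction k with
  | zero => exact fun x _ => AddSubgroup.subset_closure ⟨x, rfl⟩
  | succ k ih =>
    rw [Subgroup.lowerCentralSeries_succ, Subgroup.commutator_le]
    intro x hx y _
    show dl ρ ⁅x, y⁆ ∈ jSeq ρ (k + 1)
    have hx' : dl ρ x ∈ jSeq ρ k := ih hx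
    have e : dl ρ ⁅x, y⁆ = (dl ρ x * dl ρ y - dl ρ y * dl ρ x) * ρ (y * x)⁻¹ := by
      have h1 : dl ρ x * dl ρ y - dl ρ y * dl ρ x = ρ (x * y) - ρ (y * x) := by
        simp only [dl, map_mul, sub_mul, mul_sub, one_mul, mul_one]; abel
      rw [h1, sub_mul, ← map_mul, ← map_mul, mul_inv_cancel, map_one, dl]
      congr 2
      rw [commutatorElement_def]; group
    rw [e]
    exact jSeq_mul_rho ρ _ (sub_mem (jSeq_mul_dl ρ y hx') (dl_mul_jSeq ρ y hx'))

/-- Endomorphisms killed by `j` further displacements on either side. -/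
def pSeq : ℕ → AddSubgroup (AddMonoid.End V)
  | 0 => ⊥
  | j + 1 =>
    { carrier := {e | ∀ y : X, dl ρ y * e ∈ pSeq j ∧ e * dl ρ y ∈ pSeq j}
      zero_mem' := fun y => by simp [zero_mem]
      add_mem' := fun {e f} he hf y => by
        rw [mul_add, add_mul]; exact ⟨add_mem (he y).1 (hf y).1, add_mem (he y).2 (hf y).2⟩
      neg_mem' := fun {e} he y => by
        rw [mul_neg, neg_mul]; exact ⟨neg_mem (he y).1, neg_mem (he y).2⟩ }

theorem isNilpotent_of_four (hker : ∀ x, dl ρ x = 0 → x ∈ center X)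
    (h4 : ∀ w x y z : X, dl ρ w * dl ρ x * dl ρ y * dl ρ z = 0) : Group.IsNilpotent X := by
  rw [Subgroup.nilpotent_iff_lowerCentralSeries]
  have hstep : ∀ k j, jSeq ρ k ≤ pSeq ρ (j + 1) → jSeq ρ (k + 1) ≤ pSeq ρ j := by
    intro k j h
    rw [jSeq, AddSubgroup.closure_le]
    rintro e ⟨y, d, hd, rfl | rfl⟩
    exacts [(h hd y).1, (h hd y).2]
  have h0 : jSeq ρ 0 ≤ pSeq ρ 3 := by
    rw [jSeq, AddSubgroup.closure_le]
    rintro _ ⟨x, rfl⟩
    intro y₁
    refine ⟨fun y₂ => ⟨fun y₃ => ⟨?_, ?_⟩, fun y₃ => ⟨?_, ?_⟩⟩, fun y₂ => ⟨fun y₃ => ⟨?_, ?_⟩, fun y₃ => ⟨?_, ?_⟩⟩⟩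
    all_goals
      simp only [pSeq, AddSubgroup.mem_bot, ← mul_assoc]
      exact h4 _ _ _ _
  have h3 : jSeq ρ 3 ≤ pSeq ρ 0 := hstep _ _ (hstep _ _ (hstep _ _ h0))
  refine ⟨4, Subgroup.lowerCentralSeries_succ_eq_bot _ fun x hx => hker x ?_⟩
  exact AddSubgroup.mem_bot.mp (h3 (lower_le_gSeq ρ 3 hx))

/-! ### Elements acting trivially on a section -/

/-- The elements moving `S` into `T`, for invariant subgroups `S` and `T`. -/
def sectionKernel (S T : AddSubgroup V) (hS : ∀ x : X, ∀ v ∈ S, ρ x v ∈ S) (hT : ∀ x : X, ∀ v ∈ T, ρ x v ∈ T) :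
    Subgroup X where
  carrier := {x | ∀ v ∈ S, dl ρ x v ∈ T}
  one_mem' := fun v _ => by rw [dl_one]; exact T.zero_mem
  mul_mem' := fun {x y} hx hy v hv => by
    rw [dl_mul]
    have h1 : dl ρ x (dl ρ y v) ∈ T := sub_mem (hT x _ (hy v hv)) (hy v hv)
    exact add_mem (add_mem (hx v hv) (hy v hv)) h1
  inv_mem' := fun {x} hx v hv => by
    rw [dl_inv]
    exact neg_mem (hx _ (hS x⁻¹ v hv))

theorem sectionKernel_normal (S T : AddSubgroup V) (hS : ∀ x : X, ∀ v ∈ S, ρ x v ∈ S)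
    (hT : ∀ x : X, ∀ v ∈ T, ρ x v ∈ T) : (sectionKernel ρ S T hS hT).Normal :=
  ⟨fun x hx g v hv => by
    rw [dl_conj]
    exact hT g _ (hx _ (hS g⁻¹ v hv))⟩

theorem not_mem_center (h : IsRankOneGroup X A B) {a : X} (ha : a ∈ A) (ha1 : a ≠ 1) : a ∉ center X := by
  intro hc
  obtain ⟨b, -, hab⟩ := not_commute h.2 ha ha1
  exact hab (Subgroup.mem_center_iff.mp hc b).symm

theorem two_step (h : IsRankOneGroup X A B) (hq : ∀ a ∈ A, ∀ a' ∈ A, dl ρ a' * dl ρ a = 0)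
    (S T : AddSubgroup V) (hS : ∀ x : X, ∀ v ∈ S, ρ x v ∈ S) (hT : ∀ x : X, ∀ v ∈ T, ρ x v ∈ T)
    {g : X} (hg : ∀ v ∈ S, dl ρ g v ∈ T) (hgc : g ∉ center X) :
    ∀ x y : X, ∀ v ∈ S, dl ρ x (dl ρ y v) ∈ T := by
  haveI := sectionKernel_normal ρ S T hS hT
  have hsup := (normal_sup_eq_top h (sectionKernel ρ S T hS hT) inferInstance).resolve_right
    fun h' => hgc (h' (show g ∈ sectionKernel ρ S T hS hT from hg))
  have hS' : ∀ z : X, ∀ v ∈ S, dl ρ z v ∈ S := fun z v hv => sub_mem (hS z v hv) hv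
  have hT' : ∀ z : X, ∀ v ∈ T, dl ρ z v ∈ T := fun z v hv => sub_mem (hT z v hv) hv
  have hdec : ∀ x : X, ∃ a ∈ A, ∀ v ∈ S, dl ρ x v - dl ρ a v ∈ T := by
    intro x
    have hx : x ∈ (↑(sectionKernel ρ S T hS hT ⊔ A) : Set X) := by rw [hsup]; exact mem_top x
    rw [Subgroup.normal_mul] at hx
    obtain ⟨k, hk, a, ha, rfl⟩ := hx
    refine ⟨a, ha, fun v hv => ?_⟩
    have e : dl ρ (k * a) v - dl ρ a v = dl ρ k v + dl ρ k (dl ρ a v) := by
      rw [dl_mul]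
      show dl ρ k v + dl ρ a v + dl ρ k (dl ρ a v) - dl ρ a v = _
      abel
    rw [e]
    exact add_mem (hk v hv) (hk _ (hS' a v hv))
  intro x y v hv
  obtain ⟨a', ha', hy'⟩ := hdec y
  obtain ⟨a, ha, hx'⟩ := hdec x
  have h1 : dl ρ x (dl ρ y v - dl ρ a' v) ∈ T := hT' x _ (hy' v hv)
  have h2 := hx' _ (hS' a' v hv)
  have h3 : dl ρ a (dl ρ a' v) = 0 := DFunLike.congr_fun (hq a' ha' a ha) v
  rw [h3, sub_zero] at h2
  rw [map_sub] at h1
  simpa using add_mem h1 h2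

theorem torsion_dichotomy (h : IsRankOneGroup X A B) (hf : ∀ x, dl ρ x = 0 → x = 1)
    (hq : ∀ a ∈ A, ∀ a' ∈ A, dl ρ a' * dl ρ a = 0) :
    (∀ a ∈ A, a ≠ 1 → ¬ IsOfFinOrder a) ∨ ∃ p : ℕ, p.Prime ∧ IsElementaryAbelian p A := by
  by_cases htf : ∀ a ∈ A, a ≠ 1 → ¬ IsOfFinOrder a
  · exact Or.inl htf
  right
  push Not at htf
  obtain ⟨a₀, ha₀, ha₀1, hfin⟩ := htf
  have hn : orderOf a₀ ≠ 1 := fun h' => ha₀1 (orderOf_eq_one_iff.mp h')
  obtain ⟨p, hp, m, hm⟩ := Nat.exists_prime_and_dvd hn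
  set a := a₀ ^ m with ha_def
  have ha : a ∈ A := A.pow_mem ha₀ m
  have ha1 : a ≠ 1 := by
    intro h'
    have hd := orderOf_dvd_of_pow_eq_one h'
    have hm0 : 0 < m := Nat.pos_of_ne_zero fun h0 => by
      rw [h0, mul_zero] at hm; exact hfin.orderOf_pos.ne' hm
    have := Nat.le_of_dvd hm0 hd
    rw [hm] at this
    have := hp.two_le
    nlinarith
  have hap : a ^ p = 1 := by rw [ha_def, ← pow_mul, mul_comm, ← hm, pow_orderOf_eq_one]
  refine ⟨p, hp, ⟨⟨fun x y => ?_⟩⟩, fun a' ha' => ?_⟩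
  · apply Subtype.ext
    apply mul_inv_eq_one.mp
    apply hf
    rw [Subgroup.coe_mul, Subgroup.coe_mul, quad_mul ρ hq (mul_mem x.2 y.2) (inv_mem (mul_mem y.2 x.2)),
      quad_inv ρ hq (mul_mem y.2 x.2), quad_mul ρ hq x.2 y.2, quad_mul ρ hq y.2 x.2]
    abel
  by_contra hne
  refine not_nilpotent h (isNilpotent_of_four ρ (fun x hx => by rw [hf x hx]; exact one_mem _) fun w x y z => ?_)
  let T : AddSubgroup V := (nsmulAddMonoidHom (α := V) p).range
  have hT : ∀ g : X, ∀ v ∈ T, ρ g v ∈ T := by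
    rintro g _ ⟨v, rfl⟩
    exact ⟨ρ g v, (map_nsmul (ρ g) p v).symm⟩
  have h1 := two_step ρ h hq ⊤ T (fun _ _ _ => trivial) hT (g := a' ^ p) (fun v _ => by
    rw [quad_pow ρ hq ha']
    exact ⟨dl ρ a' v, rfl⟩) (not_mem_center h (A.pow_mem ha' p) hne)
  have h2 := two_step ρ h hq T ⊥ hT (fun g v hv => by
      rw [AddSubgroup.mem_bot] at hv ⊢; rw [hv, map_zero]) (g := a) (by
    rintro _ ⟨v, rfl⟩
    rw [AddSubgroup.mem_bot]
    show dl ρ a (p • v) = 0
    rw [map_nsmul, show p • dl ρ a v = (p • dl ρ a) v from rfl, ← quad_pow ρ hq ha, hap, dl_one]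
    rfl) (not_mem_center h ha ha1)
  ext v
  exact AddSubgroup.mem_bot.mp (h2 w x _ (h1 y z v trivial))

theorem special_of_quadratic (h : IsRankOneGroup X A B) (hq : ∀ a ∈ A, ∀ a' ∈ A, dl ρ a' * dl ρ a = 0)
    (hX : ∃ x y : X, dl ρ y * dl ρ x ≠ 0) : IsSpecialRankOnePair A B := by
  refine ⟨h.2, fun a ha ha1 b hb hb1 he => ?_⟩
  obtain ⟨g, -, hg⟩ := right_mem h.2
  have hqB : ∀ c ∈ B, ∀ c' ∈ B, dl ρ c' * dl ρ c = 0 := by rw [hg]; exact quad_conj ρ hq g
  let Z : AddSubgroup V :=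
    { carrier := {v | ∀ x : X, dl ρ x v = 0}
      zero_mem' := fun x => map_zero _
      add_mem' := fun {u v} hu hv x => by rw [map_add, hu, hv, add_zero]
      neg_mem' := fun {u} hu x => by rw [map_neg, hu, neg_zero] }
  have hfix : ∀ v : V, (∀ c ∈ A, dl ρ c v = 0) → (∀ c ∈ B, dl ρ c v = 0) → v ∈ Z := by
    intro v h1 h2 x
    let St : Subgroup X :=
      { carrier := {x | dl ρ x v = 0}
        one_mem' := by show dl ρ 1 v = 0; rw [dl_one]; rfl
        mul_mem' := fun {x y} hx hy => by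
          show dl ρ (x * y) v = 0
          rw [dl_mul]
          show dl ρ x v + dl ρ y v + dl ρ x (dl ρ y v) = 0
          rw [hx, hy, map_zero, add_zero, add_zero]
        inv_mem' := fun {x} hx => by
          show dl ρ x⁻¹ v = 0
          rw [dl_inv]
          show -(dl ρ x (ρ x⁻¹ v)) = 0
          have hx' : ρ x v = v := sub_eq_zero.mp hx
          have : ρ x⁻¹ v = v := by
            conv_lhs => rw [← hx']
            show (ρ x⁻¹ * ρ x) v = v
            rw [← map_mul, inv_mul_cancel, map_one]; rfl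
          rw [this, show dl ρ x v = 0 from hx, neg_zero] }
    have hle : (⊤ : Subgroup X) ≤ St := h.1 ▸ sup_le (fun c hc => h1 c hc) fun c hc => h2 c hc
    exact hle (mem_top x)
  -- the key relation between the displacements of `a` and `b`
  have hkey : ∀ (A B : Subgroup X) (a b : X), a ∈ A → b ∈ B →
      (∀ a ∈ A, ∀ a' ∈ A, dl ρ a' * dl ρ a = 0) → (∀ c ∈ B, ∀ c' ∈ B, dl ρ c' * dl ρ c = 0) →
      conjBy A b⁻¹ = conjBy B a⁻¹ → (∀ v : V, (∀ c ∈ A, dl ρ c v = 0) → (∀ c ∈ B, dl ρ c v = 0) → v ∈ Z) →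
      ∀ u : V, dl ρ b u - dl ρ b (dl ρ a (dl ρ b u)) ∈ Z := by
    intro A B a b ha hb hqA hqB he hfix u
    have hm : a⁻¹ * b * a ∈ conjBy A b⁻¹ := by rw [he, mem_conjBy]; simpa [mul_assoc] using hb
    rw [mem_conjBy, inv_inv] at hm
    set a'' := b * (a⁻¹ * b * a) * b⁻¹
    set r := dl ρ b u
    set r' := dl ρ a'' (ρ b (ρ a⁻¹ u))
    have e1 : ρ a⁻¹ r = ρ b⁻¹ r' := by
      have h1 : dl ρ (a⁻¹ * b * a) = ρ a⁻¹ * dl ρ b * ρ a := by
        simpa using dl_conj ρ a⁻¹ b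
      have h2 : dl ρ (a⁻¹ * b * a) = ρ b⁻¹ * dl ρ a'' * ρ b := by
        rw [show a⁻¹ * b * a = b⁻¹ * a'' * (b⁻¹)⁻¹ by simp only [a'']; group, dl_conj, inv_inv]
      have h3 := DFunLike.congr_fun (h1.symm.trans h2) (ρ a⁻¹ u)
      have h4 : ρ a (ρ a⁻¹ u) = u := by
        show (ρ a * ρ a⁻¹) u = u
        rw [← map_mul, mul_inv_cancel, map_one]; rfl
      simp only [AddMonoid.End.coe_mul, Function.comp_apply, h4] at h3
      exact h3
    have ei : ∀ {C : Subgroup X}, (∀ a ∈ C, ∀ a' ∈ C, dl ρ a' * dl ρ a = 0) → ∀ c ∈ C, ∀ v, ρ c⁻¹ v = v - dl ρ c v := by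
      intro C hC c hc v
      have := DFunLike.congr_fun (quad_inv ρ hC hc) v
      have h5 : dl ρ c⁻¹ v = ρ c⁻¹ v - v := rfl
      rw [h5] at this
      rw [sub_eq_iff_eq_add] at this
      rw [this]
      show -(dl ρ c v) + v = _
      abel
    rw [ei hqA a ha, ei hqB b hb] at e1
    set w := r + dl ρ b r' with hw
    have hw' : w = r' + dl ρ a r := by
      rw [hw, sub_eq_sub_iff_add_eq_add] at *
      exact e1
    have hwZ : w ∈ Z := by
      refine hfix w (fun c hc => ?_) fun c hc => ?_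
      · rw [hw', map_add, show dl ρ c r' = 0 from DFunLike.congr_fun (hqA a'' hm c hc) _,
          show dl ρ c (dl ρ a r) = 0 from DFunLike.congr_fun (hqA a ha c hc) r]
        exact add_zero _
      · rw [hw, map_add, show dl ρ c r = 0 from DFunLike.congr_fun (hqB b hb c hc) u,
          show dl ρ c (dl ρ b r') = 0 from DFunLike.congr_fun (hqB b hb c hc) r', add_zero]
    have h7 : dl ρ b (r' + dl ρ a r) = 0 := by rw [← hw']; exact hwZ b
    rw [map_add] at h7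
    have : r - dl ρ b (dl ρ a r) = w := by
      rw [hw, eq_neg_of_add_eq_zero_left h7, ← sub_eq_add_neg]
    rw [this]
    exact hwZ
  set z := b⁻¹ * a * b * (a⁻¹ * b⁻¹ * a)⁻¹ with hz
  have hc1 : b⁻¹ * a * b ∈ conjBy A b⁻¹ := by rw [mem_conjBy]; simpa [mul_assoc] using ha
  have hc2 : a⁻¹ * b * a ∈ conjBy A b⁻¹ := by rw [he, mem_conjBy]; simpa [mul_assoc] using hb
  have hz' : z = b⁻¹ * a * b * (a⁻¹ * b * a) := by rw [hz]; group
  have hzC : z ∈ conjBy A b⁻¹ := hz' ▸ mul_mem hc1 hc2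
  by_contra hne
  have hz1 : b * z * b⁻¹ ≠ 1 := fun h' => hne (mul_inv_eq_one.mp (conj_eq_one_iff.mp h'))
  have hzA : b * z * b⁻¹ ∈ A := by simpa using mem_conjBy.mp hzC
  have hzZ : ∀ v, dl ρ z v ∈ Z := by
    intro v
    have e : dl ρ z = dl ρ a + dl ρ b - dl ρ b * dl ρ a * dl ρ b - dl ρ a * dl ρ b * dl ρ a := by
      have hb' : ρ b⁻¹ = 1 - dl ρ b := by
        have := quad_inv ρ hqB hb
        rw [dl, sub_eq_iff_eq_add] at this
        rw [this]; abel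
      have ha' : ρ a⁻¹ = 1 - dl ρ a := by
        have := quad_inv ρ hq ha
        rw [dl, sub_eq_iff_eq_add] at this
        rw [this]; abel
      have e1 : dl ρ (b⁻¹ * a * b) = ρ b⁻¹ * dl ρ a * ρ b := by simpa using dl_conj ρ b⁻¹ a
      have e2 : dl ρ (a⁻¹ * b * a) = ρ a⁻¹ * dl ρ b * ρ a := by simpa using dl_conj ρ a⁻¹ b
      rw [hz', quad_mul ρ (quad_conj ρ hq b⁻¹) hc1 hc2, e1, e2, hb', ha',
        show ρ b = 1 + dl ρ b from (add_sub_cancel _ _).symm, show ρ a = 1 + dl ρ a from (add_sub_cancel _ _).symm]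
      simp only [mul_add, mul_one, sub_mul, one_mul, mul_sub, add_mul]
      abel
    rw [e]
    have h1 := hkey A B a b ha hb hq hqB he hfix v
    have h2 := hkey B A b a hb ha hqB hq he.symm (fun v h1 h2 => hfix v h2 h1) v
    have := add_mem h2 h1
    show dl ρ a v + dl ρ b v - dl ρ b (dl ρ a (dl ρ b v)) - dl ρ a (dl ρ b (dl ρ a v)) ∈ Z
    convert this using 1
    abel
  have hZinv : ∀ x : X, ∀ v ∈ Z, ρ x v ∈ Z := fun x v hv => by
    rw [show ρ x v = v from sub_eq_zero.mp (hv x)]; exact hv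
  have htwo := two_step ρ h hq ⊤ Z (fun _ _ _ => trivial) hZinv (g := b * z * b⁻¹) (fun v _ => by
    rw [dl_conj]
    exact hZinv b _ (hzZ _)) (not_mem_center h hzA hz1)
  refine not_nilpotent h (isNilpotent_of_four ρ (fun x hx => ?_) fun w x y z' => ?_)
  · by_contra hxc
    obtain ⟨x₀, y₀, hxy⟩ := hX
    refine hxy (DFunLike.ext _ _ fun v => ?_)
    exact AddSubgroup.mem_bot.mp (two_step ρ h hq ⊤ ⊥ (fun _ _ _ => trivial)
      (fun g v hv => by rw [AddSubgroup.mem_bot] at hv ⊢; rw [hv, map_zero]) (g := x)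
      (fun v _ => by rw [hx]; exact zero_mem _) hxc y₀ x₀ v trivial)
  · ext v
    show dl ρ w (dl ρ x (dl ρ y (dl ρ z' v))) = 0
    rw [htwo y z' v trivial x, map_zero]

end Action

end Cfsg.Lib.RootSub
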