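import Cfsg.Agent.RootSub.LineTransitive
import Cfsg.Agent.RootSub.PlaneGroup
import Cfsg.Agent.RootSub.Quadratic

/-!
# Non-degenerate classes: rank one pairs are special
-/

set_option autoImplicit false
set_option linter.unusedSectionVars false
set_option linter.unusedVariables false
set_option linter.style.haveILetI false

open Subgroup
open Cfsg

namespace Cfsg.Lib.RootSub

open scoped commutatorElement IsMulCommutative

variable {G : Type*} [Group G] {S : Set (Subgroup G)} {A B C D : Subgroup G}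

theorem subgroupOf_conjBy (Y : Subgroup G) (A : Subgroup G) (g : Y) :
    (conjBy A (g : G)).subgroupOf Y = conjBy (A.subgroupOf Y) g := by
  ext y
  simp only [Subgroup.mem_subgroupOf, mem_conjBy, Subgroup.coe_mul, Subgroup.coe_inv]

theorem pair_group (h : IsRankOnePair A B) :
    IsRankOneGroup ↥(A ⊔ B) (A.subgroupOf (A ⊔ B)) (B.subgroupOf (A ⊔ B)) := by
  haveI := h.nilpotent_left
  haveI := h.nilpotent_right
  refine ⟨?_, ⟨fun he => h.ne ?_, ?_, ?_, ?_, ?_⟩⟩
  · rw [← Subgroup.subgroupOf_sup le_sup_left le_sup_right, Subgroup.subgroupOf_self]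
  · have := congrArg (Subgroup.map (A ⊔ B).subtype) he
    rwa [Subgroup.subgroupOf_map_subtype, Subgroup.subgroupOf_map_subtype, inf_eq_left.mpr le_sup_left,
      inf_eq_left.mpr le_sup_right] at this
  · exact Group.nilpotent_of_mulEquiv (Subgroup.subgroupOfEquivOfLe (le_sup_left : A ≤ A ⊔ B)).symm
  · exact Group.nilpotent_of_mulEquiv (Subgroup.subgroupOfEquivOfLe (le_sup_right : B ≤ A ⊔ B)).symm
  · intro a ha ha1
    obtain ⟨b, hb, hb1, he⟩ := h.cond_left (a : G) ha fun h' => ha1 (Subtype.ext h')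
    refine ⟨⟨b, mem_sup_right hb⟩, hb, fun h' => hb1 (congrArg Subtype.val h'), ?_⟩
    rw [← subgroupOf_conjBy, ← subgroupOf_conjBy]
    exact congrArg (fun S => S.subgroupOf (A ⊔ B)) he
  · intro a ha ha1
    obtain ⟨b, hb, hb1, he⟩ := h.cond_right (a : G) ha fun h' => ha1 (Subtype.ext h')
    refine ⟨⟨b, mem_sup_left hb⟩, hb, fun h' => hb1 (congrArg Subtype.val h'), ?_⟩
    rw [← subgroupOf_conjBy, ← subgroupOf_conjBy]
    exact congrArg (fun S => S.subgroupOf (A ⊔ B)) he

/-- The conjugation action on an abelian normalised subgroup, written additively. -/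
def conjRep (Y N : Subgroup G) (hn : Y ≤ normalizer (N : Set G)) [IsMulCommutative N] :
    Y →* AddMonoid.End (Additive N) where
  toFun y := MonoidHom.toAdditive
    ({ toFun := fun x => ⟨(y : G) * x * (y : G)⁻¹, (Subgroup.mem_normalizer_iff.mp (hn y.2) _).mp x.2⟩
       map_one' := Subtype.ext (by simp)
       map_mul' := fun x x' => Subtype.ext (by simp only [Subgroup.coe_mul]; group) } : N →* N)
  map_one' := by
    apply DFunLike.ext
    intro x
    apply Additive.toMul.injective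
    apply Subtype.ext
    show ((1 : Y) : G) * ((Additive.toMul x : N) : G) * ((1 : Y) : G)⁻¹ = ((Additive.toMul x : N) : G)
    simp
  map_mul' y y' := by
    apply DFunLike.ext
    intro x
    apply Additive.toMul.injective
    apply Subtype.ext
    show ((y * y' : Y) : G) * ((Additive.toMul x : N) : G) * ((y * y' : Y) : G)⁻¹ =
      (y : G) * ((y' : G) * ((Additive.toMul x : N) : G) * (y' : G)⁻¹) * (y : G)⁻¹
    simp only [Subgroup.coe_mul]
    group

theorem dl_conjRep (Y N : Subgroup G) (hn : Y ≤ normalizer (N : Set G)) [IsMulCommutative N] (y : Y) (x : Additive N) :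
    ((Additive.toMul (dl (conjRep Y N hn) y x) : N) : G) = ⁅(y : G), ((Additive.toMul x : N) : G)⁆ := by
  rw [commutatorElement_def]
  show ((Additive.toMul (conjRep Y N hn y x - x) : N) : G) = _
  rw [toMul_sub, div_eq_mul_inv, Subgroup.coe_mul, Subgroup.coe_inv]
  rfl

/-- Rank one pairs of a non-degenerate situation are special. -/
theorem special_of_line (hS : IsRootSubgroupSet S) (hA : A ∈ S) (hB : B ∈ S) (hAB : IsRankOnePair A B) (hC : C ∈ S)
    (hF : ⁅C, B⁆ ∈ S) (hAF : ⁅A, ⁅C, B⁆⁆ = C) : IsSpecialRankOnePair A B := by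
  set F := ⁅C, B⁆ with hFdef
  set N := C ⊔ F with hNdef
  have hcC := (commutator_case hS hC hB hF).2.1
  have hAF' : ⁅A, F⁆ ∈ S := hAF.symm ▸ hC
  have hcA := (commutator_case hS hA hF hAF').2.1
  have hNB : B ≤ normalizer (N : Set G) := by
    have h : ∀ b ∈ B, conjBy N b ≤ N := by
      intro b hb
      rw [hNdef, conjBy_sup]
      refine sup_le (line_le hS hC hB hF hb) ((le_of_eq (conjBy_eq_self_iff.mpr ?_)).trans le_sup_right)
      exact Subgroup.centralizer_le_normalizer _ (mem_centralizer_iff.mpr fun f hf => hcC f hf b (mem_sup_right hb))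
    intro b hb
    rw [← conjBy_eq_self_iff]
    refine le_antisymm (h b hb) ?_
    have := Subgroup.map_mono (f := (MulAut.conj b).toMonoidHom) (h b⁻¹ (inv_mem hb))
    rwa [← conjBy, ← conjBy, conjBy_conjBy, mul_inv_cancel, conjBy_one] at this
  have hNA : A ≤ normalizer (N : Set G) := by
    have h : ∀ a ∈ A, conjBy N a ≤ N := by
      intro a ha
      rw [hNdef, conjBy_sup]
      refine sup_le ((le_of_eq (conjBy_eq_self_iff.mpr ?_)).trans le_sup_left) ?_
      · exact Subgroup.centralizer_le_normalizer _ (mem_centralizer_iff.mpr fun c hc => by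
          have hc' : c ∈ ⁅A, F⁆ := hAF.symm ▸ hc
          exact hcA c hc' a (mem_sup_left ha))
      · intro x hx
        rw [mem_conjBy] at hx
        have e : x = ⁅a, a⁻¹ * x * a⁆ * (a⁻¹ * x * a) := by rw [commutatorElement_def]; group
        rw [e]
        exact mul_mem (mem_sup_left (hAF ▸ Subgroup.commutator_mem_commutator ha hx)) (mem_sup_right hx)
    intro a ha
    rw [← conjBy_eq_self_iff]
    refine le_antisymm (h a ha) ?_
    have := Subgroup.map_mono (f := (MulAut.conj a).toMonoidHom) (h a⁻¹ (inv_mem ha))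
    rwa [← conjBy, ← conjBy, conjBy_conjBy, mul_inv_cancel, conjBy_one] at this
  haveI : IsMulCommutative N := by
    refine ⟨⟨fun x y => Subtype.ext ?_⟩⟩
    have hleC : N ≤ centralizer (C : Set G) := sup_le
      (fun z hz => mem_centralizer_iff.mpr fun c hc => abelian_comm hS hC hc hz)
      (fun z hz => mem_centralizer_iff.mpr fun c hc => (hcC z hz c (mem_sup_left hc)).symm)
    have hleF : N ≤ centralizer (F : Set G) := sup_le
      (fun z hz => mem_centralizer_iff.mpr fun f hf => hcC f hf z (mem_sup_left hz))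
      (fun z hz => mem_centralizer_iff.mpr fun f hf => abelian_comm hS hF hf hz)
    have hle : N ≤ centralizer {(x : G)} := sup_le
      (fun c hc => mem_centralizer_singleton_iff.mpr (mem_centralizer_iff.mp (hleC x.2) c hc))
      (fun f hf => mem_centralizer_singleton_iff.mpr (mem_centralizer_iff.mp (hleF x.2) f hf))
    exact (mem_centralizer_singleton_iff.mp (hle y.2)).symm
  have hcommA : ∀ a ∈ A, ∀ c ∈ C, ⁅a, c⁆ = 1 := fun a ha c hc =>
    commutatorElement_eq_one_iff_mul_comm.mpr (hcA c (hAF.symm ▸ hc) a (mem_sup_left ha)).symm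
  have hmemA : ∀ a ∈ A, ∀ x ∈ N, ⁅a, x⁆ ∈ C := by
    intro a ha x hx
    have hle : N ≤ normalizer (C : Set G) := sup_le Subgroup.le_normalizer fun f hf =>
      Subgroup.centralizer_le_normalizer _ (mem_centralizer_iff.mpr fun c hc => (hcC f hf c (mem_sup_left hc)).symm)
    rw [← SetLike.mem_coe, hNdef, Subgroup.coe_mul_of_right_le_normalizer_left _ _ (le_sup_right.trans hle)] at hx
    obtain ⟨c, hc, f, hf, rfl⟩ := hx
    have h1 : Commute c ⁅a, f⁆ := abelian_comm hS hC hc (hAF ▸ Subgroup.commutator_mem_commutator ha hf)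
    have e : ⁅a, c * f⁆ = ⁅a, c⁆ * (c * ⁅a, f⁆ * c⁻¹) := by simp only [commutatorElement_def]; group
    rw [e, hcommA a ha c hc, one_mul, h1.eq, mul_inv_cancel_right]
    exact hAF ▸ Subgroup.commutator_mem_commutator ha hf
  set Y := A ⊔ B
  have hn : Y ≤ normalizer (N : Set G) := sup_le hNA hNB
  set ρ := conjRep Y N hn
  have hq : ∀ a ∈ A.subgroupOf Y, ∀ a' ∈ A.subgroupOf Y, dl ρ a' * dl ρ a = 0 := by
    intro a ha a' ha'
    apply DFunLike.ext
    intro x
    show dl ρ a' (dl ρ a x) = 0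
    apply Additive.toMul.injective
    apply Subtype.ext
    rw [dl_conjRep, dl_conjRep]
    exact hcommA _ ha' _ (hmemA _ ha _ (Additive.toMul x).2)
  have hX : ∃ x y : Y, dl ρ y * dl ρ x ≠ 0 := by
    obtain ⟨a, ha, ha1⟩ := exists_ne_one hAB
    obtain ⟨b, hb, hb1⟩ := exists_ne_one (RankOnePair_symm hAB)
    refine ⟨⟨b, mem_sup_right hb⟩, ⟨a, mem_sup_left ha⟩, fun h0 => ?_⟩
    apply hS.ne_bot _ hC
    rw [← hAF, ← (commutator_case hS hA hF hAF').2.2.1 a ha ha1, closure_eq_bot_iff, Set.subset_singleton_iff]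
    rintro _ ⟨f, hf, rfl⟩
    have hfix : F ≤ centralizer {a} := by
      rw [hFdef, ← (commutator_case hS hC hB hF).2.2.2 b hb hb1, closure_le]
      rintro _ ⟨c, hc, rfl⟩
      have h1 := congrArg (fun z : Additive N => ((Additive.toMul z : N) : G))
        (DFunLike.congr_fun h0 (Additive.ofMul (⟨c, mem_sup_left hc⟩ : N)))
      have h2 : ⁅a, ⁅b, c⁆⁆ = 1 := by
        have h3 : ((Additive.toMul (dl ρ ⟨a, mem_sup_left ha⟩ (dl ρ ⟨b, mem_sup_right hb⟩ (Additive.ofMul (⟨c, mem_sup_left hc⟩ : N)))) : N) : G) = 1 := h1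
        rwa [dl_conjRep, dl_conjRep] at h3
      rw [SetLike.mem_coe, mem_centralizer_singleton_iff]
      have h4 : Commute a ⁅b, c⁆ := commutatorElement_eq_one_iff_mul_comm.mp h2
      have h5 := h4.inv_right
      rw [commutatorElement_inv, commutatorElement_def] at h5
      exact h5.eq.symm
    show a * f * a⁻¹ * f⁻¹ = 1
    rw [← mem_centralizer_singleton_iff.mp (hfix hf)]
    simp
  obtain ⟨-, hspec⟩ := special_of_quadratic ρ (pair_group hAB) hq hX
  refine ⟨hAB, fun a ha ha1 b hb hb1 he => ?_⟩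
  have := hspec ⟨a, mem_sup_left ha⟩ ha (fun h => ha1 (congrArg Subtype.val h)) ⟨b, mem_sup_right hb⟩ hb
    (fun h => hb1 (congrArg Subtype.val h)) (by
      rw [← subgroupOf_conjBy, ← subgroupOf_conjBy]
      exact congrArg (fun S => S.subgroupOf Y) he)
  exact congrArg Subtype.val this

theorem nondegenerate_partner (hS : IsRootSubgroupClass S) (hnd : IsNondegenerateRootSet S) (hA : A ∈ S)
    (hB : B ∈ rankOnePartners S A) :
    (∃ C ∈ linePartners S A, C ∈ commutatorPartners S B) ∧ IsSpecialRankOnePair A B := by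
  obtain ⟨hS, -, hcl⟩ := hS
  obtain ⟨-, -, X, hX, W, hW, hXW⟩ := hnd
  obtain ⟨hBS, hAB⟩ := hB
  have hF : ∀ X ∈ S, ∃ P ∈ S, IsRankOnePair X P := fun X hX => by
    obtain ⟨g, rfl⟩ := hcl A hA X hX
    exact ⟨_, conj_pair_mem hS hBS hAB g⟩
  obtain ⟨P, hP, hXP⟩ := hF X hX
  have hpart := line_partition hS hX hP hXP hW hXW.1
  obtain ⟨g, rfl⟩ := hcl X hX A hA
  set Z := ⁅X, W⁆
  have hZX : Z ≠ X := fun h => by
    obtain ⟨x, hx, hx1⟩ := exists_ne_one hXP
    exact hx1 (by rw [← Subgroup.mem_bot, ← inf_commutator hS hX hP hXP hW hXW.1]; exact ⟨hx, show x ∈ Z from h.symm ▸ hx⟩)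
  have hAZ : ∀ a ∈ conjBy X g, ∀ z ∈ conjBy Z g, a * z = z * a := by
    intro a ha z hz
    have h1 := (hXW.2.1 _ (mem_conjBy.mp hz) _ (mem_sup_left (mem_conjBy.mp ha))).symm
    calc a * z = g * ((g⁻¹ * a * g) * (g⁻¹ * z * g)) * g⁻¹ := by group
      _ = g * ((g⁻¹ * z * g) * (g⁻¹ * a * g)) * g⁻¹ := by rw [h1]
      _ = z * a := by group
  have hcov : ∀ x ∈ conjBy X g ⊔ conjBy Z g, x ≠ 1 → ∃ C ∈ S, C ≤ conjBy X g ⊔ conjBy Z g ∧ x ∈ C := by
    intro x hx hx1
    rw [← conjBy_sup, mem_conjBy] at hx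
    obtain ⟨C, hC, hxC⟩ := hpart.2.1 _ hx (fun h => hx1 (by
      have : x = g * (g⁻¹ * x * g) * g⁻¹ := by group
      rw [this, h]; simp))
    refine ⟨conjBy C g, hS.conj_mem C hC.1 g, ?_, mem_conjBy.mpr hxC⟩
    rw [← conjBy_sup]
    exact Subgroup.map_mono hC.2
  have hne : conjBy Z g ≠ conjBy X g := fun h => hZX (conjBy_inj h)
  obtain ⟨C, hC, hCle, hCA, hCB⟩ := exists_exception hS hA hBS hAB (hS.conj_mem Z hXW.1 g) hne hAZ hcov
  have hAC : ∀ a ∈ conjBy X g, ∀ c ∈ C, a * c = c * a := by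
    intro a ha c hc
    have hle : conjBy X g ⊔ conjBy Z g ≤ centralizer {a} := sup_le
      (fun x hx => mem_centralizer_singleton_iff.mpr (abelian_comm hS hA hx ha))
      (fun x hx => mem_centralizer_singleton_iff.mpr (hAZ a ha x hx).symm)
    exact (mem_centralizer_singleton_iff.mp (hle (hCle hc))).symm
  obtain ⟨hFS, hAF⟩ := line_commutator hS hA hBS hAB hC hCA (hF C hC) hAC
    (fun x hx hx1 => (hcov x (sup_le le_sup_left hCle hx) hx1).imp fun E h => ⟨h.1, h.2.2⟩) hCB
  have hp := line_partition hS hA hBS hAB hFS (hAF.symm ▸ hC)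
  rw [hAF] at hp
  refine ⟨⟨C, ⟨⟨hC, hCA, ?_⟩, hp⟩, hC, by rw [Subgroup.commutator_comm]; exact hFS⟩,
    special_of_line hS hA hBS hAB hC hFS hAF⟩
  rw [Subgroup.commutator_eq_bot_iff_le_centralizer]
  exact fun a ha => mem_centralizer_iff.mpr fun c hc => (hAC a ha c hc).symm

end Cfsg.Lib.RootSub
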