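import Cfsg.Agent.RootSub.SpecialPerfect
import Cfsg.Agent.RootSub.LineTransitive
import Cfsg.Agent.RootSub.Nondegenerate
import Cfsg.Agent.RootSub.Components
import Cfsg.Agent.Components.Quasisimple

/-!
# The quasisimplicity criterion for groups generated by root subgroups
-/

set_option autoImplicit false
set_option linter.unusedSectionVars false
set_option linter.unusedVariables false
set_option linter.style.haveILetI false

open Subgroup
open Cfsg
open scoped commutatorElement

namespace Cfsg.Lib.RootSub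

variable {G : Type*} [Group G] {S : Set (Subgroup G)} {A B C D X Y : Subgroup G}

/-- A perfect group in which every non-central normal subgroup is everything. -/
theorem isQuasisimple_commutator (hp : commutator G = ⊤) (hc : center G ≠ ⊤)
    (hN : ∀ N : Subgroup G, N.Normal → N ≤ center G ∨ N = ⊤) : IsQuasisimple ↥(commutator G) := by
  have hqs : IsQuasisimple G := by
    refine ⟨⟨hp⟩, ?_⟩
    haveI : Nontrivial (G ⧸ center G) := QuotientGroup.nontrivial_iff.mpr hc
    refine ⟨fun M hM => ?_⟩
    have hcomap := hM.comap (QuotientGroup.mk' (center G))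
    have hmap : (M.comap (QuotientGroup.mk' (center G))).map (QuotientGroup.mk' (center G)) = M :=
      Subgroup.map_comap_eq_self_of_surjective (QuotientGroup.mk'_surjective _) M
    rcases hN _ hcomap with h | h
    · left
      rw [← hmap, Subgroup.map_eq_bot_iff, QuotientGroup.ker_mk']
      exact h
    · right
      rw [← hmap, h]
      exact Subgroup.map_top_of_surjective _ (QuotientGroup.mk'_surjective _)
  exact Cfsg.Lib.Components.qs_congr' ((Subgroup.topEquiv.symm : G ≃* (⊤ : Subgroup G)).trans (MulEquiv.subgroupCongr hp.symm)) hqs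

theorem eq_top_of_member_le (hS : IsRootSubgroupClass S) {N : Subgroup G} (hN : N.Normal) (hA : A ∈ S) (h : A ≤ N) :
    N = ⊤ := by
  rw [eq_top_iff, ← hS.1.generates]
  refine iSup₂_le fun C hC => ?_
  obtain ⟨g, rfl⟩ := hS.2.2 A hA C hC
  intro x hx
  have := hN.conj_mem _ (h (mem_conjBy.mp hx)) g
  simpa [mul_assoc] using this

section Criterion

variable (hS : IsRootSubgroupClass S) (hp : ∀ A ∈ S, ∃ P ∈ S, IsRankOnePair A P)
  (h3 : IsDegenerateRootSet S → ∀ A ∈ S, 3 < ENat.card A)
  (h4 : ∀ A ∈ S, ∀ B ∈ rankOnePartners S A, IsSpecialRankOnePair A B)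

include hS hp

theorem nondegenerate_of_case (hA : A ∈ S) (hB : B ∈ S) (h : RootCommutatorCase S A B) :
    IsNondegenerateRootSet S := by
  obtain ⟨P, hP, hAP⟩ := hp A hA
  refine ⟨⟨A, hA, _, h.1, fun he => ?_, ?_⟩, ⟨A, hA, P, hP, hAP⟩, ⟨A, hA, B, hB, h⟩⟩
  · obtain ⟨a, ha, ha1⟩ := exists_ne_one hAP
    exact ha1 (by rw [← Subgroup.mem_bot, ← inf_commutator hS.1 hA hP hAP hB h.1]; exact ⟨ha, show a ∈ ⁅A, B⁆ from he ▸ ha⟩)
  · rw [Subgroup.commutator_eq_bot_iff_le_centralizer]
    exact fun a ha => mem_centralizer_iff.mpr fun c hc => (h.2.1 c hc a (mem_sup_left ha))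

include h3 h4

/-- The commutator subgroup of a rank one pair lies in no proper normal subgroup. -/
theorem eq_top_of_pair (hA : A ∈ S) (hB : B ∈ S) (h : IsRankOnePair A B) {N : Subgroup G} (hN : N.Normal)
    (hle : ⁅A, B⁆ ≤ N) : N = ⊤ := by
  haveI := hN
  let q := QuotientGroup.mk' N
  have hq : ∀ {U : Subgroup G}, ∀ a ∈ A, ∀ u ∈ U, ⁅A, U⁆ ≤ N → q a * q u = q u * q a := by
    intro U a ha u hu hU
    rw [← commutatorElement_eq_one_iff_mul_comm, ← map_commutatorElement]
    exact (QuotientGroup.eq_one_iff _).mpr (hU (Subgroup.commutator_mem_commutator ha hu))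
  by_cases hd : IsDegenerateRootSet S
  · refine eq_top_of_member_le hS hN hA ?_
    have hperf := special_perfect (h4 A hA B ⟨hB, h⟩) (hS.1.commutative A hA) (h3 hd A hA)
    have key : ⁅A ⊔ B, A ⊔ B⁆ ≤ N := by
      rw [← QuotientGroup.ker_mk' N, ← Subgroup.map_eq_bot_iff, Subgroup.map_commutator,
        Subgroup.commutator_eq_bot_iff_le_centralizer, Subgroup.map_sup, sup_le_iff]
      constructor
      · rw [Subgroup.le_centralizer_iff, sup_le_iff]
        constructor
        · rintro _ ⟨a, ha, rfl⟩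
          rw [mem_centralizer_iff]
          rintro _ ⟨a', ha', rfl⟩
          rw [← map_mul, ← map_mul, abelian_comm hS.1 hA ha ha']
        · rintro _ ⟨b, hb, rfl⟩
          rw [mem_centralizer_iff]
          rintro _ ⟨a', ha', rfl⟩
          exact hq a' ha' b hb hle
      · rw [Subgroup.le_centralizer_iff, sup_le_iff]
        constructor
        · rintro _ ⟨a, ha, rfl⟩
          rw [mem_centralizer_iff]
          rintro _ ⟨b, hb, rfl⟩
          exact (hq a ha b hb hle).symm
        · rintro _ ⟨b, hb, rfl⟩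
          rw [mem_centralizer_iff]
          rintro _ ⟨b', hb', rfl⟩
          rw [← map_mul, ← map_mul, abelian_comm hS.1 hB hb hb']
    rw [hperf] at key
    exact le_sup_left.trans key
  · simp only [IsDegenerateRootSet, not_forall, not_not] at hd
    obtain ⟨U, hU, W, hW, hc⟩ := hd
    obtain ⟨⟨L, ⟨⟨hL, hLA, hAL⟩, hpart⟩, -, hBL⟩, -⟩ :=
      nondegenerate_partner hS (nondegenerate_of_case hS hp hU hW hc) hA (B := B) ⟨hB, h⟩
    have hnp : ¬ IsRankOnePair L B := fun hr =>
      commutator_notMem_of_pair hS.1 hL hB hr (by rw [Subgroup.commutator_comm]; exact hBL)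
    obtain ⟨-, hAF⟩ := line_commutator hS.1 hA hB h hL hLA (hp L hL) (fun a ha l hl => commute_of_bot hAL ha hl)
      (fun x hx hx1 => (hpart.2.1 x hx hx1).imp fun E hE => ⟨hE.1.1, hE.2⟩) hnp
    refine eq_top_of_member_le hS hN hL ?_
    rw [← hAF, ← QuotientGroup.ker_mk' N, ← Subgroup.map_eq_bot_iff, Subgroup.map_commutator,
      Subgroup.commutator_eq_bot_iff_le_centralizer, Subgroup.le_centralizer_iff, Subgroup.map_commutator]
    refine (Subgroup.commutator_mono le_sup_left le_sup_right).trans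
      ((Subgroup.commutator_le_self (L.map q ⊔ B.map q)).trans (sup_le ?_ ?_))
    · rintro _ ⟨l, hl, rfl⟩
      rw [mem_centralizer_iff]
      rintro _ ⟨a, ha, rfl⟩
      exact hq a ha l hl (hAL.le.trans bot_le)
    · rintro _ ⟨b, hb, rfl⟩
      rw [mem_centralizer_iff]
      rintro _ ⟨a, ha, rfl⟩
      exact hq a ha b hb hle

/-- A member centralising `X` but not a translate of `X` by an element of `N`. -/
theorem eq_top_of_translate (hD : D ∈ S) (hX : X ∈ S) {N : Subgroup G} (hN : N.Normal) {m : G} (hm : m ∈ N)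
    (hDX : D ≤ centralizer (X : Set G)) (hDY : ¬ D ≤ centralizer (conjBy X m : Set G)) : N = ⊤ := by
  haveI := hN
  have hle : ⁅D, conjBy X m⁆ ≤ N := by
    rw [Subgroup.commutator_le]
    intro d hd y hy
    rw [← QuotientGroup.eq_one_iff, ← QuotientGroup.mk'_apply, map_commutatorElement,
      commutatorElement_eq_one_iff_mul_comm]
    have hm1 : (m : G ⧸ N) = 1 := (QuotientGroup.eq_one_iff m).mpr hm
    have h1 := (mem_centralizer_iff.mp (hDX hd) _ (mem_conjBy.mp hy)).symm
    have h2 := congrArg (QuotientGroup.mk' N) h1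
    simpa [hm1] using h2
  rcases hS.1.pair D hD _ (hS.1.conj_mem X hX m) with h0 | hr | hc
  · exact absurd (Subgroup.commutator_eq_bot_iff_le_centralizer.mp h0) hDY
  · exact eq_top_of_pair hS hp h3 h4 hD (hS.1.conj_mem X hX m) hr hN hle
  · exact eq_top_of_member_le hS hN hc.1 hle

/-- Every normal subgroup is central or everything. -/
theorem normal_central_or_top
    (h2' : ∀ A ∈ S, ∀ C ∈ S, A ≠ C → centralizingMembers S A ≠ centralizingMembers S C)
    (N : Subgroup G) (hN : N.Normal) : N ≤ center G ∨ N = ⊤ := by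
  by_cases hfix : ∀ n ∈ N, ∀ A ∈ S, conjBy A n = A
  · left
    intro n hn
    rw [Subgroup.mem_center_iff]
    intro g
    have hg : (⊤ : Subgroup G) ≤ centralizer {n} := by
      rw [← hS.1.generates]
      refine iSup₂_le fun A hA a ha => mem_centralizer_singleton_iff.mpr ?_
      obtain ⟨P, hP, hAP⟩ := hp A hA
      have hN' : ∀ x ∈ N, x ∈ A → x = 1 := fun x hx hxA => eq_one_of_normalizes hAP hxA (hfix x hx P hP)
      have hcm : ⁅n, a⁆ = 1 := by
        refine hN' _ ?_ ?_
        · rw [commutatorElement_def, mul_assoc, mul_assoc, ← mul_assoc a n⁻¹ a⁻¹]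
          exact mul_mem hn (hN.conj_mem _ (inv_mem hn) a)
        · rw [commutatorElement_def]
          refine mul_mem ?_ (inv_mem ha)
          exact (Subgroup.mem_normalizer_iff.mp (conjBy_eq_self_iff.mp (hfix n hn A hA)) a).mp ha
      exact (commutatorElement_eq_one_iff_mul_comm.mp hcm).symm
    exact mem_centralizer_singleton_iff.mp (hg (mem_top g))
  · right
    push Not at hfix
    obtain ⟨n, hn, A, hA, hne⟩ := hfix
    have hdiff := h2' A hA _ (hS.1.conj_mem A hA n) (Ne.symm hne)
    obtain ⟨D, hD⟩ : ∃ D, ¬ (D ∈ centralizingMembers S A ↔ D ∈ centralizingMembers S (conjBy A n)) := by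
      by_contra hno
      push Not at hno
      exact hdiff (Set.ext hno)
    by_cases hDA : D ∈ centralizingMembers S A
    · exact eq_top_of_translate hS hp h3 h4 hDA.1 hA hN hn hDA.2 fun h => hD (iff_of_true hDA ⟨hDA.1, h⟩)
    · obtain ⟨hDS, hDC⟩ : D ∈ centralizingMembers S (conjBy A n) := by
        by_contra hn'
        exact hD (iff_of_false hDA hn')
      refine eq_top_of_translate hS hp h3 h4 hDS (hS.1.conj_mem A hA n) hN (inv_mem hn) hDC fun h => hDA ⟨hDS, ?_⟩
      rwa [conjBy_conjBy, inv_mul_cancel, conjBy_one] at h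

theorem commutator_eq_top (hne : S.Nonempty) : commutator G = ⊤ := by
  obtain ⟨A, hA⟩ := hne
  obtain ⟨P, hP, hAP⟩ := hp A hA
  exact eq_top_of_pair hS hp h3 h4 hA hP hAP inferInstance (Subgroup.commutator_mono le_top le_top)

theorem center_ne_top (hne : S.Nonempty) : center G ≠ ⊤ := by
  obtain ⟨A, hA⟩ := hne
  obtain ⟨P, hP, hAP⟩ := hp A hA
  obtain ⟨a, ha, ha1⟩ := exists_ne_one hAP
  obtain ⟨b, hb, hne⟩ := not_commute hAP ha ha1
  intro h
  exact hne (Subgroup.mem_center_iff.mp (h ▸ mem_top b : b ∈ center G) a)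

end Criterion

end Cfsg.Lib.RootSub
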