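import Cfsg.Agent.RootSub.Special

/-!
# Special rank one groups with more than three elements in a unipotent subgroup are perfect
-/

set_option autoImplicit false
set_option linter.unusedSectionVars false
set_option linter.unusedVariables false

open Subgroup
open Cfsg
open scoped commutatorElement

namespace Cfsg.Lib.RootSub

variable {G : Type*} [Group G] {A B : Subgroup G}

/-- The element interchanging the two unipotent subgroups. -/
def swapEl (a b : G) : G := a⁻¹ * b * a⁻¹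

theorem swapEl_spec (h : IsSpecialRankOnePair A B) {a b : G} (ha : a ∈ A) (ha1 : a ≠ 1) (hb : b ∈ B) (hb1 : b ≠ 1)
    (he : conjBy A b⁻¹ = conjBy B a⁻¹) :
    swapEl a b ∈ A ⊔ B ∧ conjBy A (swapEl a b) = B ∧ conjBy B (swapEl a b) = A ∧
      swapEl a b * a * (swapEl a b)⁻¹ = b⁻¹ ∧ swapEl a b * a⁻¹ * (swapEl a b)⁻¹ = b ∧
      swapEl a⁻¹ b⁻¹ = (swapEl a b)⁻¹ ∧ conjBy A b⁻¹⁻¹ = conjBy B a⁻¹⁻¹ := by
  obtain ⟨e2, e1, e3⟩ := special_braid h ha ha1 hb hb1 he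
  have hn : swapEl a b = b * a⁻¹ * b := by
    have h1 : a⁻¹ * (a * b * a⁻¹) = a⁻¹ * (b * a⁻¹ * b⁻¹) := by rw [e2]
    calc swapEl a b = a⁻¹ * (b * a⁻¹ * b⁻¹) * b := by rw [swapEl]; group
      _ = a⁻¹ * (a * b * a⁻¹) * b := by rw [h1]
      _ = b * a⁻¹ * b := by group
  have hconj : swapEl a b * a * (swapEl a b)⁻¹ = b⁻¹ := by
    have h1 : a * b⁻¹ * a⁻¹ = b * a * b⁻¹ := by
      have := congrArg (·⁻¹) e2
      simpa [mul_assoc] using this
    calc swapEl a b * a * (swapEl a b)⁻¹ = b * a⁻¹ * (b * a * b⁻¹) * a * b⁻¹ := by rw [hn]; group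
      _ = b * a⁻¹ * (a * b⁻¹ * a⁻¹) * a * b⁻¹ := by rw [h1]
      _ = b⁻¹ := by group
  refine ⟨mul_mem (mul_mem (mem_sup_left (inv_mem ha)) (mem_sup_right hb)) (mem_sup_left (inv_mem ha)),
    ?_, ?_, hconj, ?_, by simp [swapEl, mul_assoc], by rw [inv_inv, inv_inv]; exact e3⟩
  · rw [swapEl, ← conjBy_conjBy, conjBy_self (inv_mem ha), ← conjBy_conjBy, e3, conjBy_conjBy, inv_mul_cancel, conjBy_one]
  · rw [swapEl, ← conjBy_conjBy, ← he, conjBy_conjBy, show a⁻¹ * b * b⁻¹ = a⁻¹ by group, conjBy_self (inv_mem ha)]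
  · rw [← inv_inj, mul_inv_rev, mul_inv_rev, inv_inv, inv_inv, ← mul_assoc, hconj]

/-- Action of a swapping element on the points other than the two fixed ones, modulo `⁅A, H⁆`. -/
theorem swap_point (h : IsSpecialRankOnePair A B) (hA : IsMulCommutative A) {d b : G} (hd : d ∈ A) (hd1 : d ≠ 1) (hb : b ∈ B) (hb1 : b ≠ 1)
    (he : conjBy A b⁻¹ = conjBy B d⁻¹) {y : G} (hy : y ∈ A) (hy1 : y ≠ 1) :
    ∃ w ∈ A, w ≠ 1 ∧ conjBy B (swapEl d b * y) = conjBy B w ∧ w * y ∈ ⁅A, rankOneDiagonal A B⁆ := by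
  obtain ⟨hnX, hnA, hnB, -⟩ := swapEl_spec h hd hd1 hb hb1 he
  set n := swapEl d b
  set β := n * y * n⁻¹
  have hβ : β ∈ B := by rw [← hnA, mem_conjBy]; simpa [β, mul_assoc] using hy
  have hβ1 : β⁻¹ ≠ 1 := fun h0 => hy1 (conj_eq_one_iff.mp (inv_eq_one.mp h0))
  obtain ⟨z, hz, hz1, hze⟩ := h.1.cond_right β⁻¹ (inv_mem hβ) hβ1
  obtain ⟨hmX, hmA, hmB, hmz, -⟩ := swapEl_spec h hz hz1 (inv_mem hβ) hβ1 hze.symm
  set m := swapEl z β⁻¹
  rw [inv_inv] at hmz hze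
  refine ⟨z⁻¹, inv_mem hz, inv_ne_one.mpr hz1, ?_, ?_⟩
  · rw [hze, show n * y = β * n by simp [β], ← conjBy_conjBy, hnB]
  · have hinvA : conjBy B n⁻¹ = A := by rw [← hnA, conjBy_conjBy, inv_mul_cancel, conjBy_one]
    have hinvB : conjBy A n⁻¹ = B := by rw [← hnB, conjBy_conjBy, inv_mul_cancel, conjBy_one]
    have hhd : n⁻¹ * m ∈ rankOneDiagonal A B := by
      refine Subgroup.mem_inf.mpr ⟨Subgroup.mem_inf.mpr ⟨mul_mem (inv_mem hnX) hmX, conjBy_eq_self_iff.mp ?_⟩, conjBy_eq_self_iff.mp ?_⟩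
      · rw [← conjBy_conjBy, hmA, hinvA]
      · rw [← conjBy_conjBy, hmB, hinvB]
    rw [Subgroup.commutator_comm]
    have hyz : y = n⁻¹ * m * z * (n⁻¹ * m)⁻¹ := by
      calc y = n⁻¹ * β * n := by simp [β, mul_assoc]
        _ = n⁻¹ * (m * z * m⁻¹) * n := by rw [hmz]
        _ = _ := by group
    have hc := Subgroup.commutator_mem_commutator hhd hz
    have e : ⁅n⁻¹ * m, z⁆ = y * z⁻¹ := by rw [commutatorElement_def, ← hyz]
    rw [e] at hc
    have hcomm : z⁻¹ * y = y * z⁻¹ := congrArg Subtype.val (mul_comm' (⟨z⁻¹, inv_mem hz⟩ : A) ⟨y, hy⟩)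
    rwa [hcomm]

/-- The commutators with the diagonal subgroup fill `A`. -/
theorem commutator_diagonal_eq (h : IsSpecialRankOnePair A B) (hA : IsMulCommutative A) (h4 : 3 < ENat.card A) :
    ⁅A, rankOneDiagonal A B⁆ = A := by
  set A₀ := ⁅A, rankOneDiagonal A B⁆
  have hle : A₀ ≤ A := Subgroup.commutator_le.mpr fun a ha x hx => by
    have hx' : x ∈ normalizer (A : Set G) := hx.1.2
    rw [commutatorElement_def, show a * x * a⁻¹ * x⁻¹ = a * (x * a⁻¹ * x⁻¹) by group]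
    exact mul_mem ha ((mem_normalizer_iff.mp hx' _).mp (inv_mem ha))
  refine le_antisymm hle fun d₀ hd₀ => ?_
  have hcomm : ∀ u ∈ A, ∀ v ∈ A, Commute u v := fun u hu v hv =>
    congrArg Subtype.val (mul_comm' (⟨u, hu⟩ : A) ⟨v, hv⟩)
  -- every point other than `1, d` squares to `d`
  have main : ∀ d ∈ A, d ≠ 1 → ∀ x ∈ A, x ≠ 1 → x ≠ d → x * x * d⁻¹ ∈ A₀ := by
    intro d hd hd1 x hx hx1 hxd
    obtain ⟨b, hb, hb1, he⟩ := h.1.cond_left d hd hd1
    obtain ⟨hnX, hnA, hnB, hnd, hndi, hinv, he'⟩ := swapEl_spec h hd hd1 hb hb1 he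
    set n := swapEl d b with hn
    obtain ⟨w, hw, hw1, hwe, hwA⟩ := swap_point h hA hd hd1 hb hb1 he hx hx1
    have hdx1 : d⁻¹ * x ≠ 1 := fun h0 => hxd (inv_mul_eq_one.mp h0).symm
    obtain ⟨y, hy, hy1, hye, hyA⟩ := swap_point h hA (inv_mem hd) (inv_ne_one.mpr hd1) (inv_mem hb)
      (inv_ne_one.mpr hb1) he' (mul_mem (inv_mem hd) hx) hdx1
    rw [hinv] at hye
    have hfac : n = d⁻¹ * (n * d⁻¹ * n⁻¹) * d⁻¹ := by rw [hndi]; rfl
    have himg : conjBy B (n * x) = conjBy B (d⁻¹ * (n * (d⁻¹ * y))) := by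
      conv_lhs => rw [hfac]
      calc conjBy B (d⁻¹ * (n * d⁻¹ * n⁻¹) * d⁻¹ * x)
          = conjBy B ((d⁻¹ * n * d⁻¹) * (n⁻¹ * (d⁻¹ * x))) := by simp only [mul_assoc]
        _ = conjBy (conjBy B (n⁻¹ * (d⁻¹ * x))) (d⁻¹ * n * d⁻¹) := (conjBy_conjBy _ _).symm
        _ = conjBy (conjBy B y) (d⁻¹ * n * d⁻¹) := by rw [hye]
        _ = _ := by rw [conjBy_conjBy]; simp only [mul_assoc]
    have hdy1 : d⁻¹ * y ≠ 1 := by
      intro h0
      rw [h0, mul_one, ← conjBy_conjBy (A := B) n d⁻¹, hnB, conjBy_self (inv_mem hd), hwe] at himg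
      refine h.1.ne (Eq.symm ?_)
      have := congrArg (fun S => conjBy S w⁻¹) himg
      simpa [conjBy_conjBy, conjBy_one, conjBy_self (inv_mem hw)] using this
    obtain ⟨u, hu, hu1, hue, huA⟩ := swap_point h hA hd hd1 hb hb1 he (mul_mem (inv_mem hd) hy) hdy1
    rw [hwe, ← conjBy_conjBy, hue, conjBy_conjBy] at himg
    have hwu : w = d⁻¹ * u := a_unique h.1 hw (mul_mem (inv_mem hd) hu) himg
    subst hwu
    letI : CommGroup A := { (inferInstance : Group A) with mul_comm := fun a b => mul_comm' a b }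
    have e : (⟨x, hx⟩ : A) * ⟨x, hx⟩ * (⟨d, hd⟩ : A)⁻¹ =
        ((⟨d, hd⟩ : A)⁻¹ * ⟨u, hu⟩ * ⟨x, hx⟩) * (((⟨u, hu⟩ : A) * ((⟨d, hd⟩ : A)⁻¹ * ⟨y, hy⟩)))⁻¹ *
          ((⟨y, hy⟩ : A) * ((⟨d, hd⟩ : A)⁻¹ * ⟨x, hx⟩)) := by
      apply Additive.ofMul.injective
      simp only [ofMul_mul, ofMul_inv]
      abel
    have e' := congrArg Subtype.val e
    push_cast at e'
    rw [e']
    exact mul_mem (mul_mem hwA (inv_mem huA)) hyA
  by_cases hd₀1 : d₀ = 1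
  · rw [hd₀1]; exact one_mem _
  by_contra hd₀A
  by_cases hbot : ∃ x ∈ A₀, x ≠ 1
  · obtain ⟨x, hxA₀, hx1⟩ := hbot
    have := main d₀ hd₀ hd₀1 x (hle hxA₀) hx1 (fun h0 => hd₀A (h0 ▸ hxA₀))
    rw [Subgroup.mul_mem_cancel_left _ (mul_mem hxA₀ hxA₀), inv_mem_iff] at this
    exact hd₀A this
  push Not at hbot
  have hsq : ∀ d ∈ A, d ≠ 1 → ∀ x ∈ A, x ≠ 1 → x ≠ d → x * x = d := fun d hd hd1 x hx hx1 hxd =>
    mul_inv_eq_one.mp (hbot _ (main d hd hd1 x hx hx1 hxd))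
  classical
  -- two further elements
  obtain ⟨x, hx, hx1, hxd, x', hx', hx'1, hx'd, hxx'⟩ : ∃ x ∈ A, x ≠ 1 ∧ x ≠ d₀ ∧
      ∃ x' ∈ A, x' ≠ 1 ∧ x' ≠ d₀ ∧ x ≠ x' := by
    have hne : ∀ s : Finset A, s.card ≤ 3 → ∃ z : A, z ∉ s := by
      intro s hs
      by_contra hall
      push Not at hall
      haveI : Fintype A := ⟨s, hall⟩
      rw [ENat.card_eq_coe_fintype_card] at h4
      have : Fintype.card A ≤ 3 := (Finset.card_le_card (fun z _ => hall z)).trans hs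
      have : (3 : ℕ∞) < 3 := h4.trans_le (by exact_mod_cast this)
      exact lt_irrefl _ this
    obtain ⟨x, hx⟩ := hne {1, ⟨d₀, hd₀⟩} (Finset.card_le_two.trans (by norm_num))
    obtain ⟨x', hx'⟩ := hne {1, ⟨d₀, hd₀⟩, x} Finset.card_le_three
    simp only [Finset.mem_insert, Finset.mem_singleton, not_or] at hx hx'
    exact ⟨x, x.2, fun h0 => hx.1 (Subtype.ext h0), fun h0 => hx.2 (Subtype.ext h0), x', x'.2,
      fun h0 => hx'.1 (Subtype.ext h0), fun h0 => hx'.2.1 (Subtype.ext h0), fun h0 => hx'.2.2 (Subtype.ext h0.symm)⟩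
  have e1 := hsq d₀ hd₀ hd₀1 x' hx' hx'1 hx'd
  have e2 := hsq x hx hx1 x' hx' hx'1 hxx'.symm
  exact hxd (e2.symm.trans e1)

/-- A special rank one group with more than three elements in an abelian unipotent subgroup is perfect. -/
theorem special_perfect (h : IsSpecialRankOnePair A B) (hA : IsMulCommutative A) (h4 : 3 < ENat.card A) :
    ⁅A ⊔ B, A ⊔ B⁆ = A ⊔ B := by
  refine le_antisymm (Subgroup.commutator_le_self _) ?_
  have hA' : A ≤ ⁅A ⊔ B, A ⊔ B⁆ := by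
    conv_lhs => rw [← commutator_diagonal_eq h hA h4]
    exact Subgroup.commutator_mono le_sup_left fun x hx => hx.1.1
  refine sup_le hA' fun b hb => ?_
  by_cases hb1 : b = 1
  · rw [hb1]; exact one_mem _
  obtain ⟨a, ha, ha1, he⟩ := h.1.cond_right b hb hb1
  obtain ⟨hnX, -, -, hna, -⟩ := swapEl_spec h ha ha1 hb hb1 he.symm
  have h1 : b⁻¹ = ⁅swapEl a b, a⁆ * a := by rw [commutatorElement_def, ← hna]; group
  rw [← inv_mem_iff, h1]
  exact mul_mem (Subgroup.commutator_mem_commutator hnX (mem_sup_left ha)) (hA' ha)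

end Cfsg.Lib.RootSub
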