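import Cfsg.Prelude.Def_RootSubgroups

/-!
# Rank one pairs and sets of abstract root subgroups: first facts
-/

set_option autoImplicit false
set_option linter.unusedSectionVars false
set_option linter.unusedVariables false
set_option linter.style.haveILetI false

open Subgroup
open Cfsg

namespace Cfsg.Lib.RootSub

open scoped commutatorElement

variable {G : Type*} [Group G] {A B C D : Subgroup G}

/-! ### Conjugates -/

theorem mem_conjBy {g x : G} : x ∈ conjBy A g ↔ g⁻¹ * x * g ∈ A := by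
  constructor
  · rintro ⟨a, ha, rfl⟩
    simpa [mul_assoc] using ha
  · intro h
    exact ⟨_, h, by simp [mul_assoc]⟩

theorem conjBy_conjBy (g h : G) : conjBy (conjBy A g) h = conjBy A (h * g) := by
  ext x
  simp only [mem_conjBy, mul_inv_rev, mul_assoc]

theorem conjBy_one : conjBy A 1 = A := by
  ext x
  simp [mem_conjBy]

theorem conjBy_self {g : G} (hg : g ∈ A) : conjBy A g = A := by
  ext x
  rw [mem_conjBy]
  constructor <;> intro h
  · simpa [mul_assoc] using A.mul_mem (A.mul_mem hg h) (A.inv_mem hg)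
  · exact A.mul_mem (A.mul_mem (A.inv_mem hg) h) hg

theorem conjBy_eq_self_iff {g : G} : conjBy A g = A ↔ g ∈ normalizer (A : Set G) := by
  rw [Subgroup.mem_normalizer_iff'']
  constructor
  · intro h x
    constructor
    · intro hx
      rw [← h] at hx
      exact mem_conjBy.mp hx
    · intro hx
      have : x ∈ conjBy A g := mem_conjBy.mpr hx
      rwa [h] at this
  · intro h
    ext x
    rw [mem_conjBy]
    exact (h x).symm

theorem conjBy_inj {g : G} (h : conjBy C g = conjBy D g) : C = D := by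
  have h1 := congrArg (fun S => conjBy S g⁻¹) h
  simpa [conjBy_conjBy, conjBy_one] using h1

theorem conjBy_inj_right {g h : G} (he : conjBy A g = conjBy A h) : h⁻¹ * g ∈ normalizer (A : Set G) := by
  rw [← conjBy_eq_self_iff, ← conjBy_conjBy, he, conjBy_conjBy, inv_mul_cancel, conjBy_one]

theorem conjBy_sup {g : G} : conjBy (A ⊔ B) g = conjBy A g ⊔ conjBy B g := Subgroup.map_sup _ _ _

/-! ### Rank one pairs -/

theorem inf_normalizer (h : IsRankOnePair A B) : A ⊓ normalizer (B : Set G) = ⊥ := by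
  rw [eq_bot_iff_forall]
  rintro a ⟨ha, han⟩
  by_contra ha1
  obtain ⟨b, hb, hb1, he⟩ := h.cond_left a ha ha1
  rw [conjBy_eq_self_iff.mpr (inv_mem han)] at he
  have h1 := congrArg (fun S => conjBy S b) he
  simp only [conjBy_conjBy, mul_inv_cancel, conjBy_one, conjBy_self hb] at h1
  exact h.ne h1

theorem eq_one_of_normalizes (h : IsRankOnePair A B) {a : G} (ha : a ∈ A) (he : conjBy B a = B) : a = 1 :=
  (eq_bot_iff_forall _).mp (inf_normalizer h) a ⟨ha, conjBy_eq_self_iff.mp he⟩

theorem inf_eq_bot (h : IsRankOnePair A B) : A ⊓ B = ⊥ :=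
  le_bot_iff.mp ((inf_le_inf_left A Subgroup.le_normalizer).trans (inf_normalizer h).le)

theorem left_ne_bot (h : IsRankOnePair A B) : A ≠ ⊥ := by
  intro hA
  rcases B.bot_or_exists_ne_one with hB | ⟨b, hb, hb1⟩
  · exact h.ne (hA.trans hB.symm)
  · obtain ⟨a, ha, ha1, -⟩ := h.cond_right b hb hb1
    rw [hA, Subgroup.mem_bot] at ha
    exact ha1 ha

theorem exists_ne_one (h : IsRankOnePair A B) : ∃ a ∈ A, a ≠ 1 :=
  A.bot_or_exists_ne_one.resolve_left (left_ne_bot h)

theorem not_commute (h : IsRankOnePair A B) {a : G} (ha : a ∈ A) (ha1 : a ≠ 1) :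
    ∃ b ∈ B, a * b ≠ b * a := by
  by_contra hno
  push Not at hno
  refine ha1 (eq_one_of_normalizes h ha ?_)
  ext x
  rw [mem_conjBy]
  constructor <;> intro hx
  · have := hno _ hx
    rw [show x = a * (a⁻¹ * x * a) * a⁻¹ by group, this]
    simpa [mul_assoc] using hx
  · have := hno _ hx
    rw [mul_assoc, ← this]
    simpa using hx

theorem not_commutator_bot (h : IsRankOnePair A B) : ⁅A, B⁆ ≠ ⊥ := by
  intro h0
  obtain ⟨a, ha, ha1⟩ := exists_ne_one h
  obtain ⟨b, hb, hab⟩ := not_commute h ha ha1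
  have := Subgroup.commutator_mem_commutator ha hb
  rw [h0, Subgroup.mem_bot, commutatorElement_eq_one_iff_mul_comm] at this
  exact hab this

theorem b_unique (h : IsRankOnePair A B) {b b' : G} (hb : b ∈ B) (hb' : b' ∈ B)
    (he : conjBy A b⁻¹ = conjBy A b'⁻¹) : b = b' := by
  have h1 : conjBy A (b' * b⁻¹) = A := by
    rw [← conjBy_conjBy, he, conjBy_conjBy, mul_inv_cancel, conjBy_one]
  exact (mul_inv_eq_one.mp (eq_one_of_normalizes (RankOnePair_symm h) (B.mul_mem hb' (B.inv_mem hb)) h1)).symm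

theorem a_unique (h : IsRankOnePair A B) {a a' : G} (ha : a ∈ A) (ha' : a' ∈ A)
    (he : conjBy B a = conjBy B a') : a = a' := by
  have h1 : conjBy B (a'⁻¹ * a) = B := by rw [← conjBy_conjBy, he, conjBy_conjBy, inv_mul_cancel, conjBy_one]
  exact (inv_mul_eq_one.mp (eq_one_of_normalizes h (A.mul_mem (A.inv_mem ha') ha) h1)).symm

theorem left_mem (A B : Subgroup G) : A ∈ unipotentSubgroups A B := ⟨1, one_mem _, conjBy_one.symm⟩

theorem unipotent_conj {x : G} (hx : x ∈ A ⊔ B) (hC : C ∈ unipotentSubgroups A B) :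
    conjBy C x ∈ unipotentSubgroups A B := by
  obtain ⟨y, hy, rfl⟩ := hC
  exact ⟨x * y, mul_mem hx hy, conjBy_conjBy y x⟩

theorem right_mem (h : IsRankOnePair A B) : B ∈ unipotentSubgroups A B := by
  obtain ⟨a, ha, ha1⟩ := exists_ne_one h
  obtain ⟨b, hb, -, he⟩ := h.cond_left a ha ha1
  refine ⟨a * b⁻¹, mul_mem (mem_sup_left ha) (mem_sup_right (inv_mem hb)), ?_⟩
  rw [← conjBy_conjBy, he, conjBy_conjBy, mul_inv_cancel, conjBy_one]

theorem mem_union_of_unipotent (h : IsRankOnePair A B) (hC : C ∈ unipotentSubgroups A B) :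
    C = A ∨ ∃ a ∈ A, C = conjBy B a := by
  let Δ : Set (Subgroup G) := {C | C = A ∨ ∃ a ∈ A, C = conjBy B a}
  have hΔA : ∀ a ∈ A, ∀ C ∈ Δ, conjBy C a ∈ Δ := by
    rintro a ha C (rfl | ⟨a', ha', rfl⟩)
    · exact Or.inl (conjBy_self ha)
    · exact Or.inr ⟨a * a', A.mul_mem ha ha', conjBy_conjBy a' a⟩
  have hΔB : ∀ C, (C = B ∨ ∃ b ∈ B, C = conjBy A b) → C ∈ Δ := by
    rintro C (rfl | ⟨b, hb, rfl⟩)
    · exact Or.inr ⟨1, A.one_mem, conjBy_one.symm⟩
    · by_cases hb1 : b = 1
      · exact Or.inl (by rw [hb1, conjBy_one])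
      · obtain ⟨a, ha, -, he⟩ := h.cond_right b⁻¹ (inv_mem hb) (inv_ne_one.mpr hb1)
        exact Or.inr ⟨a⁻¹, inv_mem ha, by rw [he, inv_inv]⟩
  have hΔB' : ∀ C ∈ Δ, (C = B ∨ ∃ b ∈ B, C = conjBy A b) := by
    rintro C (rfl | ⟨a, ha, rfl⟩)
    · exact Or.inr ⟨1, B.one_mem, conjBy_one.symm⟩
    · by_cases ha1 : a = 1
      · exact Or.inl (by rw [ha1, conjBy_one])
      · obtain ⟨b, hb, -, he⟩ := h.cond_left a⁻¹ (inv_mem ha) (inv_ne_one.mpr ha1)
        exact Or.inr ⟨b⁻¹, inv_mem hb, by rw [he, inv_inv]⟩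
  have hB : ∀ b ∈ B, ∀ C ∈ Δ, conjBy C b ∈ Δ := by
    intro b hb C hC
    rcases hΔB' C hC with rfl | ⟨b', hb', rfl⟩
    · exact hΔB _ (Or.inl (conjBy_self hb))
    · exact hΔB _ (Or.inr ⟨b * b', B.mul_mem hb hb', conjBy_conjBy b' b⟩)
  obtain ⟨x, hx, rfl⟩ := hC
  suffices ∀ x ∈ A ⊔ B, ∀ C ∈ Δ, conjBy C x ∈ Δ from this x hx A (Or.inl rfl)
  intro x hx
  rw [sup_eq_closure] at hx
  induction hx using Subgroup.closure_induction'' with
  | one => intro C hC; rwa [conjBy_one]
  | mem x hx =>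
    intro C hC
    exact hx.elim (fun h => hΔA x h C hC) (fun h => hB x h C hC)
  | inv_mem x hx =>
    intro C hC
    exact hx.elim (fun h => hΔA _ (inv_mem h) C hC) (fun h => hB _ (inv_mem h) C hC)
  | mul x y _ _ hx hy =>
    intro C hC
    rw [← conjBy_conjBy]
    exact hx _ (hy C hC)

theorem unipotent_regular (h : IsRankOnePair A B) (hC : C ∈ unipotentSubgroups A B) (hD : D ∈ unipotentSubgroups A B)
    (hCA : C ≠ A) (hDA : D ≠ A) : ∃! a : G, a ∈ A ∧ conjBy C a = D := by
  obtain ⟨c, hc, rfl⟩ := (mem_union_of_unipotent h hC).resolve_left hCA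
  obtain ⟨d, hd, rfl⟩ := (mem_union_of_unipotent h hD).resolve_left hDA
  refine ⟨d * c⁻¹, ⟨A.mul_mem hd (A.inv_mem hc), ?_⟩, ?_⟩
  · rw [conjBy_conjBy, inv_mul_cancel_right]
  · rintro a ⟨ha, he⟩
    rw [conjBy_conjBy] at he
    exact eq_mul_inv_of_mul_eq (a_unique h (A.mul_mem ha hc) hd he)

theorem unipotent_two_trans (h : IsRankOnePair A B) (hC : C ∈ unipotentSubgroups A B) (hD : D ∈ unipotentSubgroups A B)
    (hCD : C ≠ D) : ∃ x ∈ A ⊔ B, conjBy A x = C ∧ conjBy B x = D := by
  obtain ⟨x, hx, rfl⟩ := hC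
  have h1 : conjBy D x⁻¹ ∈ unipotentSubgroups A B := unipotent_conj (inv_mem hx) hD
  have h2 : conjBy D x⁻¹ ≠ A := fun he => hCD (by rw [← he, conjBy_conjBy, mul_inv_cancel, conjBy_one])
  obtain ⟨a, ha, he⟩ := (mem_union_of_unipotent h h1).resolve_left h2
  refine ⟨x * a, mul_mem hx (mem_sup_left ha), ?_, ?_⟩
  · rw [← conjBy_conjBy, conjBy_self ha]
  · rw [← conjBy_conjBy, ← he, conjBy_conjBy, mul_inv_cancel, conjBy_one]

theorem conj_pair (h : IsRankOnePair A B) (g : G) : IsRankOnePair (conjBy A g) (conjBy B g) := by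
  refine ⟨fun he => h.ne (conjBy_inj he), ?_, ?_, ?_, ?_⟩
  · have := h.nilpotent_left
    exact Group.nilpotent_of_mulEquiv (A.equivMapOfInjective _ (MulAut.conj g).injective)
  · have := h.nilpotent_right
    exact Group.nilpotent_of_mulEquiv (B.equivMapOfInjective _ (MulAut.conj g).injective)
  all_goals
    intro a ha ha1
    rw [mem_conjBy] at ha
    have hne : g⁻¹ * a * g ≠ 1 := fun h' => ha1 (by
      have : a = g * (g⁻¹ * a * g) * g⁻¹ := by group
      rw [this, h']; simp)
  · obtain ⟨b, hb, hb1, he⟩ := h.cond_left _ ha hne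
    refine ⟨g * b * g⁻¹, mem_conjBy.mpr (by simpa [mul_assoc] using hb), fun h' => hb1 (conj_eq_one_iff.mp h'), ?_⟩
    have h1 := congrArg (fun S => conjBy S g) he
    simp only [conjBy_conjBy] at h1 ⊢
    simpa [mul_assoc] using h1
  · obtain ⟨b, hb, hb1, he⟩ := h.cond_right _ ha hne
    refine ⟨g * b * g⁻¹, mem_conjBy.mpr (by simpa [mul_assoc] using hb), fun h' => hb1 (conj_eq_one_iff.mp h'), ?_⟩
    have h1 := congrArg (fun S => conjBy S g) he
    simp only [conjBy_conjBy] at h1 ⊢
    simpa [mul_assoc] using h1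

theorem unipotent_pair (h : IsRankOnePair A B) (hC : C ∈ unipotentSubgroups A B) (hD : D ∈ unipotentSubgroups A B)
    (hCD : C ≠ D) : IsRankOnePair C D := by
  obtain ⟨x, -, h1, h2⟩ := unipotent_two_trans h hC hD hCD
  exact h1 ▸ h2 ▸ conj_pair h x

theorem unipotent_le (hC : C ∈ unipotentSubgroups A B) : C ≤ A ⊔ B := by
  obtain ⟨x, hx, rfl⟩ := hC
  intro y hy
  rw [mem_conjBy] at hy
  have : x * (x⁻¹ * y * x) * x⁻¹ ∈ A ⊔ B := mul_mem (mul_mem hx (mem_sup_left hy)) (inv_mem hx)
  simpa [mul_assoc] using this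

theorem sup_eq_of_unipotent (h : IsRankOnePair A B) (hC : C ∈ unipotentSubgroups A B) (hD : D ∈ unipotentSubgroups A B)
    (hCD : C ≠ D) : C ⊔ D = A ⊔ B := by
  refine le_antisymm (sup_le (unipotent_le hC) (unipotent_le hD)) ?_
  obtain ⟨x, hx, rfl, rfl⟩ := unipotent_two_trans h hC hD hCD
  rw [← conjBy_sup, conjBy_self hx]

/-- An element of `⟨A, B⟩` normalising `A` and `B` and centralising `A` fixes every unipotent subgroup. -/
theorem fixes_all (h : IsRankOnePair A B) {g : G} (hgA : ∀ a ∈ A, g * a = a * g)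
    (hgB : conjBy B g = B) (hC : C ∈ unipotentSubgroups A B) : conjBy C g = C := by
  rcases mem_union_of_unipotent h hC with rfl | ⟨a, ha, rfl⟩
  · ext x
    rw [mem_conjBy]
    constructor <;> intro hx
    · have := hgA _ hx
      rw [show x = g * (g⁻¹ * x * g) * g⁻¹ by group, this]
      simpa [mul_assoc] using hx
    · rw [mul_assoc, ← hgA x hx]
      simpa using hx
  · rw [conjBy_conjBy, hgA a ha, ← conjBy_conjBy, hgB]

/-- An element normalising every unipotent subgroup centralises `A`. -/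
theorem commute_of_fixes (h : IsRankOnePair A B) {g : G}
    (hfix : ∀ C ∈ unipotentSubgroups A B, conjBy C g = C) {a : G} (ha : a ∈ A) : g * a = a * g := by
  have hB := hfix B (right_mem h)
  have hB' : conjBy B g⁻¹ = B := by conv_lhs => rw [← hB, conjBy_conjBy, inv_mul_cancel, conjBy_one]
  have hA : g * a * g⁻¹ ∈ A := by
    rw [← hfix A (left_mem A B), mem_conjBy]
    simpa [mul_assoc] using ha
  have h1 : conjBy B (g * a * g⁻¹) = conjBy B a := by
    rw [← conjBy_conjBy (A := B), hB', ← conjBy_conjBy (A := B) a g]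
    exact hfix _ (unipotent_conj (mem_sup_left ha) (right_mem h))
  exact mul_inv_eq_iff_eq_mul.mp (a_unique h hA ha h1)

/-! ### Rank one groups -/

section Group

variable {X : Type*} [Group X] {A B : Subgroup X}

theorem mem_center_of_fixes (h : IsRankOneGroup X A B) {g : X}
    (hfix : ∀ C ∈ unipotentSubgroups A B, conjBy C g = C) : g ∈ center X := by
  rw [Subgroup.mem_center_iff]
  intro x
  have hx : x ∈ A ⊔ B := h.1 ▸ mem_top x
  rw [sup_eq_closure] at hx
  have h' := RankOnePair_symm h.2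
  have hfix' : ∀ C ∈ unipotentSubgroups B A, conjBy C g = C := fun C hC => by
    obtain ⟨y, hy, rfl⟩ := hC
    exact hfix _ (unipotent_conj (sup_comm B A ▸ hy) (right_mem h.2))
  have hle : closure ((A : Set X) ∪ B) ≤ centralizer {g} := by
    rw [closure_le]
    rintro y (hy | hy) <;> rw [SetLike.mem_coe, mem_centralizer_singleton_iff]
    · exact (commute_of_fixes h.2 hfix hy).symm
    · exact (commute_of_fixes h' hfix' hy).symm
  exact mem_centralizer_singleton_iff.mp (hle hx)

theorem normal_sup_eq_top (h : IsRankOneGroup X A B) (N : Subgroup X) (hN : N.Normal) :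
    N ⊔ A = ⊤ ∨ N ≤ center X := by
  by_cases hfixA : ∀ n ∈ N, conjBy A n = A
  · refine Or.inr fun n hn => mem_center_of_fixes h fun C hC => ?_
    obtain ⟨x, -, rfl⟩ := hC
    rw [conjBy_conjBy, show n * x = x * (x⁻¹ * n * x) by group, ← conjBy_conjBy,
      hfixA _ (by simpa using hN.conj_mem n hn x⁻¹)]
  · left
    push Not at hfixA
    obtain ⟨n, hn, hne⟩ := hfixA
    have hC : conjBy A n ∈ unipotentSubgroups A B := unipotent_conj (h.1 ▸ mem_top n) (left_mem A B)
    obtain ⟨a, ⟨ha, he⟩, -⟩ := unipotent_regular h.2 hC (right_mem h.2) hne h.2.ne.symm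
    rw [eq_top_iff, ← h.1]
    refine sup_le le_sup_right ?_
    intro x hx
    rw [← he, conjBy_conjBy, mem_conjBy] at hx
    have han : a * n ∈ N ⊔ A := mul_mem (mem_sup_right ha) (mem_sup_left hn)
    have := mul_mem (mul_mem han (mem_sup_right hx)) (inv_mem han)
    simpa [mul_assoc] using this

theorem not_nilpotent (h : IsRankOneGroup X A B) : ¬ Group.IsNilpotent X := by
  intro hnil
  set M := normalizer (A : Set X) with hM
  have hlt : M < ⊤ := lt_top_iff_ne_top.mpr fun h' => by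
    obtain ⟨b, hb, hb1⟩ := exists_ne_one (RankOnePair_symm h.2)
    exact hb1 (eq_one_of_normalizes (RankOnePair_symm h.2) hb (conjBy_eq_self_iff.mpr ((by rw [← hM, h']; exact mem_top b) : b ∈ normalizer (A : Set X))))
  obtain ⟨g, hg, hgM⟩ := SetLike.exists_of_lt (Group.normalizerCondition_of_isNilpotent M hlt)
  have hC : conjBy A g ∈ unipotentSubgroups A B := unipotent_conj (h.1 ▸ mem_top g) (left_mem A B)
  have hne : conjBy A g ≠ A := fun h' => hgM (conjBy_eq_self_iff.mp h')
  obtain ⟨a, ha, ha1⟩ := exists_ne_one h.2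
  have haM : g⁻¹ * a * g ∈ M := (Subgroup.mem_normalizer_iff''.mp hg a).mp (Subgroup.le_normalizer ha)
  rw [hM, ← conjBy_eq_self_iff] at haM
  have h1 : conjBy (conjBy A g) a = conjBy A g := by
    rw [conjBy_conjBy, show a * g = g * (g⁻¹ * a * g) by group, ← conjBy_conjBy, haM]
  exact ha1 ((unipotent_regular h.2 hC hC hne hne).unique ⟨ha, h1⟩ ⟨A.one_mem, conjBy_one⟩)

theorem nilpotent_quotient (h : IsRankOneGroup X A B) (N : Subgroup X) [N.Normal] (hN : N ⊔ A = ⊤) :
    Group.IsNilpotent (X ⧸ N) := by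
  have := h.2.nilpotent_left
  refine Group.nilpotent_of_surjective (f := (QuotientGroup.mk' N).comp A.subtype) ?_
  intro q
  obtain ⟨x, rfl⟩ := QuotientGroup.mk'_surjective N q
  have hx : x ∈ N ⊔ A := hN ▸ mem_top x
  rw [← SetLike.mem_coe, Subgroup.normal_mul] at hx
  obtain ⟨n, hn, a, ha, rfl⟩ := hx
  refine ⟨⟨a, ha⟩, ?_⟩
  show QuotientGroup.mk' N a = QuotientGroup.mk' N (n * a)
  rw [map_mul, show QuotientGroup.mk' N n = 1 from (QuotientGroup.eq_one_iff n).mpr hn, one_mul]

theorem second_center (h : IsRankOneGroup X A B) : Subgroup.upperCentralSeries X 2 = center X := by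
  refine le_antisymm ?_ ?_
  · rcases normal_sup_eq_top h (Subgroup.upperCentralSeries X 2) inferInstance with h1 | h1
    · exfalso
      have hle : center X ≤ Subgroup.upperCentralSeries X 2 := by
        intro z hz
        rw [Subgroup.mem_upperCentralSeries_succ_iff]
        intro y
        rw [commutatorElement_eq_one_iff_mul_comm.mpr (Subgroup.mem_center_iff.mp hz y).symm]
        exact one_mem _
      have hnil := nilpotent_quotient h _ h1
      let f : X ⧸ center X →* X ⧸ Subgroup.upperCentralSeries X 2 :=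
        QuotientGroup.map _ _ (MonoidHom.id X) hle
      have hker : f.ker ≤ center (X ⧸ center X) := by
        intro q hq
        obtain ⟨z, rfl⟩ := QuotientGroup.mk'_surjective (center X) q
        have hz : z ∈ Subgroup.upperCentralSeries X 2 := (QuotientGroup.eq_one_iff z).mp hq
        rw [Subgroup.mem_center_iff]
        intro q'
        obtain ⟨y, rfl⟩ := QuotientGroup.mk'_surjective (center X) q'
        have h2 := (Subgroup.mem_upperCentralSeries_succ_iff.mp hz y)
        rw [Subgroup.upperCentralSeries_one] at h2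
        have h3 : QuotientGroup.mk' (center X) ⁅z, y⁆ = 1 := (QuotientGroup.eq_one_iff _).mpr h2
        rw [map_commutatorElement, commutatorElement_eq_one_iff_mul_comm] at h3
        exact h3.symm
      haveI : Group.IsNilpotent (X ⧸ Subgroup.upperCentralSeries X 2) := hnil
      haveI : Group.IsNilpotent (X ⧸ center X) := Subgroup.isNilpotent_of_ker_le_center f hker
      exact not_nilpotent h (Group.of_quotient_center_nilpotent inferInstance)
    · exact h1
  · intro z hz
    rw [Subgroup.mem_upperCentralSeries_succ_iff]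
    intro y
    rw [commutatorElement_eq_one_iff_mul_comm.mpr (Subgroup.mem_center_iff.mp hz y).symm]
    exact one_mem _

end Group

/-! ### Sets of abstract root subgroups -/

section Root

variable {S : Set (Subgroup G)}

theorem commute_of_bot (h : ⁅A, B⁆ = ⊥) {a b : G} (ha : a ∈ A) (hb : b ∈ B) : a * b = b * a := by
  have := Subgroup.commutator_mem_commutator ha hb
  rwa [h, Subgroup.mem_bot, commutatorElement_eq_one_iff_mul_comm] at this

theorem abelian_comm (hS : IsRootSubgroupSet S) (hA : A ∈ S) {a a' : G} (ha : a ∈ A) (ha' : a' ∈ A) :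
    a * a' = a' * a := by
  have := hS.commutative A hA
  exact congrArg Subtype.val (mul_comm' (⟨a, ha⟩ : A) ⟨a', ha'⟩)

/-- A translate of a root element of `A` by an element centralising `⟨A, B⟩` is a root element only in `A` and only trivially. -/
theorem root_shift (hS : IsRootSubgroupSet S) (hA : A ∈ S) (hB : B ∈ S) (h : IsRankOnePair A B)
    {z a : G} (hz : ∀ x ∈ A ⊔ B, z * x = x * z) (ha : a ∈ A) (ha1 : a ≠ 1)
    {E : Subgroup G} (hE : E ∈ S) (hza : z * a ∈ E) : z = 1 ∧ E = A := by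
  have hzA : ∀ x ∈ A, z * x = x * z := fun x hx => hz x (mem_sup_left hx)
  have hzB : ∀ x ∈ B, z * x = x * z := fun x hx => hz x (mem_sup_right hx)
  obtain ⟨b₀, hb₀, hab₀⟩ := not_commute h ha ha1
  have hza1 : z * a ≠ 1 := by
    intro h1
    have : z = a⁻¹ := eq_inv_of_mul_eq_one_left h1
    subst this
    apply hab₀
    have h2 := hzB b₀ hb₀
    calc a * b₀ = a * (b₀ * a⁻¹) * a := by group
      _ = a * (a⁻¹ * b₀) * a := by rw [h2]
      _ = b₀ * a := by group
  rcases hS.pair E hE B hB with h0 | hr | hc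
  · exfalso
    apply hab₀
    have h1 := commute_of_bot h0 hza hb₀
    rw [mul_assoc, ← mul_assoc b₀, ← hzB b₀ hb₀, mul_assoc] at h1
    exact mul_left_cancel h1
  · obtain ⟨c, hc, -, he⟩ := hr.cond_left (z * a) hza hza1
    have hzB' : conjBy B z⁻¹ = B := by
      ext x
      rw [mem_conjBy, inv_inv]
      constructor <;> intro hx
      · have := hzB _ hx
        have e : z * x * z⁻¹ = x := by
          have h2 : z * (z * x * z⁻¹) = z * x := by rw [this]; group
          exact mul_left_cancel h2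
        rwa [e] at hx
      · rw [hzB x hx]; simpa using hx
    have he' : conjBy B (z * a)⁻¹ = conjBy B a⁻¹ := by
      rw [mul_inv_rev, ← conjBy_conjBy, hzB']
    rw [he'] at he
    obtain ⟨b', hb', -, hb'e⟩ := h.cond_left a ha ha1
    rw [← hb'e] at he
    have hEβ : E = conjBy A (c * b'⁻¹) := by
      rw [← conjBy_conjBy, ← he, conjBy_conjBy, mul_inv_cancel, conjBy_one]
    have hβ : c * b'⁻¹ ∈ B := B.mul_mem hc (B.inv_mem hb')
    have hEA : E = A := by
      by_contra hne
      have hpair : IsRankOnePair A E :=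
        unipotent_pair h (left_mem A B) (hEβ ▸ ⟨_, mem_sup_right hβ, rfl⟩) (Ne.symm hne)
      refine hza1 (eq_one_of_normalizes (RankOnePair_symm hpair) hza (conjBy_eq_self_iff.mpr ?_))
      exact mul_mem (Subgroup.centralizer_le_normalizer _ (mem_centralizer_iff.mpr fun x hx => (hzA x hx).symm))
        (Subgroup.le_normalizer ha)
    refine ⟨?_, hEA⟩
    have hzA' : z ∈ A := by
      have := A.mul_mem (hEA ▸ hza) (A.inv_mem ha)
      simpa [mul_assoc] using this
    exact eq_one_of_normalizes h hzA' (by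
      conv_lhs => rw [← hzB', conjBy_conjBy, mul_inv_cancel, conjBy_one])
  · exfalso
    obtain ⟨-, hcen, hgen, -⟩ := hc
    obtain ⟨b₁, hb₁, hb₁1⟩ := exists_ne_one (RankOnePair_symm h)
    refine hb₁1 (eq_one_of_normalizes (unipotent_pair h (right_mem h)
      (unipotent_conj (mem_sup_left ha) (right_mem h))
      (fun h' => ha1 (eq_one_of_normalizes h ha h'.symm))) hb₁ (conjBy_eq_self_iff.mpr ?_))
    apply Subgroup.centralizer_le_normalizer _
    rw [mem_centralizer_iff]
    intro x hx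
    have hx' : a⁻¹ * x * a ∈ B := mem_conjBy.mp hx
    set b := a⁻¹ * x * a with hb
    have hf : (z * a) * b * (z * a)⁻¹ * b⁻¹ ∈ ⁅E, B⁆ := by
      rw [← hgen (z * a) hza hza1]
      exact subset_closure ⟨b, hx', rfl⟩
    have hsimp : (z * a) * b * (z * a)⁻¹ * b⁻¹ = a * b * a⁻¹ * b⁻¹ := by
      have hab : a * b * a⁻¹ ∈ A ⊔ B :=
        mul_mem (mul_mem (mem_sup_left ha) (mem_sup_right hx')) (inv_mem (mem_sup_left ha))
      calc _ = z * (a * b * a⁻¹) * z⁻¹ * b⁻¹ := by group
        _ = (a * b * a⁻¹) * z * z⁻¹ * b⁻¹ := by rw [hz _ hab]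
        _ = _ := by group
    rw [hsimp] at hf
    have h1 := hcen _ hf b₁ (mem_sup_right hb₁)
    have h2 : x = (a * b * a⁻¹ * b⁻¹) * b := by rw [hb]; group
    have h3 := abelian_comm hS hB hx' hb₁
    rw [h2]
    rw [mul_assoc (a * b * a⁻¹ * b⁻¹) b b₁, h3, ← mul_assoc, h1, mul_assoc]

/-- A member with a rank one partner meets every other member trivially. -/
theorem inf_bot_or_eq (hS : IsRootSubgroupSet S) (hA : A ∈ S) (hB : B ∈ S) (h : IsRankOnePair A B)
    (hC : C ∈ S) : A ⊓ C = ⊥ ∨ A = C := by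
  rcases (A ⊓ C).bot_or_exists_ne_one with h0 | ⟨a, ⟨haA, haC⟩, ha1⟩
  · exact Or.inl h0
  · exact Or.inr (root_shift hS hA hB h (z := 1) (fun x _ => by simp) haA ha1 hC (by simpa using haC)).2.symm

theorem exists_partner (hS : IsRootSubgroupSet S) (hAS : A ∈ S) (hA : ¬ IsIsolatedIn (FAdj S) S A) :
    ∃ B ∈ S, IsRankOnePair A B := by
  by_contra hno
  push Not at hno
  exact hA ⟨hAS, fun B => ⟨fun h => hno B h.2.1 h.2.2, fun h => hno B h.1 (RankOnePair_symm h.2.2)⟩⟩

/-- In the rank one group of a pair, the centraliser of a unipotent subgroup is that subgroup times the centre. -/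
theorem centralizer_decomp (h : IsRankOnePair C D) (hab : ∀ c ∈ C, ∀ c' ∈ C, c * c' = c' * c)
    (habD : ∀ c ∈ D, ∀ c' ∈ D, c * c' = c' * c)
    {g : G} (hg : g ∈ C ⊔ D) (hgC : ∀ c ∈ C, g * c = c * g) :
    ∃ c ∈ C, ∃ z : G, (∀ x ∈ C ⊔ D, z * x = x * z) ∧ g = z * c := by
  have hfixC : conjBy C g = C := conjBy_eq_self_iff.mpr
    (Subgroup.centralizer_le_normalizer _ (mem_centralizer_iff.mpr fun x hx => (hgC x hx).symm))
  have h1 : conjBy D g ∈ unipotentSubgroups C D := unipotent_conj hg (right_mem h)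
  have h2 : conjBy D g ≠ C := fun h' => h.ne (by
    have := hfixC.trans h'.symm
    exact conjBy_inj this)
  obtain ⟨c, hc, he⟩ := (mem_union_of_unipotent h h1).resolve_left h2
  have hzC : ∀ y ∈ C, (c⁻¹ * g) * y = y * (c⁻¹ * g) := fun y hy => by
    rw [mul_assoc, hgC y hy, ← mul_assoc, hab _ (inv_mem hc) y hy, mul_assoc]
  have hzD : conjBy D (c⁻¹ * g) = D := by rw [← conjBy_conjBy, he, conjBy_conjBy, inv_mul_cancel, conjBy_one]
  have hfix := fun F hF => fixes_all h hzC hzD (C := F) hF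
  have hfix' : ∀ F ∈ unipotentSubgroups D C, conjBy F (c⁻¹ * g) = F := fun F hF => by
    obtain ⟨y, hy, rfl⟩ := hF
    exact hfix _ (unipotent_conj (sup_comm D C ▸ hy) (right_mem h))
  refine ⟨c, hc, c⁻¹ * g, ?_, ?_⟩
  · intro x hx
    rw [sup_eq_closure] at hx
    have hle : closure ((C : Set G) ∪ D) ≤ centralizer {c⁻¹ * g} := by
      rw [closure_le]
      rintro y (hy | hy) <;> rw [SetLike.mem_coe, mem_centralizer_singleton_iff]
      · exact (commute_of_fixes h hfix hy).symm
      · exact (commute_of_fixes (RankOnePair_symm h) hfix' hy).symm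
    exact (mem_centralizer_singleton_iff.mp (hle hx)).symm
  · rw [mul_assoc, hgC c hc, inv_mul_cancel_left]

/-- A member inside the rank one group of a pair, having a partner there, is one of its unipotent subgroups. -/
theorem mem_unipotent_of_le (hS : IsRootSubgroupSet S) (hA : A ∈ S) (hB : B ∈ S) (hAB : IsRankOnePair A B)
    (hC : C ∈ S) (hD : D ∈ S) (hCD : IsRankOnePair C D) (hle : A ⊔ B ≤ C ⊔ D) :
    A ∈ unipotentSubgroups C D := by
  have habC : ∀ c ∈ C, ∀ c' ∈ C, c * c' = c' * c := fun c hc c' hc' => abelian_comm hS hC hc hc'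
  have habD : ∀ c ∈ D, ∀ c' ∈ D, c * c' = c' * c := fun c hc c' hc' => abelian_comm hS hD hc hc'
  rcases hS.pair A hA C hC with h0 | hr | hc
  · obtain ⟨a, ha, ha1⟩ := exists_ne_one hAB
    obtain ⟨c, hc, z, hz, hazc⟩ := centralizer_decomp hCD habC habD
      (hle (mem_sup_left ha)) (fun c hc => commute_of_bot h0 ha hc)
    by_cases hc1 : c = 1
    · exfalso
      rw [hc1, mul_one] at hazc
      obtain ⟨b, hb, hab⟩ := not_commute hAB ha ha1
      exact hab (hazc ▸ hz b (hle (mem_sup_right hb)))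
    · have := (root_shift hS hC hD hCD hz hc hc1 hA (hazc ▸ ha)).2
      rw [this]
      exact left_mem C D
  · have h1 : C ∈ unipotentSubgroups A C := right_mem hr
    obtain ⟨x, hx, hCx⟩ := h1
    have hxY : x ∈ C ⊔ D := (sup_le ((le_sup_left : A ≤ A ⊔ B).trans hle) le_sup_left) hx
    refine ⟨x⁻¹, inv_mem hxY, ?_⟩
    rw [hCx, conjBy_conjBy, inv_mul_cancel, conjBy_one]
  · exfalso
    obtain ⟨hE, hcen, hgen, -⟩ := hc
    have hEle : ⁅A, C⁆ ≤ C ⊔ D := by
      refine (Subgroup.commutator_mono ((le_sup_left : A ≤ A ⊔ B).trans hle) (le_sup_left : C ≤ C ⊔ D)).trans ?_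
      exact Subgroup.commutator_le_self _
    obtain ⟨a, ha, ha1⟩ := exists_ne_one hAB
    by_cases hEC : ⁅A, C⁆ = C
    · exact hS.ne_bot _ hC (by
        rw [← hEC, ← hgen a ha ha1, closure_eq_bot_iff, Set.subset_singleton_iff]
        rintro _ ⟨c, hc, rfl⟩
        rw [SetLike.mem_coe, ← hEC] at hc
        have h1 := hcen c hc a (mem_sup_left ha)
        simp [← h1])
    -- the commutator subgroup is central in the rank one group
    have hEz : ∀ e ∈ ⁅A, C⁆, ∀ x ∈ C ⊔ D, e * x = x * e := by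
      intro e he
      obtain ⟨c, hc, z, hz, hezc⟩ := centralizer_decomp hCD habC habD (hEle he)
        (fun c hc => hcen e he c (mem_sup_right hc))
      by_cases hc1 : c = 1
      · rw [hc1, mul_one] at hezc
        exact hezc ▸ hz
      · exact absurd (root_shift hS hC hD hCD hz hc hc1 hE (hezc ▸ he)).2 hEC
    have haY : a ∈ C ⊔ D := hle (mem_sup_left ha)
    have hcl : ∀ c ∈ C, (a * c * a⁻¹ * c⁻¹) ∈ ⁅A, C⁆ := fun c hc => by
      rw [← hgen a ha ha1]; exact subset_closure ⟨c, hc, rfl⟩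
    have hfix : conjBy C a = C := by
      by_contra hne
      obtain ⟨c₀, hc₀, hc₀1⟩ := exists_ne_one hCD
      have hp := unipotent_pair hCD (left_mem C D) (unipotent_conj haY (left_mem C D)) (Ne.symm hne)
      refine hc₀1 (eq_one_of_normalizes hp hc₀ (conjBy_eq_self_iff.mpr ?_))
      apply Subgroup.centralizer_le_normalizer _
      rw [mem_centralizer_iff]
      intro x hx
      have hx' := mem_conjBy.mp hx
      have h2 : x = (a * (a⁻¹ * x * a) * a⁻¹ * (a⁻¹ * x * a)⁻¹) * (a⁻¹ * x * a) := by group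
      rw [h2, mul_assoc, habC _ hx' c₀ hc₀, ← mul_assoc, hEz _ (hcl _ hx') c₀ (mem_sup_left hc₀), mul_assoc]
    apply hS.ne_bot _ hE
    rw [← hgen a ha ha1, closure_eq_bot_iff, Set.subset_singleton_iff]
    rintro _ ⟨c, hc, rfl⟩
    show a * c * a⁻¹ * c⁻¹ = 1
    have hin : a * c * a⁻¹ * c⁻¹ ∈ C := by
      refine C.mul_mem ?_ (C.inv_mem hc)
      rw [← hfix, mem_conjBy]
      simpa [mul_assoc] using hc
    obtain ⟨d, hd, hd1⟩ := exists_ne_one (RankOnePair_symm hCD)
    apply eq_one_of_normalizes hCD hin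
    apply conjBy_eq_self_iff.mpr
    apply Subgroup.centralizer_le_normalizer _
    rw [mem_centralizer_iff]
    exact fun x hx => (hEz _ (hcl c hc) x (mem_sup_right hx)).symm

end Root

end Cfsg.Lib.RootSub
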