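import Cfsg.Agent.RootSub.SL2Hom
import Mathlib

/-!
# Braid relations over a prime field give the relations of `SL₂`
-/

set_option autoImplicit false
set_option linter.unusedSectionVars false
set_option linter.unusedVariables false
set_option linter.style.haveILetI false

open Cfsg.Lib.RootSub.SL2Hom

namespace Cfsg.Lib.RootSub

variable {p : ℕ} [Fact p.Prime] {G : Type*} [Group G] {x y : ZMod p → G}

/-- Two one-parameter families related as the unipotent subgroups of a special rank one group. -/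
structure BraidPair (x y : ZMod p → G) : Prop where
  addx : ∀ t u, x t * x u = x (t + u)
  addy : ∀ t u, y t * y u = y (t + u)
  braid : ∀ t, t ≠ 0 → x t * y t⁻¹ * x (-t) = y t⁻¹ * x (-t) * y (-t⁻¹)

local notation "N" => nAbs x y
local notation "H" => hAbs x y

/-- In a finite field of odd order some non-square `s` has `1 - s` a non-square. -/
theorem exists_nonsquare_pair {F : Type*} [Field F] [Fintype F] {a : F} (ha : ¬ IsSquare a) :
    ∃ s : F, ¬ IsSquare s ∧ ¬ IsSquare (1 - s) := by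
  classical
  by_contra hno
  push Not at hno
  have ha0 : a ≠ 0 := fun h => ha (h ▸ IsSquare.zero)
  set Q := Finset.univ.filter fun q : F => IsSquare q ∧ q ≠ 0
  set M := Finset.univ.filter fun q : F => ¬ IsSquare q
  have h1 : Q.card ≤ M.card := by
    refine Finset.card_le_card_of_injOn (fun q => a * q) (fun q hq => ?_) (mul_right_injective₀ ha0).injOn
    simp only [Q, Finset.coe_filter, Finset.mem_univ, true_and, Set.mem_setOf_eq] at hq
    simp only [M, Finset.coe_filter, Finset.mem_univ, true_and, Set.mem_setOf_eq]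
    exact fun h => ha (by simpa [hq.2] using h.div hq.1)
  have h2 : M.card ≤ (Q.erase 1).card := by
    refine Finset.card_le_card_of_injOn (fun q => 1 - q) (fun q hq => ?_) (sub_right_injective).injOn
    simp only [M, Finset.coe_filter, Finset.mem_univ, true_and, Set.mem_setOf_eq] at hq
    simp only [Q, Finset.coe_erase, Finset.coe_filter, Finset.mem_univ, true_and, Set.mem_setOf_eq,
      Set.mem_sdiff, Set.mem_singleton_iff]
    refine ⟨⟨hno q hq, fun h => hq ((sub_eq_zero.mp h) ▸ IsSquare.one)⟩, fun h => hq ?_⟩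
    rw [sub_eq_self.mp h]
    exact IsSquare.zero
  have h3 : (1 : F) ∈ Q := by simp [Q]
  have := Finset.card_erase_lt_of_mem h3
  omega

namespace BraidPair

theorem x_zero (R : BraidPair x y) : x 0 = 1 := by
  have := R.addx 0 0
  rw [add_zero] at this
  exact mul_eq_left.1 this

theorem y_zero (R : BraidPair x y) : y 0 = 1 := by
  have := R.addy 0 0
  rw [add_zero] at this
  exact mul_eq_left.1 this

theorem x_inv (R : BraidPair x y) (t : ZMod p) : (x t)⁻¹ = x (-t) :=
  inv_eq_of_mul_eq_one_right (by rw [R.addx, add_neg_cancel, R.x_zero])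

theorem y_inv (R : BraidPair x y) (t : ZMod p) : (y t)⁻¹ = y (-t) :=
  inv_eq_of_mul_eq_one_right (by rw [R.addy, add_neg_cancel, R.y_zero])

theorem x_nsmul (R : BraidPair x y) (t : ZMod p) (n : ℕ) : x ((n : ZMod p) * t) = x t ^ n := by
  induction n with
  | zero => simp [R.x_zero]
  | succ n ih => rw [Nat.cast_succ, add_one_mul, ← R.addx, ih, pow_succ]

theorem y_nsmul (R : BraidPair x y) (t : ZMod p) (n : ℕ) : y ((n : ZMod p) * t) = y t ^ n := by
  induction n with
  | zero => simp [R.y_zero]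
  | succ n ih => rw [Nat.cast_succ, add_one_mul, ← R.addy, ih, pow_succ]

theorem n_inv (R : BraidPair x y) (t : ZMod p) : (N t)⁻¹ = N (-t) := by
  simp only [nAbs, mul_inv_rev, R.x_inv, R.y_inv, inv_neg, neg_neg, mul_assoc]

theorem n_neg' (R : BraidPair x y) (t : ZMod p) : N (-t) * N t = 1 := by rw [← R.n_inv, inv_mul_cancel]

theorem n_other (R : BraidPair x y) {t : ZMod p} (ht : t ≠ 0) : N t = y (-t⁻¹) * x t * y (-t⁻¹) := by
  have h := R.braid (-t) (neg_ne_zero.mpr ht)
  rw [neg_neg, inv_neg, neg_neg] at h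
  have h1 : y (-t⁻¹) * x t = x t * (y (-t⁻¹) * x t * y t⁻¹) := by
    rw [← h, ← mul_assoc, ← mul_assoc, R.addx, add_neg_cancel, R.x_zero, one_mul]
  calc N t = x t * (y (-t⁻¹) * x t * y t⁻¹) * y (-t⁻¹) := by
        simp only [nAbs, mul_assoc]; rw [R.addy, add_neg_cancel, R.y_zero, mul_one]
    _ = y (-t⁻¹) * x t * y (-t⁻¹) := by rw [← h1]

theorem n_x_self (R : BraidPair x y) {t : ZMod p} (ht : t ≠ 0) : N t * x t * N (-t) = y (-t⁻¹) := by
  conv_lhs => arg 2; rw [nAbs]
  conv_lhs => arg 1; arg 1; rw [R.n_other ht]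
  have h := R.braid t ht
  calc y (-t⁻¹) * x t * y (-t⁻¹) * x t * (x (-t) * y (-(-t)⁻¹) * x (-t))
      = y (-t⁻¹) * x t * (y (-t⁻¹) * (x t * x (-t)) * y (-(-t)⁻¹)) * x (-t) := by group
    _ = y (-t⁻¹) * x t * x (-t) := by
        rw [R.addx, add_neg_cancel, R.x_zero, mul_one, R.addy, inv_neg, neg_neg, neg_add_cancel, R.y_zero, mul_one]
    _ = y (-t⁻¹) := by rw [mul_assoc, R.addx, add_neg_cancel, R.x_zero, mul_one]

theorem n_x (R : BraidPair x y) {t : ZMod p} (ht : t ≠ 0) (s : ZMod p) :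
    N t * x s * N (-t) = y (-(s / t ^ 2)) := by
  have hm : ((s / t).val : ZMod p) = s / t := ZMod.natCast_zmod_val _
  have e1 : s = ((s / t).val : ZMod p) * t := by rw [hm, div_mul_cancel₀ s ht]
  have e2 : -(s / t ^ 2) = ((s / t).val : ZMod p) * (-t⁻¹) := by rw [hm]; field_simp
  conv_lhs => rw [e1]
  rw [e2, R.x_nsmul, R.y_nsmul, ← R.n_x_self ht, ← R.n_inv, conj_pow]

theorem n_y (R : BraidPair x y) {t : ZMod p} (ht : t ≠ 0) (u : ZMod p) :
    N t * y u * N (-t) = x (-(t ^ 2 * u)) := by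
  have h := R.n_x (neg_ne_zero.mpr ht) (-(t ^ 2 * u))
  rw [neg_neg, show -(-(t ^ 2 * u) / (-t) ^ 2) = u by field_simp] at h
  rw [← h]
  calc N t * (N (-t) * x (-(t ^ 2 * u)) * N t) * N (-t)
      = (N t * N (-t)) * x (-(t ^ 2 * u)) * (N t * N (-t)) := by group
    _ = x (-(t ^ 2 * u)) := by rw [← R.n_inv, mul_inv_cancel, one_mul, mul_one]

theorem n_conj (R : BraidPair x y) {t s : ZMod p} (ht : t ≠ 0) (hs : s ≠ 0) :
    N t * N s * N (-t) = N (t ^ 2 / s) := by
  have h1 : t ^ 2 / s ≠ 0 := div_ne_zero (pow_ne_zero 2 ht) hs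
  rw [R.n_other h1, show -(t ^ 2 / s)⁻¹ = -(s / t ^ 2) by rw [inv_div]]
  calc N t * N s * N (-t) = N t * x s * N (-t) * (N t * y (-s⁻¹) * N (-t)) * (N t * x s * N (-t)) := by
        simp only [← R.n_inv]; rw [show N s = x s * y (-s⁻¹) * x s from rfl]; group
    _ = y (-(s / t ^ 2)) * x (t ^ 2 / s) * y (-(s / t ^ 2)) := by
        rw [R.n_x ht, R.n_y ht, show -(t ^ 2 * -s⁻¹) = t ^ 2 / s by ring]

theorem flip (R : BraidPair x y) (s : ZMod p) : (N 1)⁻¹ * x s * N 1 = y (-s) := by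
  have := R.n_x (neg_ne_zero.mpr (one_ne_zero (α := ZMod p))) s
  rw [neg_neg] at this
  rw [R.n_inv, this]; simp

theorem h_inv (R : BraidPair x y) (t : ZMod p) : (H t)⁻¹ = N 1 * N (-t) := by
  rw [hAbs, mul_inv_rev, R.n_inv, R.n_inv, neg_neg]

theorem h_one (R : BraidPair x y) : H 1 = 1 := by
  rw [hAbs, ← R.n_inv, mul_inv_cancel]

theorem h_x (R : BraidPair x y) {e : ZMod p} (he : e ≠ 0) (s : ZMod p) : H e * x s * (H e)⁻¹ = x (e ^ 2 * s) := by
  have h1 := R.n_x (neg_ne_zero.mpr (one_ne_zero (α := ZMod p))) s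
  rw [neg_neg] at h1
  calc H e * x s * (H e)⁻¹ = N e * (N (-1) * x s * N 1) * N (-e) := by rw [R.h_inv, hAbs]; group
    _ = x (e ^ 2 * s) := by rw [h1, R.n_y he]; congr 1; field_simp

theorem h_y (R : BraidPair x y) {e : ZMod p} (he : e ≠ 0) (s : ZMod p) : H e * y s * (H e)⁻¹ = y (s / e ^ 2) := by
  have h1 := R.n_y (neg_ne_zero.mpr (one_ne_zero (α := ZMod p))) s
  rw [neg_neg] at h1
  calc H e * y s * (H e)⁻¹ = N e * (N (-1) * y s * N 1) * N (-e) := by rw [R.h_inv, hAbs]; group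
    _ = y (s / e ^ 2) := by rw [h1, R.n_x he]; congr 1; field_simp

theorem h_n (R : BraidPair x y) {e : ZMod p} (he : e ≠ 0) (s : ZMod p) : H e * N s * (H e)⁻¹ = N (e ^ 2 * s) := by
  calc H e * N s * (H e)⁻¹ = H e * x s * (H e)⁻¹ * (H e * y (-s⁻¹) * (H e)⁻¹) * (H e * x s * (H e)⁻¹) := by
        rw [show N s = x s * y (-s⁻¹) * x s from rfl]; group
    _ = N (e ^ 2 * s) := by
        rw [R.h_x he, R.h_y he, nAbs]
        congr 2
        rw [mul_inv]; ring

/-- An element commuting with both families commutes with the torus. -/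
theorem commute_h (R : BraidPair x y) {z : G} (hx : ∀ s, Commute z (x s)) (hy : ∀ s, Commute z (y s)) (t : ZMod p) :
    Commute z (H t) :=
  (((hx _).mul_right (hy _)).mul_right (hx _)).mul_right (((hx _).mul_right (hy _)).mul_right (hx _))

theorem h_pow_x (R : BraidPair x y) {e : ZMod p} (he : e ≠ 0) (s : ZMod p) (k : ℕ) :
    H e ^ k * x s * (H e ^ k)⁻¹ = x ((e ^ k) ^ 2 * s) ∧ H e ^ k * y s * (H e ^ k)⁻¹ = y (s / (e ^ k) ^ 2) := by
  induction k with
  | zero => simp
  | succ k ih =>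
    constructor
    · calc H e ^ (k + 1) * x s * (H e ^ (k + 1))⁻¹ = H e * (H e ^ k * x s * (H e ^ k)⁻¹) * (H e)⁻¹ := by
            rw [pow_succ']; group
        _ = _ := by rw [ih.1, R.h_x he]; congr 1; ring
    · calc H e ^ (k + 1) * y s * (H e ^ (k + 1))⁻¹ = H e * (H e ^ k * y s * (H e ^ k)⁻¹) * (H e)⁻¹ := by
            rw [pow_succ']; group
        _ = _ := by rw [ih.2, R.h_y he]; congr 1; rw [pow_succ, div_div]; ring

/-- The torus is commutative. -/
theorem h_comm (R : BraidPair x y) {a b : ZMod p} (ha : a ≠ 0) (hb : b ≠ 0) : Commute (H a) (H b) := by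
  obtain ⟨g, hg⟩ := IsCyclic.exists_monoid_generator (α := (ZMod p)ˣ)
  have hg0 : ((g : (ZMod p)ˣ) : ZMod p) ≠ 0 := g.ne_zero
  have key : ∀ c : ZMod p, c ≠ 0 → ∃ z : G, ∃ k : ℕ, H c = z * H (g : ZMod p) ^ k ∧
      (∀ t, Commute z (H t)) := by
    intro c hc
    obtain ⟨k, hk⟩ := hg (Units.mk0 c hc)
    have hck : ((g : (ZMod p)ˣ) : ZMod p) ^ k = c := by
      have := congrArg Units.val hk
      simpa using this
    refine ⟨H c * (H (g : ZMod p) ^ k)⁻¹, k, by group, R.commute_h (fun s => ?_) fun s => ?_⟩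
    · have h1 := (R.h_pow_x hg0 (s / c ^ 2) k).1
      have h2 := R.h_x hc (s / c ^ 2)
      rw [hck] at h1
      rw [show c ^ 2 * (s / c ^ 2) = s by field_simp] at h1 h2
      show _ * x s = x s * _
      conv_lhs => rw [← h1]
      conv_rhs => rw [← h2]
      group
    · have h1 := (R.h_pow_x hg0 (s * c ^ 2) k).2
      have h2 := R.h_y hc (s * c ^ 2)
      rw [hck] at h1
      rw [show s * c ^ 2 / c ^ 2 = s by field_simp] at h1 h2
      show _ * y s = y s * _
      conv_lhs => rw [← h1]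
      conv_rhs => rw [← h2]
      group
  obtain ⟨z, k, hz, hzc⟩ := key a ha
  obtain ⟨z', m, hz', hzc'⟩ := key b hb
  have hgb : Commute (H (g : ZMod p)) (H b) := by
    rw [hz']
    exact ((hzc' _).symm).mul_right ((Commute.refl _).pow_right m)
  rw [hz]
  exact (hzc b).mul_left (hgb.pow_left k)

/-- Multiplying by a square. -/
theorem h_sq (R : BraidPair x y) {e t : ZMod p} (he : e ≠ 0) (ht : t ≠ 0) : H (e ^ 2) * H t = H (e ^ 2 * t) := by
  have h1 : H e * H t * (H e)⁻¹ = H t := by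
    rw [(R.h_comm he ht).eq]; group
  have h2 : H e * H t * (H e)⁻¹ = H (e ^ 2 * t) * (H (e ^ 2))⁻¹ := by
    calc H e * H t * (H e)⁻¹ = (H e * N t * (H e)⁻¹) * (H e * N (-1) * (H e)⁻¹) := by rw [show H t = N t * N (-1) from rfl]; group
      _ = N (e ^ 2 * t) * N (-(e ^ 2)) := by rw [R.h_n he, R.h_n he, mul_neg_one]
      _ = N (e ^ 2 * t) * N (-1) * (N 1 * N (-(e ^ 2))) := by
          rw [← R.n_inv 1]; group
      _ = H (e ^ 2 * t) * (H (e ^ 2))⁻¹ := by rw [R.h_inv, hAbs]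
  rw [h1] at h2
  have h3 : H t * H (e ^ 2) = H (e ^ 2 * t) := by rw [h2]; group
  rw [← h3, (R.h_comm ht (pow_ne_zero 2 he)).eq]

/-- The identity coming from `x 1 = x u * x v`. -/
theorem n_add (R : BraidPair x y) {u v : ZMod p} (hu : u ≠ 0) (hv : v ≠ 0) (h : u + v = 1) :
    N u * N v = N (u / v) * N 1 := by
  have hx1 : x 1 = y 1 * N 1 * y 1 := by
    rw [R.n_other one_ne_zero, inv_one]
    simp only [← R.y_inv]
    group
  have hwy : ∀ s, N 1 * y s = x (-s) * N 1 := fun s => by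
    have := R.n_y one_ne_zero s
    rw [one_pow, one_mul, ← R.n_inv] at this
    exact mul_inv_eq_iff_eq_mul.mp this
  have hwx : ∀ s, N 1 * x s = y (-s) * N 1 := fun s => by
    have := R.n_x one_ne_zero s
    rw [one_pow, div_one, ← R.n_inv] at this
    exact mul_inv_eq_iff_eq_mul.mp this
  have hr : u / v ≠ 0 := div_ne_zero hu hv
  have hry : ∀ s, N (u / v) * y s = x (-((u / v) ^ 2 * s)) * N (u / v) := fun s => by
    have := R.n_y hr s
    rw [← R.n_inv] at this
    exact mul_inv_eq_iff_eq_mul.mp this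
  have hxr : y (-(u / v)⁻¹) * x (u / v) = N (u / v) * y (u / v)⁻¹ := by
    rw [R.n_other hr, mul_assoc _ (y _) (y _), R.addy, neg_add_cancel, R.y_zero, mul_one]
  calc N u * N v = x u * y (-u⁻¹) * (x u * x v) * y (-v⁻¹) * x v := by simp only [nAbs]; group
    _ = x u * (y (-u⁻¹) * y 1) * N 1 * (y 1 * y (-v⁻¹)) * x v := by rw [R.addx, h, hx1]; group
    _ = x u * y (-(v / u)) * (N 1 * y (-(u / v))) * x v := by
        rw [R.addy, R.addy, show -u⁻¹ + 1 = -(v / u) by field_simp; linear_combination h,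
          show 1 + -v⁻¹ = -(u / v) by field_simp; linear_combination h]
        group
    _ = x u * y (-(v / u)) * x (u / v) * (N 1 * x v) := by rw [hwy, neg_neg]; group
    _ = x u * (y (-(u / v)⁻¹) * x (u / v)) * y (-v) * N 1 := by rw [hwx, inv_div]; group
    _ = x u * (N (u / v) * y ((u / v)⁻¹ + -v)) * N 1 := by rw [hxr, ← R.addy]; group
    _ = x u * x (-((u / v) ^ 2 * ((u / v)⁻¹ + -v))) * N (u / v) * N 1 := by rw [hry]; group
    _ = N (u / v) * N 1 := by
        rw [R.addx, show u + -((u / v) ^ 2 * ((u / v)⁻¹ + -v)) = 0 by field_simp; linear_combination u * h,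
          R.x_zero, one_mul]

theorem h_add (R : BraidPair x y) {u v : ZMod p} (hu : u ≠ 0) (hv : v ≠ 0) (h : u + v = 1) :
    H u * H v⁻¹ = H (u / v) := by
  have hc := R.n_conj (neg_ne_zero.mpr (one_ne_zero (α := ZMod p))) (inv_ne_zero hv)
  rw [neg_neg, show (-1 : ZMod p) ^ 2 / v⁻¹ = v by field_simp] at hc
  calc H u * H v⁻¹ = N u * (N (-1) * N v⁻¹ * N 1) * (N 1)⁻¹ * N (-1) := by simp only [hAbs]; group
    _ = N (u / v) * (N 1 * (N 1)⁻¹) * N (-1) := by rw [hc, R.n_add hu hv h]; group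
    _ = H (u / v) := by rw [mul_inv_cancel, mul_one, hAbs]

theorem mult (R : BraidPair x y) {a b : ZMod p} (ha : a ≠ 0) (hb : b ≠ 0) : H a * H b = H (a * b) := by
  by_cases hsa : IsSquare a
  · obtain ⟨e, rfl⟩ := hsa.exists_sq
    exact R.h_sq (fun h => ha (by simp [h])) hb
  by_cases hsb : IsSquare b
  · obtain ⟨e, rfl⟩ := hsb.exists_sq
    rw [(R.h_comm ha hb).eq, mul_comm]
    exact R.h_sq (fun h => hb (by simp [h])) ha
  obtain ⟨s, hs, hs'⟩ := exists_nonsquare_pair hsa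
  have hs0 : s ≠ 0 := fun h => hs (h ▸ IsSquare.zero)
  have hs'0 : 1 - s ≠ 0 := fun h => hs' (h ▸ IsSquare.zero)
  set r := (1 - s)⁻¹ with hr
  have hr0 : r ≠ 0 := inv_ne_zero hs'0
  have hrn : ¬ IsSquare r := fun h => hs' (by simpa [hr] using h.inv)
  have hsr : H s * H r = H (s * r) := by
    rw [hr, ← div_eq_mul_inv]
    exact R.h_add hs0 hs'0 (by ring)
  have hsq : ∀ c d : ZMod p, ¬ IsSquare c → ¬ IsSquare d → ∃ e, e ≠ 0 ∧ c = e ^ 2 * d := by
    intro c d hc hd
    have hc0 : c ≠ 0 := fun h => hc (h ▸ IsSquare.zero)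
    have hd0 : d ≠ 0 := fun h => hd (h ▸ IsSquare.zero)
    have : IsSquare (c * d) := by
      rw [← quadraticChar_one_iff_isSquare (mul_ne_zero hc0 hd0), map_mul,
        quadraticChar_neg_one_iff_not_isSquare.mpr hc, quadraticChar_neg_one_iff_not_isSquare.mpr hd]
      norm_num
    obtain ⟨q, hq⟩ := this.exists_sq
    refine ⟨q / d, div_ne_zero (fun h => mul_ne_zero hc0 hd0 (by simpa [h] using hq)) hd0, ?_⟩
    rw [div_pow, ← hq]
    field_simp
  obtain ⟨e, he, rfl⟩ := hsq a s hsa hs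
  obtain ⟨f, hf, rfl⟩ := hsq b r hsb hrn
  have he2 := pow_ne_zero 2 he
  have hf2 := pow_ne_zero 2 hf
  rw [← R.h_sq he hs0, ← R.h_sq hf hr0]
  calc H (e ^ 2) * H s * (H (f ^ 2) * H r) = H (e ^ 2) * (H s * H (f ^ 2)) * H r := by group
    _ = H (e ^ 2) * H (f ^ 2) * (H s * H r) := by rw [(R.h_comm hs0 hf2).eq]; group
    _ = H ((e * f) ^ 2) * H (s * r) := by rw [hsr, R.h_sq he hf2, mul_pow]
    _ = _ := by rw [R.h_sq (mul_ne_zero he hf) (mul_ne_zero hs0 hr0)]; congr 1; ring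

theorem sl2Rel (R : BraidPair x y) : SL2Rel x y where
  addx := R.addx
  addy := R.addy
  conj := fun a t ha => by rw [← R.h_x ha t]; group
  mult := fun a b ha hb => R.mult ha hb
  flip := R.flip

end BraidPair

end Cfsg.Lib.RootSub
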