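import Cfsg.Agent.RootSub.CommCase

/-!
# Two commuting members both having a commutator in the set with a third one
-/

set_option autoImplicit false
set_option linter.unusedSectionVars false
set_option linter.unusedVariables false
set_option linter.style.haveILetI false

open Subgroup
open Cfsg

namespace Cfsg.Lib.RootSub

open scoped commutatorElement

variable {G : Type*} [Group G] {S : Set (Subgroup G)} {A B C D E H K P Q R : Subgroup G}

theorem comm_sup_left (hK : R ≤ normalizer (K : Set G)) (hP : P ≤ R) (hQ : Q ≤ R) (h1 : ⁅P, H⁆ ≤ K) (h2 : ⁅Q, H⁆ ≤ K) :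
    ⁅P ⊔ Q, H⁆ ≤ K := by
  rw [commutator_le]
  intro g hg x hx
  rw [sup_eq_closure] at hg
  suffices h : g ∈ R ∧ ⁅g, x⁆ ∈ K from h.2
  induction hg using closure_induction with
  | mem y hy =>
    rcases hy with hy | hy
    · exact ⟨hP hy, h1 (commutator_mem_commutator hy hx)⟩
    · exact ⟨hQ hy, h2 (commutator_mem_commutator hy hx)⟩
  | one => exact ⟨one_mem R, by rw [commutatorElement_one_left]; exact one_mem K⟩
  | mul p q _ _ hp hq =>
    refine ⟨mul_mem hp.1 hq.1, ?_⟩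
    rw [show ⁅p * q, x⁆ = p * ⁅q, x⁆ * p⁻¹ * ⁅p, x⁆ by simp only [commutatorElement_def]; group]
    exact mul_mem ((mem_normalizer_iff.mp (hK hp.1) _).mp hq.2) hp.2
  | inv p _ hp =>
    refine ⟨inv_mem hp.1, ?_⟩
    rw [show ⁅p⁻¹, x⁆ = p⁻¹ * ⁅p, x⁆⁻¹ * p by simp only [commutatorElement_def]; group]
    exact (mem_normalizer_iff''.mp (hK hp.1) _).mp (inv_mem hp.2)

theorem comm_sup_right (hK : R ≤ normalizer (K : Set G)) (hP : P ≤ R) (hQ : Q ≤ R) (h1 : ⁅H, P⁆ ≤ K) (h2 : ⁅H, Q⁆ ≤ K) :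
    ⁅H, P ⊔ Q⁆ ≤ K := by
  rw [commutator_comm] at h1 h2 ⊢
  exact comm_sup_left hK hP hQ h1 h2

theorem comm_bot (h : ∀ p ∈ P, ∀ q ∈ Q, p * q = q * p) : ⁅P, Q⁆ ≤ (K : Subgroup G) := by
  rw [commutator_le]
  intro p hp q hq
  rw [commutatorElement_eq_one_iff_mul_comm.mpr (h p hp q hq)]
  exact one_mem K

theorem sup_centralize {x : G} (hP : ∀ p ∈ P, x * p = p * x) (hQ : ∀ q ∈ Q, x * q = q * x) :
    ∀ y ∈ P ⊔ Q, x * y = y * x := by
  intro y hy
  have hle : P ⊔ Q ≤ centralizer {x} := sup_le (fun p hp => mem_centralizer_singleton_iff.mpr (hP p hp).symm)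
    (fun q hq => mem_centralizer_singleton_iff.mpr (hQ q hq).symm)
  exact (mem_centralizer_singleton_iff.mp (hle hy)).symm

/-- What is true of the ordered triple `(A, B, C)`. -/
theorem chain_side (hS : IsRootSubgroupSet S) (hA : A ∈ S) (hB : B ∈ S) (hC : C ∈ S) (hBC : ⁅B, C⁆ ∈ S)
    (hAC : ⁅A, C⁆ = ⊥) {b : G} (hb : b ∈ B) (hb1 : b ≠ 1) :
    conjBy C b⁻¹ ≤ C ⊔ ⁅B, C⁆ ∧ ⁅B, C⁆ ≤ C ⊔ conjBy C b⁻¹ ∧
      ⁅A, conjBy C b⁻¹⁆ = ⁅A, ⁅B, C⁆⁆ ∧
      ∀ f ∈ ⁅A, ⁅B, C⁆⁆, ∀ x ∈ A ⊔ ⁅B, C⁆ ⊔ C, f * x = x * f := by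
  obtain ⟨-, hcen, hgen, -⟩ := commutator_case hS hB hC hBC
  have hac : ∀ a ∈ A, ∀ c ∈ C, a * c = c * a := fun a ha c hc => commute_of_bot hAC ha hc
  have hcc : ∀ e ∈ ⁅B, C⁆, ∀ c ∈ C, e * c = c * e := fun e he c hc => hcen e he c (mem_sup_right hc)
  have hgenC : ⁅B, C⁆ ≤ closure ((fun c : G => b⁻¹ * c * b * c⁻¹) '' (C : Set G)) := by
    rw [← hgen b⁻¹ (inv_mem hb) (by simpa using hb1)]
    refine closure_mono ?_
    rintro _ ⟨c, hc, rfl⟩
    exact ⟨c, hc, by simp⟩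
  have hmemC' : ∀ c ∈ C, b⁻¹ * c * b ∈ conjBy C b⁻¹ := fun c hc => by
    rw [mem_conjBy]; simpa [mul_assoc] using hc
  have hCle : conjBy C b⁻¹ ≤ C ⊔ ⁅B, C⁆ := by
    intro x hx
    rw [mem_conjBy, inv_inv] at hx
    have e : x = ⁅b⁻¹, b * x * b⁻¹⁆ * (b * x * b⁻¹) := by rw [commutatorElement_def]; group
    rw [e]
    exact mul_mem (mem_sup_right (commutator_mem_commutator (inv_mem hb) hx)) (mem_sup_left hx)
  have hEle : ⁅B, C⁆ ≤ C ⊔ conjBy C b⁻¹ := hgenC.trans ((closure_le _).mpr (by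
    rintro _ ⟨c, hc, rfl⟩
    exact mul_mem (mem_sup_right (hmemC' c hc)) (mem_sup_left (inv_mem hc))))
  have hnp : ¬ IsRankOnePair ⁅B, C⁆ A := by
    intro hp
    obtain ⟨c, hc, hne⟩ : ∃ c ∈ C, b⁻¹ * c * b * c⁻¹ ≠ 1 := by
      by_contra hno
      push Not at hno
      refine hS.ne_bot _ hBC (le_bot_iff.mp (hgenC.trans ((closure_le _).mpr ?_)))
      rintro _ ⟨c, hc, rfl⟩
      exact Subgroup.mem_bot.mpr (hno c hc)
    have he : b⁻¹ * c * b * c⁻¹ ∈ ⁅B, C⁆ := by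
      have := commutator_mem_commutator (inv_mem hb) hc
      rwa [commutatorElement_def, inv_inv] at this
    have hz := root_shift hS hBC hA hp (z := c)
      (sup_centralize (fun e he => (hcc e he c hc).symm) (fun a ha => (hac a ha c hc).symm)) he hne
      (hS.conj_mem C hC b⁻¹) (by
        rw [← hcc _ he c hc, inv_mul_cancel_right]
        exact hmemC' c hc)
    exact hne (by rw [hz.1]; group)
  have hFc : ∀ f ∈ ⁅A, ⁅B, C⁆⁆, ∀ x ∈ A ⊔ ⁅B, C⁆, f * x = x * f := by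
    rcases hS.pair A hA _ hBC with h0 | hr | hc
    · intro f hf x _
      rw [h0, Subgroup.mem_bot] at hf
      rw [hf, one_mul, mul_one]
    · exact absurd (RankOnePair_symm hr) hnp
    · exact hc.2.1
  have hFC : ∀ f ∈ ⁅A, ⁅B, C⁆⁆, ∀ c ∈ C, f * c = c * f := by
    intro f hf c hc
    refine (sup_centralize (P := A) (Q := ⁅B, C⁆) (fun a ha => (hac a ha c hc).symm)
      (fun e he => (hcc e he c hc).symm) f ?_).symm
    exact ((commutator_mono le_sup_left le_sup_right).trans (commutator_le_self _)) hf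
  have hFall : ∀ f ∈ ⁅A, ⁅B, C⁆⁆, ∀ x ∈ A ⊔ ⁅B, C⁆ ⊔ C, f * x = x * f :=
    fun f hf => sup_centralize (hFc f hf) (hFC f hf)
  refine ⟨hCle, hEle, le_antisymm ?_ ?_, hFall⟩
  · rw [commutator_le]
    intro a ha x hx
    rw [mem_conjBy, inv_inv] at hx
    have e : x = ⁅b⁻¹, b * x * b⁻¹⁆ * (b * x * b⁻¹) := by rw [commutatorElement_def]; group
    have hm := commutator_mem_commutator (inv_mem hb) hx
    rw [e, show ∀ p q : G, ⁅a, p * q⁆ = ⁅a, p⁆ * (p * ⁅a, q⁆ * p⁻¹) from fun p q => by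
      simp only [commutatorElement_def]; group,
      commutatorElement_eq_one_iff_mul_comm.mpr (hac a ha _ hx), mul_one, mul_inv_cancel, mul_one]
    exact commutator_mem_commutator ha hm
  · rw [commutator_le]
    intro a ha e he
    have he' := hgenC he
    clear he
    suffices h : e ∈ ⁅B, C⁆ ∧ ⁅a, e⁆ ∈ ⁅A, conjBy C b⁻¹⁆ from h.2
    induction he' using closure_induction with
    | mem y hy =>
      obtain ⟨c, hc, rfl⟩ := hy
      have hm := commutator_mem_commutator (inv_mem hb) hc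
      rw [commutatorElement_def, inv_inv] at hm
      refine ⟨hm, ?_⟩
      have h1 : ⁅a, b⁻¹ * c * b⁆ = ⁅a, b⁻¹ * c * b * c⁻¹⁆ := by
        have e1 : ⁅a, (b⁻¹ * c * b * c⁻¹) * c⁆ = ⁅a, b⁻¹ * c * b * c⁻¹⁆ := by
          rw [show ∀ p q : G, ⁅a, p * q⁆ = ⁅a, p⁆ * (p * ⁅a, q⁆ * p⁻¹) from fun p q => by
            simp only [commutatorElement_def]; group,
            commutatorElement_eq_one_iff_mul_comm.mpr (hac a ha c hc), mul_one, mul_inv_cancel, mul_one]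
        rwa [inv_mul_cancel_right] at e1
      rw [← h1]
      exact commutator_mem_commutator ha (hmemC' c hc)
    | one => exact ⟨one_mem _, by rw [commutatorElement_one_right]; exact one_mem _⟩
    | mul p q _ _ hp hq =>
      refine ⟨mul_mem hp.1 hq.1, ?_⟩
      rw [show ⁅a, p * q⁆ = ⁅a, p⁆ * (p * ⁅a, q⁆ * p⁻¹) by simp only [commutatorElement_def]; group,
        ← hFc _ (commutator_mem_commutator ha hq.1) p (mem_sup_right hp.1), mul_inv_cancel_right]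
      exact mul_mem hp.2 hq.2
    | inv p _ hp =>
      refine ⟨inv_mem hp.1, ?_⟩
      rw [show ⁅a, p⁻¹⁆ = p⁻¹ * ⁅a, p⁆⁻¹ * p by simp only [commutatorElement_def]; group, mul_assoc,
        hFc _ (inv_mem (commutator_mem_commutator ha hp.1)) p (mem_sup_right hp.1), inv_mul_cancel_left]
      exact inv_mem hp.2

theorem chain_bot_iff (hAC : ⁅A, C⁆ = ⊥) : ⁅A, ⁅B, C⁆⁆ = ⊥ ↔ ⁅C, ⁅B, A⁆⁆ = ⊥ := by
  have key : ∀ X Y Z : Subgroup G, ⁅X, Z⁆ = ⊥ → ⁅X, ⁅Y, Z⁆⁆ = ⊥ → ⁅Z, ⁅Y, X⁆⁆ = ⊥ := by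
    intro X Y Z h0 h
    rw [commutator_comm Z, commutator_comm Y X]
    refine commutator_commutator_eq_bot_of_rotate (by rwa [commutator_comm _ X]) ?_
    rw [commutator_comm Z X, h0, commutator_bot_left]
  exact ⟨key A B C hAC, key C B A (by rwa [commutator_comm])⟩

theorem chain_step (hEB : ∀ e ∈ E, ∀ x ∈ B, e * x = x * e) (hD : ⁅B, A⁆ ≤ D)
    (hFD : ∀ f ∈ ⁅A, E⁆, ∀ d ∈ D, f * d = d * f)
    (hL : ∀ l ∈ ⁅D, E⁆, ∀ x ∈ ⁅A, E⁆ ⊔ B, l * x = x * l) : ⁅⁅A, E⁆, B⁆ ≤ ⁅D, E⁆ := by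
  rw [commutator_le]
  intro f hf x hx
  rw [Subgroup.commutator_def] at hf
  suffices h : f ∈ ⁅A, E⁆ ∧ ⁅f, x⁆ ∈ ⁅D, E⁆ from h.2
  induction hf using closure_induction with
  | mem y hy =>
    obtain ⟨a, ha, e, he, rfl⟩ := hy
    have hf := commutator_mem_commutator ha he
    refine ⟨hf, ?_⟩
    have hd : ⁅x, a⁆ ∈ D := hD (commutator_mem_commutator hx ha)
    have h1 : x * ⁅a, e⁆ * x⁻¹ = ⁅a, e⁆ * ⁅⁅x, a⁆, e⁆ := by
      calc x * ⁅a, e⁆ * x⁻¹ = ⁅x * a * x⁻¹, x * e * x⁻¹⁆ := by simp only [commutatorElement_def]; group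
        _ = ⁅⁅x, a⁆ * a, e⁆ := by
          rw [← hEB e he x hx, mul_inv_cancel_right, commutatorElement_def x a, inv_mul_cancel_right]
        _ = ⁅x, a⁆ * ⁅a, e⁆ * ⁅x, a⁆⁻¹ * ⁅⁅x, a⁆, e⁆ := by simp only [commutatorElement_def]; group
        _ = _ := by rw [← hFD _ hf _ hd, mul_inv_cancel_right]
    have h2 : ⁅⁅a, e⁆, x⁆ = ⁅a, e⁆ * ⁅⁅x, a⁆, e⁆⁻¹ * ⁅a, e⁆⁻¹ := by
      rw [commutatorElement_def ⁅a, e⁆ x,
        show ⁅a, e⁆ * x * ⁅a, e⁆⁻¹ * x⁻¹ = ⁅a, e⁆ * (x * ⁅a, e⁆ * x⁻¹)⁻¹ by group, h1]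
      group
    have hl := commutator_mem_commutator hd he
    rw [h2, ← hL _ (inv_mem hl) _ (mem_sup_left hf), mul_inv_cancel_right]
    exact inv_mem hl
  | one => exact ⟨one_mem _, by rw [commutatorElement_one_left]; exact one_mem _⟩
  | mul p q _ _ hp hq =>
    refine ⟨mul_mem hp.1 hq.1, ?_⟩
    rw [show ⁅p * q, x⁆ = p * ⁅q, x⁆ * p⁻¹ * ⁅p, x⁆ by simp only [commutatorElement_def]; group,
      ← hL _ hq.2 p (mem_sup_left hp.1), mul_inv_cancel_right]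
    exact mul_mem hq.2 hp.2
  | inv p _ hp =>
    refine ⟨inv_mem hp.1, ?_⟩
    rw [show ⁅p⁻¹, x⁆ = p⁻¹ * ⁅p, x⁆⁻¹ * p by simp only [commutatorElement_def]; group, mul_assoc,
      hL _ (inv_mem hp.2) p (mem_sup_left hp.1), inv_mul_cancel_left]
    exact inv_mem hp.2

theorem chain_triple (hS : IsRootSubgroupSet S) (hA : A ∈ S) (hB : B ∈ S) (hC : C ∈ S) (hAB : ⁅A, B⁆ ∈ S)
    (hBC : ⁅B, C⁆ ∈ S) (hAC : ⁅A, C⁆ = ⊥) {b : G} (hb : b ∈ B) (hb1 : b ≠ 1) :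
    ((IsMulCommutative ↥(A ⊔ conjBy C b⁻¹) ∧ IsMulCommutative ↥(conjBy A b⁻¹ ⊔ C)) ∨
      ((¬ IsMulCommutative ↥(A ⊔ conjBy C b⁻¹) ∧
          ⁅⁅A ⊔ conjBy C b⁻¹, A ⊔ conjBy C b⁻¹⁆, A ⊔ conjBy C b⁻¹⁆ = ⊥) ∧
        (¬ IsMulCommutative ↥(conjBy A b⁻¹ ⊔ C) ∧
          ⁅⁅conjBy A b⁻¹ ⊔ C, conjBy A b⁻¹ ⊔ C⁆, conjBy A b⁻¹ ⊔ C⁆ = ⊥))) ∧
    ⁅A ⊔ conjBy C b⁻¹, conjBy A b⁻¹ ⊔ C⁆ = ⊥ ∧
    (∀ r ∈ A ⊔ B ⊔ C, conjBy ((A ⊔ conjBy C b⁻¹) ⊔ (conjBy A b⁻¹ ⊔ C)) r =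
      (A ⊔ conjBy C b⁻¹) ⊔ (conjBy A b⁻¹ ⊔ C)) ∧
    ((A ⊔ conjBy C b⁻¹) ⊔ (conjBy A b⁻¹ ⊔ C)) ⊔ B = A ⊔ B ⊔ C ∧
    Group.IsNilpotent ↥(A ⊔ B ⊔ C) := by
  have hab := fun (X : Subgroup G) (hX : X ∈ S) => fun x hx x' hx' => abelian_comm hS hX (a := x) (a' := x') hx hx'
  have hBA : ⁅B, A⁆ ∈ S := by rwa [commutator_comm]
  have hCA : ⁅C, A⁆ = ⊥ := by rwa [commutator_comm]
  obtain ⟨sC, sE, sF, sFc⟩ := chain_side hS hA hB hC hBC hAC hb hb1
  obtain ⟨sA, sD, sF', sFc'⟩ := chain_side hS hC hB hA hBA hCA hb hb1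
  have cE := (commutator_case hS hB hC hBC).2.1
  have cD := (commutator_case hS hB hA hBA).2.1
  have hFbot : ⁅A, ⁅B, C⁆⁆ = ⊥ ↔ ⁅C, ⁅B, A⁆⁆ = ⊥ := chain_bot_iff hAC
  obtain ⟨A', hA'⟩ : ∃ A', A' = conjBy A b⁻¹ := ⟨_, rfl⟩
  obtain ⟨C', hC'⟩ : ∃ C', C' = conjBy C b⁻¹ := ⟨_, rfl⟩
  have hA'S : A' ∈ S := hA' ▸ hS.conj_mem A hA b⁻¹
  have hC'S : C' ∈ S := hC' ▸ hS.conj_mem C hC b⁻¹
  obtain ⟨D, hD⟩ : ∃ D, D = ⁅B, A⁆ := ⟨_, rfl⟩
  obtain ⟨E, hE⟩ : ∃ E, E = ⁅B, C⁆ := ⟨_, rfl⟩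
  rw [← hC'] at sC sE sF ⊢
  rw [← hA'] at sA sD sF' ⊢
  rw [← hE] at sC sE sF sFc cE hFbot
  rw [← hD] at sA sD sF' sFc' cD hFbot
  obtain ⟨F, hF⟩ : ∃ F, F = ⁅A, E⁆ := ⟨_, rfl⟩
  obtain ⟨F', hF'⟩ : ∃ F', F' = ⁅C, D⁆ := ⟨_, rfl⟩
  rw [← hF] at sF sFc hFbot
  rw [← hF'] at sF' sFc' hFbot
  have hac : ∀ a ∈ A, ∀ c ∈ C, a * c = c * a := fun a ha c hc => commute_of_bot hAC ha hc
  have ha'c' : ∀ x ∈ A', ∀ y ∈ C', x * y = y * x := by
    intro x hx y hy
    rw [hA', mem_conjBy, inv_inv] at hx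
    rw [hC', mem_conjBy, inv_inv] at hy
    have h := hac _ hx _ hy
    calc x * y = b⁻¹ * ((b * x * b⁻¹) * (b * y * b⁻¹)) * b := by group
      _ = y * x := by rw [h]; group
  have haa' : ∀ x ∈ A, ∀ y ∈ A', x * y = y * x := fun x hx y hy =>
    sup_centralize (fun p hp => hab A hA x hx p hp) (fun q hq => (cD q hq x (mem_sup_right hx)).symm) y (sA hy)
  have hcc' : ∀ x ∈ C, ∀ y ∈ C', x * y = y * x := fun x hx y hy =>
    sup_centralize (fun p hp => hab C hC x hx p hp) (fun q hq => (cE q hq x (mem_sup_right hx)).symm) y (sC hy)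
  have hXY : ⁅A ⊔ C', A' ⊔ C⁆ = ⊥ := by
    rw [commutator_eq_bot_iff_le_centralizer]
    refine sup_le (fun x hx => ?_) (fun x hx => ?_) <;> rw [mem_centralizer_iff]
    · exact fun y hy => (sup_centralize (haa' x hx) (hac x hx) y hy).symm
    · exact fun y hy => (sup_centralize (fun p hp => (ha'c' p hp x hx).symm) (fun q hq => (hcc' q hq x hx).symm) y hy).symm
  obtain ⟨N, hN⟩ : ∃ N, N = (A ⊔ C') ⊔ (A' ⊔ C) := ⟨_, rfl⟩
  have hAN : A ≤ N := hN ▸ le_sup_left.trans le_sup_left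
  have hC'N : C' ≤ N := hN ▸ le_sup_right.trans le_sup_left
  have hA'N : A' ≤ N := hN ▸ le_sup_left.trans le_sup_right
  have hCN : C ≤ N := hN ▸ le_sup_right.trans le_sup_right
  have hDN : D ≤ N := sD.trans (sup_le hAN hA'N)
  have hEN : E ≤ N := sE.trans (sup_le hCN hC'N)
  have hN' : N = A ⊔ C ⊔ (D ⊔ E) := by
    refine le_antisymm ?_ (sup_le (sup_le hAN hCN) (sup_le hDN hEN))
    rw [hN]
    refine sup_le (sup_le (le_sup_left.trans le_sup_left) (sC.trans ?_)) (sup_le (sA.trans ?_) (le_sup_right.trans le_sup_left))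
    · exact sup_le (le_sup_right.trans le_sup_left) (le_sup_right.trans le_sup_right)
    · exact sup_le (le_sup_left.trans le_sup_left) (le_sup_left.trans le_sup_right)
  obtain ⟨R, hR⟩ : ∃ R, R = A ⊔ B ⊔ C := ⟨_, rfl⟩
  have hAR : A ≤ R := hR ▸ le_sup_left.trans le_sup_left
  have hBR : B ≤ R := hR ▸ le_sup_right.trans le_sup_left
  have hCR : C ≤ R := hR ▸ le_sup_right
  have hDR : D ≤ R := hD ▸ (commutator_mono hBR hAR).trans (commutator_le_self R)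
  have hER : E ≤ R := hE ▸ (commutator_mono hBR hCR).trans (commutator_le_self R)
  have hNR : N ≤ R := hN' ▸ sup_le (sup_le hAR hCR) (sup_le hDR hER)
  -- the middle member normalises
  have hBconj : ∀ x ∈ B, conjBy N x ≤ N := by
    intro x hx
    rw [hN', conjBy_sup, conjBy_sup, conjBy_sup, ← hN']
    refine sup_le (sup_le ?_ ?_) (sup_le ?_ ?_) <;> intro y hy <;> rw [mem_conjBy] at hy
    · have e : y = ⁅x, x⁻¹ * y * x⁆ * (x⁻¹ * y * x) := by rw [commutatorElement_def]; group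
      rw [e]
      exact mul_mem (hDN (hD ▸ commutator_mem_commutator hx hy)) (hAN hy)
    · have e : y = ⁅x, x⁻¹ * y * x⁆ * (x⁻¹ * y * x) := by rw [commutatorElement_def]; group
      rw [e]
      exact mul_mem (hEN (hE ▸ commutator_mem_commutator hx hy)) (hCN hy)
    · have h := cD _ hy x (mem_sup_left hx)
      have e : y = x⁻¹ * y * x := by
        calc y = (x * (x⁻¹ * y * x)) * x⁻¹ := by group
          _ = ((x⁻¹ * y * x) * x) * x⁻¹ := by rw [h]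
          _ = _ := by group
      rw [e]
      exact hDN hy
    · have h := cE _ hy x (mem_sup_left hx)
      have e : y = x⁻¹ * y * x := by
        calc y = (x * (x⁻¹ * y * x)) * x⁻¹ := by group
          _ = ((x⁻¹ * y * x) * x) * x⁻¹ := by rw [h]
          _ = _ := by group
      rw [e]
      exact hEN hy
  have hnorm : R ≤ normalizer (N : Set G) := by
    rw [hR]
    refine sup_le (sup_le (hAN.trans le_normalizer) fun x hx => ?_) (hCN.trans le_normalizer)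
    rw [← conjBy_eq_self_iff]
    refine le_antisymm (hBconj x hx) fun y hy => ?_
    rw [mem_conjBy]
    refine hBconj x⁻¹ (inv_mem hx) (mem_conjBy.mpr ?_)
    simpa [mul_assoc] using hy
  have hsupR : N ⊔ B = R := le_antisymm (sup_le hNR hBR)
    (hR ▸ sup_le (sup_le (hAN.trans le_sup_left) le_sup_right) (hCN.trans le_sup_left))
  -- the commutators
  have hFX : F ≤ A ⊔ C' := sF ▸ (commutator_mono le_sup_left le_sup_right).trans (commutator_le_self _)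
  have hFY : F' ≤ A' ⊔ C := sF' ▸ (commutator_mono le_sup_right le_sup_left).trans (commutator_le_self _)
  have hFcen : ∀ f ∈ F, ∀ x ∈ N, f * x = x * f := by
    intro f hf
    rw [hN]
    refine sup_centralize (sup_centralize (fun x hx => sFc f hf x (mem_sup_left (mem_sup_left hx))) fun x hx => ?_)
      fun x hx => commute_of_bot hXY (hFX hf) hx
    exact sFc f hf x ((sup_le le_sup_right (le_sup_right.trans le_sup_left) : C ⊔ E ≤ A ⊔ E ⊔ C) (sC hx))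
  have hFcen' : ∀ f ∈ F', ∀ x ∈ N, f * x = x * f := by
    intro f hf
    rw [hN]
    refine sup_centralize (fun x hx => (commute_of_bot hXY hx (hFY hf)).symm)
      (sup_centralize (fun x hx => ?_) (fun x hx => sFc' f hf x (mem_sup_left (mem_sup_left hx))))
    exact sFc' f hf x ((sup_le le_sup_right (le_sup_right.trans le_sup_left) : A ⊔ D ≤ C ⊔ D ⊔ A) (sA hx))
  have hX2 : ⁅A ⊔ C', A ⊔ C'⁆ ≤ F := by
    have hn : A ⊔ C' ≤ normalizer (F : Set G) := fun x hx => centralizer_le_normalizer _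
      (mem_centralizer_iff.mpr fun f hf => hFcen f hf x (hN ▸ mem_sup_left hx))
    refine comm_sup_left hn le_sup_left le_sup_right (comm_sup_right hn le_sup_left le_sup_right ?_ sF.le)
      (comm_sup_right hn le_sup_left le_sup_right (by rw [commutator_comm]; exact sF.le) ?_)
    · exact comm_bot (hab A hA)
    · exact comm_bot (hab C' hC'S)
  have hY2 : ⁅A' ⊔ C, A' ⊔ C⁆ ≤ F' := by
    have hn : A' ⊔ C ≤ normalizer (F' : Set G) := fun x hx => centralizer_le_normalizer _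
      (mem_centralizer_iff.mpr fun f hf => hFcen' f hf x (hN ▸ mem_sup_right hx))
    refine comm_sup_left hn le_sup_left le_sup_right
      (comm_sup_right hn le_sup_left le_sup_right ?_ (by rw [commutator_comm]; exact sF'.le))
      (comm_sup_right hn le_sup_left le_sup_right sF'.le ?_)
    · exact comm_bot (hab A' hA'S)
    · exact comm_bot (hab C hC)
  have hcl : ∀ X : Subgroup G, IsMulCommutative ↥X ↔ ⁅X, X⁆ = ⊥ := by
    intro X
    constructor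
    · intro h
      refine le_bot_iff.mp (comm_bot fun p hp q hq => ?_)
      exact congrArg Subtype.val (mul_comm' (⟨p, hp⟩ : X) ⟨q, hq⟩)
    · intro h
      exact ⟨⟨fun x y => Subtype.ext (commute_of_bot h x.2 y.2)⟩⟩
  have hcase : (IsMulCommutative ↥(A ⊔ C') ∧ IsMulCommutative ↥(A' ⊔ C)) ∨
      ((¬ IsMulCommutative ↥(A ⊔ C') ∧ ⁅⁅A ⊔ C', A ⊔ C'⁆, A ⊔ C'⁆ = ⊥) ∧
        (¬ IsMulCommutative ↥(A' ⊔ C) ∧ ⁅⁅A' ⊔ C, A' ⊔ C⁆, A' ⊔ C⁆ = ⊥)) := by
    rw [hcl, hcl]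
    by_cases h : F = ⊥
    · exact Or.inl ⟨le_bot_iff.mp (h ▸ hX2), le_bot_iff.mp (hFbot.mp h ▸ hY2)⟩
    refine Or.inr ⟨⟨fun h0 => h (le_bot_iff.mp ?_), ?_⟩, ⟨fun h0 => h (hFbot.mpr (le_bot_iff.mp ?_)), ?_⟩⟩
    · rw [← sF, ← h0]
      exact commutator_mono le_sup_left le_sup_right
    · rw [commutator_eq_bot_iff_le_centralizer]
      exact hX2.trans fun f hf => mem_centralizer_iff.mpr fun x hx => (hFcen f hf x (hN ▸ mem_sup_left hx)).symm
    · rw [← sF', ← h0]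
      exact commutator_mono le_sup_right le_sup_left
    · rw [commutator_eq_bot_iff_le_centralizer]
      exact hY2.trans fun f hf => mem_centralizer_iff.mpr fun x hx => (hFcen' f hf x (hN ▸ mem_sup_right hx)).symm
  -- the series
  obtain ⟨Z, hZ⟩ : ∃ Z, Z = F ⊔ F' := ⟨_, rfl⟩
  have hZcen : ∀ z ∈ Z, ∀ x ∈ N, z * x = x * z := fun z hz x hx =>
    (sup_centralize (fun f hf => (hFcen f hf x hx).symm) (fun f hf => (hFcen' f hf x hx).symm) z (hZ ▸ hz)).symm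
  have hnZ : N ≤ normalizer (Z : Set G) := fun x hx => centralizer_le_normalizer _
    (mem_centralizer_iff.mpr fun z hz => hZcen z hz x hx)
  have hNN : ⁅N, N⁆ ≤ Z := by
    have h0 : ⁅A ⊔ C', A' ⊔ C⁆ ≤ Z := hXY ▸ bot_le
    rw [hN] at hnZ ⊢
    refine comm_sup_left hnZ le_sup_left le_sup_right
      (comm_sup_right hnZ le_sup_left le_sup_right (hX2.trans (hZ ▸ le_sup_left)) h0)
      (comm_sup_right hnZ le_sup_left le_sup_right (by rw [commutator_comm]; exact h0) (hY2.trans (hZ ▸ le_sup_right)))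
  obtain ⟨L, hL⟩ : ∃ L, L = ⁅D, E⁆ := ⟨_, rfl⟩
  have hLZ : L ≤ Z := hL ▸ (commutator_mono hDN hEN).trans hNN
  have hLcen : ∀ l ∈ L, ∀ x ∈ R, l * x = x * l := by
    intro l hl x hx
    rw [← hsupR] at hx
    refine sup_centralize (fun y hy => hZcen l (hLZ hl) y hy) (fun y hy => ?_) x hx
    have hl' : l ∈ D ⊔ E := ((commutator_mono le_sup_left le_sup_right).trans (commutator_le_self _)) (hL ▸ hl)
    exact (sup_centralize (fun d hd => (cD d hd y (mem_sup_left hy)).symm)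
      (fun e he => (cE e he y (mem_sup_left hy)).symm) l hl').symm
  have hnL : R ≤ normalizer (L : Set G) := fun x hx => centralizer_le_normalizer _
    (mem_centralizer_iff.mpr fun l hl => hLcen l hl x hx)
  have hFR : F ≤ R := hF ▸ (commutator_mono hAR hER).trans (commutator_le_self R)
  have hF'R : F' ≤ R := hF' ▸ (commutator_mono hCR hDR).trans (commutator_le_self R)
  have hZR : ⁅Z, R⁆ ≤ L := by
    have hB1 : ⁅F, B⁆ ≤ L := by
      rw [hF, hL]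
      refine chain_step (fun e he x hx => cE e he x (mem_sup_left hx)) hD.ge ?_ ?_
      · exact fun f hf d hd => hFcen f (hF ▸ hf) d (hDN hd)
      · exact fun l hl x hx => hLcen l (hL ▸ hl) x ((sup_le (hF ▸ hFR) hBR) hx)
    have hB2 : ⁅F', B⁆ ≤ L := by
      rw [hF', hL, commutator_comm D E]
      refine chain_step (fun e he x hx => cD e he x (mem_sup_left hx)) hE.ge ?_ ?_
      · exact fun f hf d hd => hFcen' f (hF' ▸ hf) d (hEN hd)
      · exact fun l hl x hx => hLcen l (hL ▸ commutator_comm E D ▸ hl) x ((sup_le (hF' ▸ hF'R) hBR) hx)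
    have hz : ∀ P : Subgroup G, P ≤ N → ∀ Q : Subgroup G, (∀ f ∈ Q, ∀ x ∈ N, f * x = x * f) → ⁅Q, P⁆ ≤ L :=
      fun P hP Q hQ => comm_bot fun f hf x hx => hQ f hf x (hP hx)
    rw [hZ]
    refine comm_sup_left hnL hFR hF'R ?_ ?_ <;> rw [hR] at hnL ⊢
    · exact comm_sup_right hnL le_sup_left le_sup_right
        (comm_sup_right hnL (le_sup_left.trans le_sup_left) (le_sup_right.trans le_sup_left) (hz A hAN F hFcen) hB1)
        (hz C hCN F hFcen)
    · exact comm_sup_right hnL le_sup_left le_sup_right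
        (comm_sup_right hnL (le_sup_left.trans le_sup_left) (le_sup_right.trans le_sup_left) (hz A hAN F' hFcen') hB2)
        (hz C hCN F' hFcen')
  have hnZR : R ≤ normalizer (Z : Set G) := le_normalizer_iff_commutator_le_left.mpr (hZR.trans hLZ)
  have hH3 : ⁅D ⊔ E ⊔ Z, R⁆ ≤ Z := by
    refine comm_sup_left hnZR (sup_le hDR hER) (hZ ▸ sup_le hFR hF'R) ?_ (hZR.trans hLZ)
    refine comm_sup_left hnZR hDR hER ?_ ?_ <;> rw [hR] at hnZR ⊢
    · refine comm_sup_right hnZR le_sup_left le_sup_right (comm_sup_right hnZR (le_sup_left.trans le_sup_left)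
        (le_sup_right.trans le_sup_left) (comm_bot fun d hd x hx => cD d hd x (mem_sup_right hx))
        (comm_bot fun d hd x hx => cD d hd x (mem_sup_left hx))) ?_
      rw [commutator_comm, ← hF']
      exact hZ ▸ le_sup_right
    · refine comm_sup_right hnZR le_sup_left le_sup_right (comm_sup_right hnZR (le_sup_left.trans le_sup_left)
        (le_sup_right.trans le_sup_left) ?_
        (comm_bot fun e he x hx => cE e he x (mem_sup_left hx))) (comm_bot fun e he x hx => cE e he x (mem_sup_right hx))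
      rw [commutator_comm, ← hF]
      exact hZ ▸ le_sup_left
  obtain ⟨W, hW⟩ : ∃ W, W = D ⊔ E ⊔ Z := ⟨_, rfl⟩
  rw [← hW] at hH3
  have hnW : R ≤ normalizer (W : Set G) :=
    le_normalizer_iff_commutator_le_left.mpr (hH3.trans (hW ▸ le_sup_right))
  have hDW : D ≤ W := hW ▸ le_sup_left.trans le_sup_left
  have hEW : E ≤ W := hW ▸ le_sup_right.trans le_sup_left
  have hR2 : ⁅R, R⁆ ≤ W := by
    have hBB : ⁅B, B⁆ ≤ W := comm_bot (hab B hB)
    have hAA : ⁅A, A⁆ ≤ W := comm_bot (hab A hA)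
    have hCC : ⁅C, C⁆ ≤ W := comm_bot (hab C hC)
    rw [hR] at hnW ⊢
    have hA1 : A ≤ A ⊔ B ⊔ C := le_sup_left.trans le_sup_left
    have hB1 : B ≤ A ⊔ B ⊔ C := le_sup_right.trans le_sup_left
    refine comm_sup_left hnW le_sup_left le_sup_right (comm_sup_left hnW hA1 hB1 ?_ ?_) ?_ <;>
      refine comm_sup_right hnW le_sup_left le_sup_right (comm_sup_right hnW hA1 hB1 ?_ ?_) ?_
    · exact hAA
    · rw [commutator_comm, ← hD]; exact hDW
    · exact comm_bot hac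
    · rw [← hD]; exact hDW
    · exact hBB
    · rw [← hE]; exact hEW
    · exact comm_bot fun c hc a ha => (hac a ha c hc).symm
    · rw [commutator_comm, ← hE]; exact hEW
    · exact hCC
  refine ⟨hcase, hXY, fun r hr => ?_, ?_, ?_⟩
  · rw [← hN, conjBy_eq_self_iff]
    exact hnorm (hR ▸ hr)
  · rw [← hN, ← hR]
    exact hsupR
  · rw [← hR, Subgroup.isNilpotent_iff_lowerCentralSeries]
    refine ⟨4, le_bot_iff.mp ?_⟩
    simp only [Subgroup.lowerCentralSeries_succ, Subgroup.lowerCentralSeries_zero]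
    calc ⁅⁅⁅⁅R, R⁆, R⁆, R⁆, R⁆ ≤ ⁅⁅⁅W, R⁆, R⁆, R⁆ :=
          commutator_mono (commutator_mono (commutator_mono hR2 le_rfl) le_rfl) le_rfl
      _ ≤ ⁅⁅Z, R⁆, R⁆ := commutator_mono (commutator_mono hH3 le_rfl) le_rfl
      _ ≤ ⁅L, R⁆ := commutator_mono hZR le_rfl
      _ ≤ ⊥ := comm_bot hLcen

end Cfsg.Lib.RootSub
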