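import Cfsg.Agent.RootSub.Basic

/-!
# The commutator case for two members of a set of abstract root subgroups
-/

set_option autoImplicit false
set_option linter.unusedSectionVars false
set_option linter.unusedVariables false
set_option linter.style.haveILetI false

open Subgroup
open Cfsg

namespace Cfsg.Lib.RootSub

open scoped commutatorElement

variable {G : Type*} [Group G] {S : Set (Subgroup G)} {A B C D E P : Subgroup G}

theorem conj_commutes_bot (h : IsRankOnePair A B) (hb : C ∈ unipotentSubgroups A B) (hne : C ≠ A)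
    (hcomm : ∀ a ∈ A, ∀ c ∈ C, a * c = c * a) : False := by
  obtain ⟨a, ha, ha1⟩ := exists_ne_one h
  refine ha1 (eq_one_of_normalizes (unipotent_pair h (left_mem A B) hb (Ne.symm hne)) ha (conjBy_eq_self_iff.mpr ?_))
  exact Subgroup.centralizer_le_normalizer _ (Subgroup.mem_centralizer_iff.mpr fun c hc => (hcomm a ha c hc).symm)

/-- The commutator subgroup of a rank one pair is not a root subgroup. -/
theorem commutator_notMem_of_pair (hS : IsRootSubgroupSet S) (hA : A ∈ S) (hB : B ∈ S) (h : IsRankOnePair A B) :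
    ⁅A, B⁆ ∉ S := by
  intro hC
  have hab := fun (X : Subgroup G) (hX : X ∈ S) => fun x hx x' hx' => abelian_comm hS hX (a := x) (a' := x') hx hx'
  have hCle : ⁅A, B⁆ ≤ A ⊔ B :=
    (Subgroup.commutator_mono le_sup_left le_sup_right).trans (Subgroup.commutator_le_self _)
  have hnorm : A ⊔ B ≤ normalizer ((⁅A, B⁆ : Subgroup G) : Set G) :=
    sup_le (Subgroup.normalizer_commutator_ge_left A B) (Subgroup.normalizer_commutator_ge_right A B)
  set C := ⁅A, B⁆ with hCdef
  -- `C` is not central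
  have hnc : ¬ ∀ c ∈ C, ∀ x ∈ A ⊔ B, c * x = x * c := by
    intro hcen
    obtain ⟨a, ha, ha1⟩ := exists_ne_one h
    refine conj_commutes_bot (RankOnePair_symm h) (C := conjBy B a)
      (unipotent_conj (mem_sup_right ha) (left_mem B A)) (fun h' => ha1 (eq_one_of_normalizes h ha h')) ?_
    intro b hb y hy
    rw [mem_conjBy] at hy
    have e : y = ⁅a, a⁻¹ * y * a⁆ * (a⁻¹ * y * a) := by rw [commutatorElement_def]; group
    have c1 : Commute b ⁅a, a⁻¹ * y * a⁆ :=
      (hcen _ (Subgroup.commutator_mem_commutator ha hy) b (mem_sup_right hb)).symm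
    have c2 : Commute b (a⁻¹ * y * a) := hab B hB _ hb _ hy
    rw [e]
    exact (c1.mul_right c2).eq
  -- members commuting with `A` inside the group
  have hdec : ∀ E ∈ S, E ≤ A ⊔ B → (∀ e ∈ E, ∀ a ∈ A, e * a = a * e) →
      E = A ∨ ∀ e ∈ E, ∀ x ∈ A ⊔ B, e * x = x * e := by
    intro E hE hle hcomm
    by_cases hEA : E = A
    · exact Or.inl hEA
    right
    intro e he
    obtain ⟨c, hc, z, hz, hezc⟩ := centralizer_decomp h (hab A hA) (hab B hB) (hle he) (hcomm e he)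
    by_cases hc1 : c = 1
    · rw [hc1, mul_one] at hezc
      exact hezc ▸ hz
    · exact absurd (root_shift hS hA hB h hz hc hc1 hE (hezc ▸ he)).2 hEA
  rcases hS.pair A hA C hC with h0 | hr | ⟨hE, hcen, hgen, -⟩
  · rcases hdec C hC hCle (fun c hc a ha => (commute_of_bot h0 ha hc).symm) with h1 | h1
    · obtain ⟨b, hb, hb1⟩ := exists_ne_one (RankOnePair_symm h)
      refine hb1 (eq_one_of_normalizes (RankOnePair_symm h) hb (conjBy_eq_self_iff.mpr ?_))
      have := hnorm (mem_sup_right hb)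
      rwa [h1] at this
    · exact hnc h1
  · obtain ⟨a, ha, ha1⟩ := exists_ne_one h
    exact ha1 (eq_one_of_normalizes hr ha (conjBy_eq_self_iff.mpr (hnorm (mem_sup_left ha))))
  · have hEC : ⁅A, C⁆ ≤ C := by
      rw [Subgroup.commutator_le]
      intro x hx c hc
      rw [commutatorElement_def]
      exact C.mul_mem ((Subgroup.mem_normalizer_iff.mp (hnorm (mem_sup_left hx)) c).mp hc) (C.inv_mem hc)
    rcases hdec ⁅A, C⁆ hE (hEC.trans hCle) (fun e he a ha => hcen e he a (mem_sup_left ha)) with h1 | h1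
    · rw [h1] at hEC
      obtain ⟨x, hx, hBx⟩ := right_mem h
      obtain ⟨a, ha, ha1⟩ := exists_ne_one h
      obtain ⟨b, hb, hne⟩ := not_commute h ha ha1
      refine hne (abelian_comm hS hC (hEC ha) ?_)
      have hb' := mem_conjBy.mp (hBx ▸ hb)
      have := (Subgroup.mem_normalizer_iff.mp (hnorm hx) _).mp (hEC hb')
      simpa [mul_assoc] using this
    · apply hnc
      have hCN : ∀ c ∈ C, conjBy A c = A := by
        intro c hc
        by_contra hne
        refine conj_commutes_bot h (unipotent_conj (hCle hc) (left_mem A B)) hne ?_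
        intro a ha y hy
        rw [mem_conjBy] at hy
        have e : y = ⁅c⁻¹ * y * c, c⁆⁻¹ * (c⁻¹ * y * c) := by rw [commutatorElement_def]; group
        have hcomm := h1 _ (inv_mem (Subgroup.commutator_mem_commutator hy hc)) a (mem_sup_left ha)
        have c1 : Commute a ⁅c⁻¹ * y * c, c⁆⁻¹ := hcomm.symm
        have c2 : Commute a (c⁻¹ * y * c) := hab A hA _ ha _ hy
        rw [e]
        exact (c1.mul_right c2).eq
      intro c hc
      have hfix : ∀ F ∈ unipotentSubgroups A B, conjBy F c = F := by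
        rintro F ⟨x, hx, rfl⟩
        have hc' : x⁻¹ * c * x ∈ C := (Subgroup.mem_normalizer_iff''.mp (hnorm hx) c).mp hc
        rw [conjBy_conjBy, show c * x = x * (x⁻¹ * c * x) by group, ← conjBy_conjBy, hCN _ hc']
      have hfix' : ∀ F ∈ unipotentSubgroups B A, conjBy F c = F := by
        rintro F ⟨x, hx, rfl⟩
        exact hfix _ (unipotent_conj (sup_comm B A ▸ hx) (right_mem h))
      have hle : A ⊔ B ≤ centralizer {c} := sup_le
        (fun a ha => mem_centralizer_singleton_iff.mpr (commute_of_fixes h hfix ha).symm)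
        (fun b hb => mem_centralizer_singleton_iff.mpr (commute_of_fixes (RankOnePair_symm h) hfix' hb).symm)
      exact fun x hx => (mem_centralizer_singleton_iff.mp (hle hx)).symm

theorem commutator_case (hS : IsRootSubgroupSet S) (hA : A ∈ S) (hB : B ∈ S) (hC : ⁅A, B⁆ ∈ S) :
    RootCommutatorCase S A B := by
  rcases hS.pair A hA B hB with h0 | hr | hc
  · exact absurd h0 (hS.ne_bot _ hC)
  · exact absurd hC (commutator_notMem_of_pair hS hA hB hr)
  · exact hc

/-- `b ↦ ⁅a, b⁆` as a homomorphism, for a central commutator subgroup. -/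
def commHom (hS : IsRootSubgroupSet S) (hA : A ∈ S) (hB : B ∈ S) (hC : ⁅A, B⁆ ∈ S) (a : A) : B →* (⁅A, B⁆ : Subgroup G) where
  toFun b := ⟨⁅(a : G), (b : G)⁆, Subgroup.commutator_mem_commutator a.2 b.2⟩
  map_one' := Subtype.ext (commutatorElement_one_right _)
  map_mul' b b' := Subtype.ext (by
    show ⁅(a : G), (b : G) * b'⁆ = ⁅(a : G), (b : G)⁆ * ⁅(a : G), (b' : G)⁆
    have h1 := (commutator_case hS hA hB hC).2.1 _ (Subgroup.commutator_mem_commutator a.2 b'.2) (b : G) (mem_sup_right b.2)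
    have e : ⁅(a : G), (b : G) * b'⁆ = ⁅(a : G), (b : G)⁆ * ((b : G) * ⁅(a : G), (b' : G)⁆ * (b : G)⁻¹) := by
      simp only [commutatorElement_def]; group
    rw [e, ← h1, mul_inv_cancel_right])

theorem commHom_apply (hS : IsRootSubgroupSet S) (hA : A ∈ S) (hB : B ∈ S) (hC : ⁅A, B⁆ ∈ S) (a : A) (b : B) :
    (commHom hS hA hB hC a b : G) = ⁅(a : G), (b : G)⁆ := rfl

theorem commHom_surjective (hS : IsRootSubgroupSet S) (hA : A ∈ S) (hB : B ∈ S) (hC : ⁅A, B⁆ ∈ S)
    {a : A} (ha1 : (a : G) ≠ 1) : Function.Surjective (commHom hS hA hB hC a) := by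
  intro c
  have hle : (⁅A, B⁆ : Subgroup G) ≤ ((commHom hS hA hB hC a).range).map (⁅A, B⁆ : Subgroup G).subtype := by
    conv_lhs => rw [← (commutator_case hS hA hB hC).2.2.1 a a.2 ha1]
    rw [closure_le]
    rintro _ ⟨b, hb, rfl⟩
    exact ⟨_, ⟨⟨b, hb⟩, rfl⟩, rfl⟩
  obtain ⟨c', ⟨b, hb⟩, hc'⟩ := hle c.2
  exact ⟨b, hb.trans (Subtype.ext hc')⟩

theorem inf_commutator (hS : IsRootSubgroupSet S) (hA : A ∈ S) (hP : P ∈ S) (hAP : IsRankOnePair A P)
    (hB : B ∈ S) (hC : ⁅A, B⁆ ∈ S) : A ⊓ ⁅A, B⁆ = ⊥ := by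
  rcases inf_bot_or_eq hS hA hP hAP hC with h | h
  · exact h
  exfalso
  apply hS.ne_bot _ hC
  rw [Subgroup.commutator_eq_bot_iff_le_centralizer]
  intro a ha
  rw [mem_centralizer_iff]
  intro b hb
  exact ((commutator_case hS hA hB hC).2.1 a (h ▸ ha) b (mem_sup_right hb)).symm

theorem commHom_injective (hS : IsRootSubgroupSet S) (hA : A ∈ S) (hP : P ∈ S) (hAP : IsRankOnePair A P)
    (hB : B ∈ S) (hC : ⁅A, B⁆ ∈ S) {a : A} (ha1 : (a : G) ≠ 1) :
    Function.Injective (commHom hS hA hB hC a) := by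
  rw [injective_iff_map_eq_one]
  intro b hb
  by_contra hb1
  have hb1' : (b : G) ≠ 1 := fun h => hb1 (Subtype.ext h)
  have hcomm : (a : G) * b = b * a := commutatorElement_eq_one_iff_mul_comm.mp (congrArg Subtype.val hb)
  rcases inf_bot_or_eq hS hA hP hAP (hS.conj_mem A hA (b : G)) with h | h
  · apply ha1
    rw [← Subgroup.mem_bot, ← h]
    refine ⟨a.2, mem_conjBy.mpr ?_⟩
    rw [mul_assoc, hcomm, inv_mul_cancel_left]
    exact a.2
  · obtain ⟨c, hc, hc1⟩ := (⁅A, B⁆ : Subgroup G).bot_or_exists_ne_one.resolve_left (hS.ne_bot _ hC)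
    have hle : (⁅A, B⁆ : Subgroup G) ≤ A := by
      rw [← (commutator_case hS hA hB hC).2.2.2 b b.2 hb1', closure_le]
      rintro _ ⟨a', ha', rfl⟩
      have h1 : (b : G) * a'⁻¹ * (b : G)⁻¹ ∈ A := by
        rw [h, mem_conjBy]; simpa [mul_assoc] using ha'
      have := A.mul_mem ha' h1
      simpa [mul_assoc] using this
    apply hc1
    rw [← Subgroup.mem_bot, ← inf_commutator hS hA hP hAP hB hC]
    exact ⟨hle hc, hc⟩

theorem conj_pair_mem (hS : IsRootSubgroupSet S) (hP : P ∈ S) (hAP : IsRankOnePair A P) (g : G) :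
    conjBy P g ∈ S ∧ IsRankOnePair (conjBy A g) (conjBy P g) := ⟨hS.conj_mem P hP g, conj_pair hAP g⟩

/-- The members inside `A ⁅A, B⁆`. -/
theorem mem_line (hS : IsRootSubgroupSet S) (hA : A ∈ S) (hP : P ∈ S) (hAP : IsRankOnePair A P)
    (hB : B ∈ S) (hC : ⁅A, B⁆ ∈ S) {x : G} (hx : x ∈ A ⊔ ⁅A, B⁆) (hxC : x ∉ ⁅A, B⁆) :
    ∃ b ∈ B, x ∈ conjBy A b := by
  have hcen := (commutator_case hS hA hB hC).2.1
  have hn : (⁅A, B⁆ : Subgroup G) ≤ normalizer (A : Set G) := fun c hc =>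
    Subgroup.centralizer_le_normalizer _ (mem_centralizer_iff.mpr fun a ha => (hcen c hc a (mem_sup_left ha)).symm)
  rw [← SetLike.mem_coe, Subgroup.coe_mul_of_right_le_normalizer_left _ _ hn] at hx
  obtain ⟨a, ha, c, hc, rfl⟩ := hx
  have ha1 : a ≠ 1 := fun h => hxC (by simpa [h] using hc)
  obtain ⟨b, hb⟩ := commHom_surjective hS hA hB hC (a := ⟨a, ha⟩) ha1 ⟨c⁻¹, inv_mem hc⟩
  refine ⟨b, b.2, ?_⟩
  have hb' : a * b * a⁻¹ * (b : G)⁻¹ = c⁻¹ := congrArg Subtype.val hb
  have hc' : c = (b : G) * a * (b : G)⁻¹ * a⁻¹ := by rw [← inv_inv c, ← hb']; group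
  show a * c ∈ _
  rw [← hcen c hc a (mem_sup_left ha), hc', inv_mul_cancel_right, mem_conjBy]
  simpa [mul_assoc] using ha

theorem member_le_commutator (hS : IsRootSubgroupSet S) (hA : A ∈ S) (hP : P ∈ S) (hAP : IsRankOnePair A P)
    (hB : B ∈ S) (hC : ⁅A, B⁆ ∈ S) (hE : E ∈ S) (hle : E ≤ ⁅A, B⁆) : E = ⁅A, B⁆ := by
  obtain ⟨a, ha, ha1⟩ := exists_ne_one hAP
  obtain ⟨e, he, he1⟩ := E.bot_or_exists_ne_one.resolve_left (hS.ne_bot _ hE)
  -- a root element times an element centralising the pair is no root element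
  have hshift : ∀ c ∈ (⁅A, B⁆ : Subgroup G), c ≠ 1 → ∃ p ∈ P, c * p ≠ p * c := by
    intro c hc hc1
    by_contra hno
    push Not at hno
    have hz : ∀ x ∈ A ⊔ P, c * x = x * c := by
      have hle : A ⊔ P ≤ centralizer {c} := sup_le
        (fun x hx => mem_centralizer_singleton_iff.mpr ((commutator_case hS hA hB hC).2.1 c hc x (mem_sup_left hx)).symm)
        (fun x hx => mem_centralizer_singleton_iff.mpr (hno x hx).symm)
      exact fun x hx => (mem_centralizer_singleton_iff.mp (hle hx)).symm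
    have hx : c * a ∈ A ⊔ ⁅A, B⁆ := mul_mem (mem_sup_right hc) (mem_sup_left ha)
    have hxC : c * a ∉ ⁅A, B⁆ := fun h => ha1 (by
      rw [← Subgroup.mem_bot, ← inf_commutator hS hA hP hAP hB hC]
      exact ⟨ha, by simpa using mul_mem (inv_mem hc) h⟩)
    obtain ⟨b, -, hb⟩ := mem_line hS hA hP hAP hB hC hx hxC
    exact hc1 (root_shift hS hA hP hAP hz ha ha1 (hS.conj_mem A hA b) hb).1
  rcases hS.pair _ hC P hP with h0 | hr | hc
  · obtain ⟨p, hp, hne⟩ := hshift e (hle he) he1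
    exact absurd (commute_of_bot h0 (hle he) hp) hne
  · exact ((inf_bot_or_eq hS hC hP hr hE).resolve_left fun h0 => he1 (by
      rw [← Subgroup.mem_bot, ← h0]; exact ⟨hle he, he⟩)).symm
  · rcases hS.pair _ hE P hP with h0 | hr | hc'
    · obtain ⟨p, hp, hne⟩ := hshift e (hle he) he1
      exact absurd (commute_of_bot h0 he hp) hne
    · exact (inf_bot_or_eq hS hE hP hr hC).resolve_left fun h0 => he1 (by
        rw [← Subgroup.mem_bot, ← h0]; exact ⟨he, hle he⟩)
    · refine le_antisymm hle fun c hc₀ => ?_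
      obtain ⟨p, hp, hp1⟩ := exists_ne_one (RankOnePair_symm hAP)
      have hPC : ⁅P, ⁅A, B⁆⁆ ∈ S := by rw [Subgroup.commutator_comm]; exact hc.1
      have hPE : ⁅P, E⁆ ∈ S := by rw [Subgroup.commutator_comm]; exact hc'.1
      have heq : (⁅P, E⁆ : Subgroup G) = ⁅P, ⁅A, B⁆⁆ := by
        rw [Subgroup.commutator_comm P E, Subgroup.commutator_comm P ⁅A, B⁆, ← hc.2.2.1 e (hle he) he1,
          ← hc'.2.2.1 e he he1]
      have hmem : ⁅p, c⁆ ∈ ⁅P, E⁆ := heq ▸ Subgroup.commutator_mem_commutator hp hc₀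
      obtain ⟨e', he'⟩ := commHom_surjective hS hP hE hPE (a := ⟨p, hp⟩) hp1 ⟨_, hmem⟩
      have hinj := commHom_injective hS hP hA (RankOnePair_symm hAP) hC hPC (a := ⟨p, hp⟩) hp1
      have h2 : commHom hS hP hC hPC ⟨p, hp⟩ ⟨(e' : G), hle e'.2⟩ = commHom hS hP hC hPC ⟨p, hp⟩ ⟨c, hc₀⟩ :=
        Subtype.ext (by
          rw [commHom_apply, commHom_apply]
          exact congrArg Subtype.val he')
      have h3 : (e' : G) = c := congrArg Subtype.val (hinj h2)
      exact h3 ▸ e'.2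

theorem line_le (hS : IsRootSubgroupSet S) (hA : A ∈ S) (hB : B ∈ S) (hC : ⁅A, B⁆ ∈ S) {b : G} (hb : b ∈ B) :
    conjBy A b ≤ A ⊔ ⁅A, B⁆ := by
  intro x hx
  rw [mem_conjBy] at hx
  have e : x = (⁅b⁻¹ * x * b, b⁆)⁻¹ * (b⁻¹ * x * b) := by rw [commutatorElement_def]; group
  rw [e]
  exact mul_mem (mem_sup_right (inv_mem (Subgroup.commutator_mem_commutator hx hb))) (mem_sup_left hx)

theorem line_members (hS : IsRootSubgroupSet S) (hA : A ∈ S) (hP : P ∈ S) (hAP : IsRankOnePair A P)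
    (hB : B ∈ S) (hC : ⁅A, B⁆ ∈ S) :
    membersIn S (A ⊔ ⁅A, B⁆) = (fun b : G => conjBy A b) '' (B : Set G) ∪ {⁅A, B⁆} := by
  ext E
  constructor
  · rintro ⟨hE, hle⟩
    by_cases hin : E ≤ ⁅A, B⁆
    · exact Or.inr (member_le_commutator hS hA hP hAP hB hC hE hin)
    · obtain ⟨x, hx, hxC⟩ := SetLike.not_le_iff_exists.mp hin
      obtain ⟨b, hb, hxb⟩ := mem_line hS hA hP hAP hB hC (hle hx) hxC
      refine Or.inl ⟨b, hb, ?_⟩
      obtain ⟨h1, h2⟩ := conj_pair_mem hS hP hAP b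
      refine (inf_bot_or_eq hS (hS.conj_mem A hA b) h1 h2 hE).resolve_left fun h0 => hxC ?_
      have hx1 : x ∈ (⊥ : Subgroup G) := h0 ▸ ⟨hxb, hx⟩
      rw [Subgroup.mem_bot.mp hx1]
      exact one_mem _
  · rintro (⟨b, hb, rfl⟩ | rfl)
    · exact ⟨hS.conj_mem A hA b, line_le hS hA hB hC hb⟩
    · exact ⟨hC, le_sup_right⟩

theorem line_partition (hS : IsRootSubgroupSet S) (hA : A ∈ S) (hP : P ∈ S) (hAP : IsRankOnePair A P)
    (hB : B ∈ S) (hC : ⁅A, B⁆ ∈ S) :
    IsSubgroupPartition (A ⊔ ⁅A, B⁆) (membersIn S (A ⊔ ⁅A, B⁆)) := by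
  refine ⟨fun E hE => hE.2, fun x hx hx1 => ?_, fun E hE F hF hne => ?_⟩
  · by_cases hxC : x ∈ ⁅A, B⁆
    · exact ⟨_, ⟨hC, le_sup_right⟩, hxC⟩
    · obtain ⟨b, hb, hxb⟩ := mem_line hS hA hP hAP hB hC hx hxC
      exact ⟨_, ⟨hS.conj_mem A hA b, line_le hS hA hB hC hb⟩, hxb⟩
  · have hE' := (line_members hS hA hP hAP hB hC).le hE
    have hF' := (line_members hS hA hP hAP hB hC).le hF
    rcases hE' with ⟨b, hb, rfl⟩ | rfl
    · obtain ⟨h1, h2⟩ := conj_pair_mem hS hP hAP b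
      exact (inf_bot_or_eq hS hE.1 h1 h2 hF.1).resolve_right hne
    · rcases hF' with ⟨b, hb, rfl⟩ | rfl
      · obtain ⟨h1, h2⟩ := conj_pair_mem hS hP hAP b
        rw [inf_comm]
        exact (inf_bot_or_eq hS hF.1 h1 h2 hE.1).resolve_right (Ne.symm hne)
      · exact absurd rfl hne

end Cfsg.Lib.RootSub
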