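import Cfsg.Agent.RootSub.DegenerateSpecial

/-!
# Degenerate classes: some member commuting with `A` is a partner of each partner of `A`

If all members commuting with `A` centralise the partner `P` of `A`, take one of them, `C`, and a common partner `B`
of `A` and `C`. The elements `q v`, conjugates of a fixed `a ∈ A` by `v⁻¹ f v f⁻¹`, lie in members commuting with `A`
and satisfy a second differences relation expressing `a` by the others. So `a` would centralise `P`.
-/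

set_option autoImplicit false
set_option linter.unusedSectionVars false
set_option linter.unusedVariables false
set_option linter.style.haveILetI false

open Subgroup
open Cfsg

namespace Cfsg.Lib.RootSub

universe u

variable {G : Type u} [Group G] {S : Set (Subgroup G)} {A B C P : Subgroup G}

theorem second_difference {H : Type*} [CommGroup H] (a f z : H) :
    z * (z * f) * (z * f) * (f * a) * ((z * f * (f * a)) ^ 3)⁻¹ * (f * a) ^ 3 = a := by
  apply Additive.ofMul.injective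
  simp only [ofMul_mul, ofMul_pow, ofMul_inv]
  abel

theorem triple_relation {H : Type*} [CommGroup H] (a f z w P : H) (ha : a ^ 3 = 1) (hf : f ^ 3 = 1)
    (hw : w ^ 3 = 1) (hP : P ^ 3 = 1) :
    P * (w * f * P) * (z * (w * f) * (w * f) * P) * (z * f * (f * a))⁻¹ * (f * a)⁻¹ = a := by
  have h : P * (w * f * P) * (z * (w * f) * (w * f) * P) * (z * f * (f * a))⁻¹ * (f * a)⁻¹ =
      P ^ 3 * w ^ 3 * f ^ 3 * (f ^ 3)⁻¹ * (a ^ 3)⁻¹ * a := by
    apply Additive.ofMul.injective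
    simp only [ofMul_mul, ofMul_pow, ofMul_inv]
    abel
  rw [h, ha, hf, hw, hP]
  simp

namespace CommonPartner

/-- The translations attached to `f = a⁻¹ c`. -/
def shift (f v : G) : G := v⁻¹ * f * v * f⁻¹

/-- The translates of `a`. -/
def orbitPoint (f a v : G) : G := shift f v * a * (shift f v)⁻¹

/-- The defect `ζ`. -/
def defect (f v : G) : G := shift f v * f * (shift f v)⁻¹ * f⁻¹

variable {b a c : G} (H : CommonPartner S A C B b a c)
include H

theorem shift_mul {v w : G} (hv : v ∈ B) (hw : w ∈ B) :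
    shift (a⁻¹ * c) (v * w) = shift (a⁻¹ * c) v * shift (a⁻¹ * c) w := by
  simp only [shift]
  set f := a⁻¹ * c with hf
  have h1 : Commute w⁻¹ (f * v * f⁻¹) := H.comm_f _ (inv_mem hw) _ (conj_mem_conjBy hv)
  have h2 : Commute w⁻¹ v⁻¹ := H.abB _ (inv_mem hw) _ (inv_mem hv)
  calc (v * w)⁻¹ * f * (v * w) * f⁻¹ = (w⁻¹ * v⁻¹) * (f * v * f⁻¹) * (f * w * f⁻¹) := by group
    _ = v⁻¹ * (w⁻¹ * (f * v * f⁻¹)) * (f * w * f⁻¹) := by rw [h2.eq]; group
    _ = v⁻¹ * (f * v * f⁻¹) * (w⁻¹ * (f * w * f⁻¹)) := by rw [h1.eq]; group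
    _ = _ := by group

theorem shift_one : shift (a⁻¹ * c) 1 = 1 := by simp [shift]

theorem shift_moves {v : G} (hv : v ∈ B) (hv1 : v ≠ 1) : conjBy A (shift (a⁻¹ * c) v) ≠ A := by
  intro hfix
  set g := shift (a⁻¹ * c) v with hg
  have hB : ∀ x ∈ B, Commute g x := H.g_centralizes hv
  have hBA := RankOnePair_symm H.pairA
  have hall : ∀ D ∈ unipotentSubgroups A B, conjBy D g = D := by
    rintro D ⟨x, hx, rfl⟩
    exact fixes_all hBA (fun y hy => (hB y hy).eq) hfix (unipotent_conj (sup_comm A B ▸ hx) (right_mem hBA))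
  have hle : B ⊔ A ≤ centralizer {g} := sup_le
    (fun x hx => mem_centralizer_singleton_iff.mpr (hB x hx).eq.symm)
    (fun x hx => mem_centralizer_singleton_iff.mpr (commute_of_fixes H.pairA hall hx).symm)
  have hz : ∀ x ∈ B ⊔ A, g * x = x * g := fun x hx => (mem_centralizer_singleton_iff.mp (hle hx)).symm
  refine H.moved (root_shift H.root H.memB H.memA hBA hz hv hv1 (H.root.conj_mem B H.memB (a⁻¹ * c)) ?_).2
  rw [(hB v hv).eq, hg, shift, show v * (v⁻¹ * (a⁻¹ * c) * v * (a⁻¹ * c)⁻¹) = a⁻¹ * c * v * (a⁻¹ * c)⁻¹ by group]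
  exact conj_mem_conjBy hv

theorem orbit_comm {v w : G} (hv : v ∈ B) (hw : w ∈ B) :
    Commute (orbitPoint (a⁻¹ * c) a v) (orbitPoint (a⁻¹ * c) a w) := by
  have h := (H.g_comm (mul_mem (inv_mem hv) hw)).conj (shift (a⁻¹ * c) v)
  change ElemComm _ (conjBy (conjBy A (shift (a⁻¹ * c) (v⁻¹ * w))) (shift (a⁻¹ * c) v)) at h
  rw [conjBy_conjBy, ← H.shift_mul hv (mul_mem (inv_mem hv) hw), mul_inv_cancel_left] at h
  exact h _ (conj_mem_conjBy H.ha) _ (conj_mem_conjBy H.ha)

/-- The commutative group generated by the translates. -/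
theorem orbit_closure_comm {x y : G} (hx : x ∈ closure (orbitPoint (a⁻¹ * c) a '' B))
    (hy : y ∈ closure (orbitPoint (a⁻¹ * c) a '' B)) : x * y = y * x := by
  have h1 : closure (orbitPoint (a⁻¹ * c) a '' B) ≤
      centralizer (closure (orbitPoint (a⁻¹ * c) a '' B) : Set G) := by
    rw [centralizer_closure, closure_le]
    rintro _ ⟨v, hv, rfl⟩
    rw [SetLike.mem_coe, mem_centralizer_iff]
    rintro _ ⟨w, hw, rfl⟩
    exact (H.orbit_comm hw hv).eq
  exact (mem_centralizer_iff.mp (h1 hx) y hy).symm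

theorem orbit_one : orbitPoint (a⁻¹ * c) a 1 = a := by
  rw [orbitPoint, H.shift_one]; simp

theorem orbit_b : orbitPoint (a⁻¹ * c) a b = a⁻¹ * c * a := by
  rw [orbitPoint, shift, H.move_a, H.f_eq, inv_mul_cancel_right]

theorem orbit_shift {v w : G} (hv : v ∈ B) (hw : w ∈ B) :
    orbitPoint (a⁻¹ * c) a (v * w) = MulAut.conj (shift (a⁻¹ * c) v) (orbitPoint (a⁻¹ * c) a w) := by
  simp only [orbitPoint, MulAut.conj_apply, H.shift_mul hv hw]
  group

theorem shift_f (v : G) :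
    MulAut.conj (shift (a⁻¹ * c) v) (a⁻¹ * c) = defect (a⁻¹ * c) v * (a⁻¹ * c) := by
  rw [defect, MulAut.conj_apply]
  group

theorem orbit_mul_b {v : G} (hv : v ∈ B) :
    orbitPoint (a⁻¹ * c) a (v * b) = defect (a⁻¹ * c) v * (a⁻¹ * c) * orbitPoint (a⁻¹ * c) a v := by
  rw [H.orbit_shift hv H.hb, H.orbit_b, map_mul, H.shift_f]
  rfl

theorem shift_defect (hK : ElemComm B (conjBy B ((a⁻¹ * c) * (a⁻¹ * c)))) {v w : G} (hv : v ∈ B) (hw : w ∈ B) :
    MulAut.conj (shift (a⁻¹ * c) v) (defect (a⁻¹ * c) w) = defect (a⁻¹ * c) w := by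
  have hB := H.g_centralizes hv
  set f := a⁻¹ * c with hf
  have he : defect (a⁻¹ * c) w = (w⁻¹ * (f * w * f⁻¹)) * ((f * f) * w⁻¹ * (f * f)⁻¹ * (f * w * f⁻¹)) := by
    simp only [defect, shift, ← hf]
    group
  have hfB : ∀ y ∈ conjBy B f, Commute (shift f v) y := by
    intro y hy
    rw [shift, show v⁻¹ * f * v * f⁻¹ = v⁻¹ * (f * v * f⁻¹) by group]
    exact (H.comm_f _ (inv_mem hv) y hy).mul_left
      ((ElemComm.conj (H.abB) f) _ (conj_mem_conjBy hv) y hy)
  have hffB : ∀ y ∈ conjBy B (f * f), Commute (shift f v) y := by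
    intro y hy
    rw [shift, show v⁻¹ * f * v * f⁻¹ = v⁻¹ * (f * v * f⁻¹) by group]
    refine (hK _ (inv_mem hv) y hy).mul_left ?_
    have := H.comm_f.conj f
    rw [conjBy_conjBy, ← hf] at this
    exact this _ (conj_mem_conjBy hv) y hy
  have hc : Commute (shift f v) (defect (a⁻¹ * c) w) := by
    rw [he]
    exact ((hB _ (inv_mem hw)).mul_right (hfB _ (conj_mem_conjBy hw))).mul_right
      ((hffB _ (conj_mem_conjBy (inv_mem hw))).mul_right (hfB _ (conj_mem_conjBy hw)))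
  rw [MulAut.conj_apply, hc.eq, mul_inv_cancel_right]

theorem f_mem : a⁻¹ * c ∈ closure (orbitPoint (a⁻¹ * c) a '' B) := by
  have h1 : a ∈ closure (orbitPoint (a⁻¹ * c) a '' B) := subset_closure ⟨1, one_mem B, H.orbit_one⟩
  have h2 : a⁻¹ * c * a ∈ closure (orbitPoint (a⁻¹ * c) a '' B) := subset_closure ⟨b, H.hb, H.orbit_b⟩
  simpa using mul_mem h2 (inv_mem h1)

theorem defect_mem {v : G} (hv : v ∈ B) : defect (a⁻¹ * c) v ∈ closure (orbitPoint (a⁻¹ * c) a '' B) := by
  have h1 : orbitPoint (a⁻¹ * c) a (v * b) ∈ closure (orbitPoint (a⁻¹ * c) a '' B) :=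
    subset_closure ⟨_, mul_mem hv H.hb, rfl⟩
  have h2 : orbitPoint (a⁻¹ * c) a v ∈ closure (orbitPoint (a⁻¹ * c) a '' B) := subset_closure ⟨v, hv, rfl⟩
  have h3 := mul_mem h1 (inv_mem (mul_mem H.f_mem h2))
  rw [H.orbit_mul_b hv] at h3
  rwa [mul_assoc (defect (a⁻¹ * c) v), mul_inv_cancel_right] at h3

/-- The members moved by a non-trivial translation centralise whatever all members commuting with `A` centralise. -/
theorem orbit_centralizes (hbad : ∀ D ∈ S, D ≠ A → ElemComm A D → ElemComm P D) {v : G} (hv : v ∈ B)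
    (hv1 : v ≠ 1) {x : G} (hx : x ∈ P) : Commute x (orbitPoint (a⁻¹ * c) a v) :=
  hbad _ (H.root.conj_mem A H.memA _) (H.shift_moves hv hv1) (H.g_comm hv) x hx _ (conj_mem_conjBy H.ha)

theorem false_of_large (hK : ElemComm B (conjBy B ((a⁻¹ * c) * (a⁻¹ * c)))) (hP : IsRankOnePair A P)
    (hbad : ∀ D ∈ S, D ≠ A → ElemComm A D → ElemComm P D) (h2 : b * b ≠ 1) (h3 : b * b * b ≠ 1) : False := by
  set f := a⁻¹ * c with hf
  set z := defect (a⁻¹ * c) b with hz
  have hq1 : orbitPoint f a b = f * a := H.orbit_b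
  have hq2 : orbitPoint f a (b * b) = z * f * (f * a) := by rw [H.orbit_mul_b H.hb, hq1]
  have hq3 : orbitPoint f a (b * b * b) = z * (z * f) * (z * f) * (f * a) := by
    have e : MulAut.conj (shift f b) a = f * a := hq1
    rw [mul_assoc b b b, H.orbit_shift H.hb (mul_mem H.hb H.hb), hq2]
    have e' : MulAut.conj (shift f b) f = z * f := H.shift_f b
    have e'' : MulAut.conj (shift f b) z = z := H.shift_defect hK H.hb H.hb
    show MulAut.conj (shift f b) (z * f * (f * a)) = _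
    rw [map_mul _ (z * f) (f * a), map_mul _ z f, map_mul _ f a, e', e'', e]
    simp only [mul_assoc]
  let K := closure (orbitPoint f a '' B)
  letI : CommGroup K :=
    { (inferInstance : Group K) with mul_comm := fun x y => Subtype.ext (H.orbit_closure_comm x.2 y.2) }
  have key := congrArg Subtype.val (second_difference (H := K)
    ⟨a, subset_closure ⟨1, one_mem B, H.orbit_one⟩⟩ ⟨f, H.f_mem⟩ ⟨z, H.defect_mem H.hb⟩)
  change z * (z * f) * (z * f) * (f * a) * ((z * f * (f * a)) ^ 3)⁻¹ * (f * a) ^ 3 = a at key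
  rw [← hq3, ← hq2, ← hq1] at key
  obtain ⟨p, hp, hap⟩ := not_commute hP H.ha H.ha1
  have hc := ((H.orbit_centralizes hbad (mul_mem (mul_mem H.hb H.hb) H.hb) h3 hp).mul_right
    ((H.orbit_centralizes hbad (mul_mem H.hb H.hb) h2 hp).pow_right 3).inv_right).mul_right
    ((H.orbit_centralizes hbad H.hb H.hb1 hp).pow_right 3)
  rw [key] at hc
  exact hap hc.eq.symm

theorem false_of_two (hP : IsRankOnePair A P) (hbad : ∀ D ∈ S, D ≠ A → ElemComm A D → ElemComm P D)
    (hB2 : ∀ v ∈ B, v * v = 1) (hf2 : (a⁻¹ * c) * (a⁻¹ * c) = 1) {v : G} (hv : v ∈ B) (hv1 : v ≠ 1)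
    (hvb : v ≠ b) : False := by
  set f := a⁻¹ * c with hf
  have hfi : f⁻¹ = f := inv_eq_of_mul_eq_one_left hf2
  have hvi : v⁻¹ = v := inv_eq_of_mul_eq_one_left (hB2 v hv)
  have hz : defect (a⁻¹ * c) v = 1 := by
    have hcm : Commute v (f * v * f) := by
      have := H.comm_f v hv _ (conj_mem_conjBy hv)
      rwa [← hf, hfi] at this
    have hg : shift f v = v * (f * v * f) := by rw [shift, hvi, hfi]; group
    have hcf : Commute (shift f v) f := by
      rw [commute_iff_eq, hg]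
      have hff : ∀ x : G, f * (f * x) = x := fun x => by rw [← mul_assoc, hf2, one_mul]
      calc v * (f * v * f) * f = v * (f * v) := by simp only [mul_assoc, hf2, mul_one]
        _ = f * ((f * v * f) * v) := by simp only [mul_assoc, hff]
        _ = f * (v * (f * v * f)) := by rw [hcm.eq]
    simp only [defect, ← hf]
    rw [hcf.eq, mul_inv_cancel_right, mul_inv_cancel]
  have hq1 : orbitPoint f a b = f * a := H.orbit_b
  have hq : orbitPoint f a (v * b) = f * orbitPoint f a v := by rw [H.orbit_mul_b hv, hz, one_mul]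
  obtain ⟨p, hp, hap⟩ := not_commute hP H.ha H.ha1
  have hvb1 : v * b ≠ 1 := fun h => hvb ((eq_inv_of_mul_eq_one_left h).trans
    (inv_eq_of_mul_eq_one_left (hB2 b H.hb)))
  have hc := ((H.orbit_centralizes hbad (mul_mem hv H.hb) hvb1 hp).mul_right
    (H.orbit_centralizes hbad hv hv1 hp).inv_right).inv_right.mul_right
    (H.orbit_centralizes hbad H.hb H.hb1 hp)
  rw [hq, hq1, mul_inv_cancel_right, inv_mul_cancel_left] at hc
  exact hap hc.eq.symm

theorem false_of_three (hK : ElemComm B (conjBy B ((a⁻¹ * c) * (a⁻¹ * c)))) (hP : IsRankOnePair A P)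
    (hbad : ∀ D ∈ S, D ≠ A → ElemComm A D → ElemComm P D) (hall : ∀ D ∈ S, ∀ x ∈ D, x ^ 3 = 1) {v : G}
    (hv : v ∈ B) (hv1 : v ≠ 1) (hvb : v ≠ b) (hvb' : v ≠ b⁻¹) : False := by
  set f := a⁻¹ * c with hf
  set z := defect (a⁻¹ * c) b with hz
  set w := defect (a⁻¹ * c) v with hw
  set Q := orbitPoint f a v with hQ
  have hq1 : orbitPoint f a b = f * a := H.orbit_b
  have hq2 : orbitPoint f a (b * b) = z * f * (f * a) := by rw [H.orbit_mul_b H.hb, hq1]
  have hr1 : orbitPoint f a (v * b) = w * f * Q := H.orbit_mul_b hv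
  have hr2 : orbitPoint f a (v * (b * b)) = z * (w * f) * (w * f) * Q := by
    have e : MulAut.conj (shift f v) a = Q := rfl
    rw [H.orbit_shift hv (mul_mem H.hb H.hb), hq2]
    have e' : MulAut.conj (shift f v) f = w * f := H.shift_f v
    have e'' : MulAut.conj (shift f v) z = z := H.shift_defect hK hv H.hb
    show MulAut.conj (shift f v) (z * f * (f * a)) = _
    rw [map_mul _ (z * f) (f * a), map_mul _ z f, map_mul _ f a, e', e'', e]
    simp only [mul_assoc]
  let K := closure (orbitPoint f a '' B)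
  letI : CommGroup K :=
    { (inferInstance : Group K) with mul_comm := fun x y => Subtype.ext (H.orbit_closure_comm x.2 y.2) }
  have hcube : ∀ y : G, y ∈ B → orbitPoint f a y ^ 3 = 1 := fun y hy =>
    hall _ (H.root.conj_mem A H.memA (shift f y)) _ (conj_mem_conjBy H.ha)
  let a' : K := ⟨a, subset_closure ⟨1, one_mem B, H.orbit_one⟩⟩
  let f' : K := ⟨f, H.f_mem⟩
  let w' : K := ⟨w, H.defect_mem hv⟩
  let Q' : K := ⟨Q, subset_closure ⟨v, hv, rfl⟩⟩
  have ha3 : a' ^ 3 = 1 := Subtype.ext (hall A H.memA a H.ha)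
  have hfa3 : (f' * a') ^ 3 = 1 := Subtype.ext (show (f * a) ^ 3 = 1 by rw [← hq1]; exact hcube b H.hb)
  have hf3 : f' ^ 3 = 1 := by rwa [mul_pow, ha3, mul_one] at hfa3
  have hQ3 : Q' ^ 3 = 1 := Subtype.ext (hcube v hv)
  have hwfQ : (w' * f' * Q') ^ 3 = 1 :=
    Subtype.ext (show (w * f * Q) ^ 3 = 1 by rw [← hr1]; exact hcube _ (mul_mem hv H.hb))
  have hw3 : w' ^ 3 = 1 := by rwa [mul_pow, mul_pow, hf3, hQ3, mul_one, mul_one] at hwfQ
  have key := congrArg Subtype.val (triple_relation (H := K) a' f' ⟨z, H.defect_mem H.hb⟩ w' Q' ha3 hf3 hw3 hQ3)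
  change Q * (w * f * Q) * (z * (w * f) * (w * f) * Q) * (z * f * (f * a))⁻¹ * (f * a)⁻¹ = a at key
  rw [← hr2, ← hr1, ← hq2, ← hq1] at key
  have hb3 : b * b * b = 1 := by
    have := hall B H.memB b H.hb
    rwa [pow_succ, pow_two] at this
  have hbb : b * b = b⁻¹ := eq_inv_of_mul_eq_one_left hb3
  have h1 : v * b ≠ 1 := fun h => hvb' (eq_inv_of_mul_eq_one_left h)
  have h2 : v * (b * b) ≠ 1 := by rw [hbb]; exact fun h => hvb (mul_inv_eq_one.mp h)
  have h3 : b * b ≠ 1 := by rw [hbb]; exact inv_ne_one.mpr H.hb1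
  obtain ⟨p, hp, hap⟩ := not_commute hP H.ha H.ha1
  have hc := ((((H.orbit_centralizes hbad hv hv1 hp).mul_right
    (H.orbit_centralizes hbad (mul_mem hv H.hb) h1 hp)).mul_right
    (H.orbit_centralizes hbad (mul_mem hv (mul_mem H.hb H.hb)) h2 hp)).mul_right
    (H.orbit_centralizes hbad (mul_mem H.hb H.hb) h3 hp).inv_right).mul_right
    (H.orbit_centralizes hbad H.hb H.hb1 hp).inv_right
  rw [← hQ, key] at hc
  exact hap hc.eq.symm

end CommonPartner

theorem exists_third {B : Subgroup G} (h3 : 3 < ENat.card B) (s : Finset G) (hs : s.card ≤ 3) :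
    ∃ v ∈ B, v ∉ s := by
  classical
  by_contra hno
  push Not at hno
  let j : B → s := fun v => ⟨v.1, hno v.1 v.2⟩
  have hj : Function.Injective j := fun x y h => Subtype.ext (congrArg (fun z : s => (z : G)) h)
  have h := ENat.card_le_card_of_injective hj
  rw [ENat.card_eq_coe_fintype_card (α := s), Fintype.card_coe] at h
  exact absurd (h3.trans_le h) (not_lt.mpr (by exact_mod_cast hs))

theorem pow_eq_one_class (hS : IsRootSubgroupClass S) (hB : B ∈ S) {n : ℕ} (h : ∀ x ∈ B, x ^ n = 1) :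
    ∀ D ∈ S, ∀ x ∈ D, x ^ n = 1 := by
  intro D hD x hx
  obtain ⟨g, rfl⟩ := hS.2.2 B hB D hD
  rw [mem_conjBy] at hx
  have := h _ hx
  rw [show g⁻¹ * x * g = g⁻¹ * x * g⁻¹⁻¹ by rw [inv_inv], conj_pow, conj_eq_one_iff] at this
  exact this

theorem card_eq_class (hS : IsRootSubgroupClass S) (hA : A ∈ S) (hB : B ∈ S) : ENat.card A = ENat.card B := by
  obtain ⟨g, rfl⟩ := hS.2.2 A hA B hB
  exact ENat.card_congr (A.equivMapOfInjective _ (MulAut.conj g).injective).toEquiv

theorem card_le_of_psl2 {k : Type u} [Field k] {A₀ B₀ : Subgroup G} (h : IsPSL2PairOver k A₀ B₀) :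
    ENat.card k ≤ ENat.card A₀ := by
  obtain ⟨φ, -, hker, hA, -⟩ := h
  let j : k → A₀ := fun t => ⟨φ (upEl t), hA ▸ ⟨upEl t, mem_upper_iff.mpr ⟨t, rfl⟩, rfl⟩⟩
  refine ENat.card_le_card_of_injective (f := j) fun s t hst => ?_
  have h1 : φ (upEl s) = φ (upEl t) := congrArg Subtype.val hst
  have h2 : upEl (s - t) ∈ φ.ker := by
    rw [MonoidHom.mem_ker, sub_eq_add_neg, ← upEl_mul, ← upEl_inv, map_mul, map_inv, h1, mul_inv_cancel]
  have h3 := Subgroup.mem_center_iff.mp (hker h2) (loEl 1)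
  have h4 := congrArg (fun M : Matrix.SpecialLinearGroup (Fin 2) k => (M : Matrix (Fin 2) (Fin 2) k) 0 0) h3
  simp [Matrix.SpecialLinearGroup.coe_mul, upEl_coe, loEl_coe, Matrix.mul_apply, Fin.sum_univ_two] at h4
  exact sub_eq_zero.mp h4

/-- In a degenerate class, not all members commuting with `A` can centralise a partner of `A`. -/
theorem not_all_centralize (hS : IsRootSubgroupClass S)
    (hH : (∀ A ∈ S, ∀ a ∈ A, 0 < orderOf a ∧ orderOf a ≤ 3) →
      ∀ A ∈ S, ∀ B ∈ rankOnePartners S A, ∃ A₀ B₀ : Subgroup G, A₀ ≤ A ∧ B₀ ≤ B ∧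
        ∃ (k : Type u) (_ : Field k), 3 < ENat.card k ∧ IsPSL2PairOver k A₀ B₀)
    (hA : A ∈ S) (hP : P ∈ S) (hAP : IsRankOnePair A P) (hB : B ∈ S) (hC : C ∈ S) (hAB : IsRankOnePair A B)
    (hCB : IsRankOnePair C B) (hne : A ≠ C) (hAC : ElemComm A C) :
    ¬ ∀ D ∈ S, D ≠ A → ElemComm A D → ElemComm P D := by
  intro hbad
  classical
  have hSS := hS.1
  have mk : ∀ y ∈ B, y ≠ 1 → ∃ a c, CommonPartner S A C B y a c := by
    intro y hy hy1
    obtain ⟨a, ha, ha1, he⟩ := hAB.cond_right y hy hy1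
    obtain ⟨c, hc, -, hce⟩ := hCB.cond_right y hy hy1
    exact ⟨a, c, hSS, hA, hB, hC, hAB, hCB, hne, hAC, hy, hy1, ha, ha1, hc, he.symm, hce.symm⟩
  obtain ⟨y, hy, hy1⟩ := exists_ne_one (RankOnePair_symm hAB)
  have hspBA : IsSpecialRankOnePair B A := by
    obtain ⟨a, c, H⟩ := mk y hy hy1
    refine special_of_commuting hSS hB hA (hSS.conj_mem B hB (a⁻¹ * c)) (RankOnePair_symm hAB) ?_ H.moved.symm
      H.comm_f
    have h := conj_pair (RankOnePair_symm hAB) (a⁻¹ * c)
    rwa [conjBy_eq_of_centralizes H.fA] at h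
  have hspBC : IsSpecialRankOnePair B C := by
    obtain ⟨a, c, H⟩ := mk y hy hy1
    have hfC : ∀ x ∈ C, Commute (a⁻¹ * c) x := fun x hx =>
      (hAC _ (inv_mem H.ha) x hx).mul_left (abelian_comm hSS hC H.hc hx)
    refine special_of_commuting hSS hB hC (hSS.conj_mem B hB (a⁻¹ * c)) (RankOnePair_symm hCB) ?_ H.moved.symm
      H.comm_f
    have h := conj_pair (RankOnePair_symm hCB) (a⁻¹ * c)
    rwa [conjBy_eq_of_centralizes hfC] at h
  have hBcomm : ∀ x ∈ B, ∀ y ∈ B, x * y = y * x := fun x hx y hy => abelian_comm hSS hB hx hy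
  have hsmall : ∀ p : ℕ, 0 < p → p ≤ 3 → (∀ x ∈ B, x ^ p = 1) → 3 < ENat.card B := by
    intro p hp0 hp3 hp
    have hall := pow_eq_one_class hS hB hp
    obtain ⟨A₀, B₀, hA₀, -, k, hk, hcard, hpsl⟩ := hH (fun X hX x hx =>
      ⟨orderOf_pos_iff.mpr (isOfFinOrder_iff_pow_eq_one.mpr ⟨p, hp0, hall X hX x hx⟩),
        (orderOf_le_of_pow_eq_one hp0 (hall X hX x hx)).trans hp3⟩) A hA P ⟨hP, hAP⟩
    calc (3 : ℕ∞) < ENat.card k := hcard
      _ ≤ ENat.card A₀ := card_le_of_psl2 hpsl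
      _ ≤ ENat.card A := ENat.card_le_card_of_injective (f := Subgroup.inclusion hA₀) (Subgroup.inclusion_injective hA₀)
      _ = ENat.card B := card_eq_class hS hA hB
  have hlarge : (∀ x ∈ B, x ≠ 1 → ∀ n ∈ ({2, 4, 6} : Finset ℕ), x ^ n ≠ 1) → False := by
    intro hn
    have hy2 : y * y ≠ 1 := fun h => hn y hy hy1 2 (by simp) (by rw [pow_two, h])
    obtain ⟨a, c, H⟩ := mk (y * y) (mul_mem hy hy) hy2
    obtain ⟨a₀, c₀, H₀⟩ := mk y hy hy1
    have hya : a ^ (1 + 1) = a₀ := partner_pow hspBA hBcomm 1 y hy (hn y hy hy1 2 (by simp)) a₀ H₀.ha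
      H₀.partnerA.symm a H.ha (by rw [pow_two]; exact H.partnerA.symm)
    have hyc : c ^ (1 + 1) = c₀ := partner_pow hspBC hBcomm 1 y hy (hn y hy hy1 2 (by simp)) c₀ H₀.hc
      H₀.partnerC.symm c H.hc (by rw [pow_two]; exact H.partnerC.symm)
    have hff : (a⁻¹ * c) * (a⁻¹ * c) = a₀⁻¹ * c₀ := by
      rw [← hya, ← hyc, pow_two, pow_two, mul_inv_rev]
      have h : Commute c a⁻¹ := (hAC _ (inv_mem H.ha) c H.hc).symm
      calc a⁻¹ * c * (a⁻¹ * c) = a⁻¹ * (c * a⁻¹) * c := by group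
        _ = a⁻¹ * (a⁻¹ * c) * c := by rw [h.eq]
        _ = _ := by group
    refine H.false_of_large (hff ▸ H₀.comm_f) hAP hbad (fun h => hn y hy hy1 4 (by simp) ?_)
      (fun h => hn y hy hy1 6 (by simp) ?_)
    · rw [← h]; simp only [pow_succ, pow_zero, one_mul, mul_assoc]
    · rw [← h]; simp only [pow_succ, pow_zero, one_mul, mul_assoc]
  rcases special_torsion hspBA ⟨hSS.commutative B hB, hSS.commutative A hA⟩ with ⟨p, hp, hel⟩ | ⟨htf, -⟩
  · have hBp : ∀ x ∈ B, x ^ p = 1 := hel.2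
    by_cases hp5 : p ≠ 2 ∧ p ≠ 3
    · refine hlarge fun x hx hx1 n hn h => ?_
      haveI := Fact.mk hp
      have ho : orderOf x = p := orderOf_eq_prime (hBp x hx) hx1
      have hd := orderOf_dvd_of_pow_eq_one h
      rw [ho] at hd
      simp only [Finset.mem_insert, Finset.mem_singleton] at hn
      rcases hn with rfl | rfl | rfl <;> have := Nat.le_of_dvd (by norm_num) hd <;> interval_cases p <;>
        first | omega | norm_num at hp
    · obtain ⟨a, c, H⟩ := mk y hy hy1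
      rcases (show p = 2 ∨ p = 3 by omega) with rfl | rfl
      · have hall := pow_eq_one_class hS hB hBp
        have hff : (a⁻¹ * c) * (a⁻¹ * c) = 1 := by
          have h : Commute a⁻¹ c := hAC _ (inv_mem H.ha) c H.hc
          rw [← pow_two, h.mul_pow, inv_pow, hall A hA a H.ha, hall C hC c H.hc, inv_one, one_mul]
        obtain ⟨v, hv, hvs⟩ := exists_third (hsmall 2 two_pos (by norm_num) hBp) {1, y} (Finset.card_le_two.trans (by norm_num))
        simp only [Finset.mem_insert, Finset.mem_singleton, not_or] at hvs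
        exact H.false_of_two hAP hbad (fun v hv => by rw [← pow_two]; exact hBp v hv) hff hv hvs.1 hvs.2
      · have hall := pow_eq_one_class hS hB hBp
        have hff : (a⁻¹ * c) * (a⁻¹ * c) = (a⁻¹ * c)⁻¹ := by
          have h : Commute a⁻¹ c := hAC _ (inv_mem H.ha) c H.hc
          refine eq_inv_of_mul_eq_one_left ?_
          rw [← pow_two, ← pow_succ, h.mul_pow, inv_pow, hall A hA a H.ha, hall C hC c H.hc, inv_one, one_mul]
        obtain ⟨v, hv, hvs⟩ := exists_third (hsmall 3 (by norm_num) le_rfl hBp) {1, y, y⁻¹} Finset.card_le_three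
        simp only [Finset.mem_insert, Finset.mem_singleton, not_or] at hvs
        exact H.false_of_three (hff ▸ H.comm_inv) hAP hbad hall hv hvs.1 hvs.2.1 hvs.2.2
  · refine hlarge fun x hx hx1 n hn h => htf x hx hx1 (isOfFinOrder_iff_pow_eq_one.mpr ⟨n, ?_, h⟩)
    simp only [Finset.mem_insert, Finset.mem_singleton] at hn
    omega

/-- Rank one pairs in a class with two commuting members are special. -/
theorem special_of_class (hS : IsRootSubgroupClass S) (hcomm : ∃ A ∈ S, ∃ C ∈ S, A ≠ C ∧ ⁅A, C⁆ = ⊥)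
    (hH : IsDegenerateRootSet S → (∀ A ∈ S, ∀ a ∈ A, 0 < orderOf a ∧ orderOf a ≤ 3) →
      ∀ A ∈ S, ∀ B ∈ rankOnePartners S A, ∃ A₀ B₀ : Subgroup G, A₀ ≤ A ∧ B₀ ≤ B ∧
        ∃ (k : Type u) (_ : Field k), 3 < ENat.card k ∧ IsPSL2PairOver k A₀ B₀)
    (hA : A ∈ S) (hB : B ∈ rankOnePartners S A) : IsSpecialRankOnePair A B := by
  classical
  obtain ⟨hBS, hAB⟩ := hB
  have hSS := hS.1
  by_cases hdeg : IsDegenerateRootSet S
  swap
  · refine (nondegenerate_partner hS ⟨hcomm, ⟨A, hA, B, hBS, hAB⟩, ?_⟩ hA ⟨hBS, hAB⟩).2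
    simp only [IsDegenerateRootSet, not_forall, not_not] at hdeg
    obtain ⟨X, hX, W, hW, h⟩ := hdeg
    exact ⟨X, hX, W, hW, h⟩
  have tri : ∀ X ∈ S, ∀ W ∈ S, ElemComm X W ∨ IsRankOnePair X W := fun X hX W hW => by
    rcases hSS.pair X hX W hW with h | h | h
    · exact .inl (elemComm_of_bot h)
    · exact .inr h
    · exact absurd h (hdeg X hX W hW)
  by_cases hex : ∃ C ∈ S, A ≠ C ∧ ElemComm A C ∧ IsRankOnePair C B
  · obtain ⟨C, hC, hne, hAC, hCB⟩ := hex
    exact special_of_commuting hSS hA hBS hC hAB hCB hne hAC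
  exfalso
  have hbad : ∀ D ∈ S, D ≠ A → ElemComm A D → ElemComm B D := fun D hD hne hAD => by
    rcases tri B hBS D hD with h | h
    · exact h
    · exact absurd ⟨D, hD, hne.symm, hAD, RankOnePair_symm h⟩ hex
  -- commuting members with a common partner exist
  obtain ⟨X, hX, C, hC, Y, hY, hne, hXC, hXY, hCY⟩ :
      ∃ X ∈ S, ∃ C ∈ S, ∃ Y ∈ S, X ≠ C ∧ ElemComm X C ∧ IsRankOnePair X Y ∧ IsRankOnePair C Y := by
    by_contra hno
    push Not at hno
    obtain ⟨X₀, hX₀, C₀, hC₀, hne₀, h₀⟩ := hcomm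
    have hconn : IsConnectedFamily (FAdj S) S := (connected_iff_class hSS ⟨A, hA, B, hBS, hAB.ne⟩).mpr
      ⟨hS.2, A, hA, fun hiso => (hiso.2 B).1 ⟨hA, hBS, hAB⟩⟩
    have key : ∀ X, Relation.ReflTransGen (FAdj S) X₀ X → X ≠ C₀ ∧ ElemComm X C₀ := by
      intro X hr
      induction hr with
      | refl => exact ⟨hne₀, elemComm_of_bot h₀⟩
      | @tail U V _ huv ih =>
        obtain ⟨hUS, hVS, hUV⟩ := huv
        refine ⟨fun h => ?_, ?_⟩
        · subst h; exact ih.2.not_pair hUV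
        · rcases tri C₀ hC₀ V hVS with h | h
          · exact h.symm
          · exact absurd h (hno U hUS C₀ hC₀ V hVS ih.1 ih.2 hUV)
    exact (key C₀ (hconn X₀ hX₀ C₀ hC₀)).1 rfl
  obtain ⟨g, rfl⟩ := hS.2.2 X hX A hA
  exact not_all_centralize hS (hH hdeg) hA hBS hAB (hSS.conj_mem Y hY g) (hSS.conj_mem C hC g) (conj_pair hXY g)
    (conj_pair hCY g) (fun h => hne (conjBy_inj h)) (hXC.conj g) hbad

end Cfsg.Lib.RootSub
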