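import Cfsg.Agent.RootSub.Nondegenerate

/-!
# Non-degenerate classes: connectivity of lines and generation
-/

set_option autoImplicit false
set_option linter.unusedSectionVars false
set_option linter.unusedVariables false
set_option linter.style.haveILetI false

open Subgroup
open Cfsg

namespace Cfsg.Lib.RootSub

open scoped commutatorElement

variable {G : Type*} [Group G] {S : Set (Subgroup G)} {A B C D : Subgroup G}

theorem linePartner_symm (hA : A ∈ S) (h : B ∈ linePartners S A) : A ∈ linePartners S B := by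
  obtain ⟨⟨hB, hne, hcomm⟩, hpart⟩ := h
  refine ⟨⟨hA, Ne.symm hne, by rw [Subgroup.commutator_comm]; exact hcomm⟩, ?_⟩
  rw [sup_comm]
  exact hpart

theorem mem_linePartners_commutator (hS : IsRootSubgroupSet S) (hA : A ∈ S) (hA' : ∃ P ∈ S, IsRankOnePair A P)
    (hB : B ∈ S) (hC : ⁅A, B⁆ ∈ S) : ⁅A, B⁆ ∈ linePartners S A := by
  obtain ⟨P, hP, hAP⟩ := hA'
  refine ⟨⟨hC, fun h => ?_, ?_⟩, line_partition hS hA hP hAP hB hC⟩
  · obtain ⟨a, ha, ha1⟩ := exists_ne_one hAP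
    apply ha1
    rw [← Subgroup.mem_bot, ← inf_commutator hS hA hP hAP hB hC]
    exact ⟨ha, show a ∈ ⁅A, B⁆ from h.symm ▸ ha⟩
  · rw [Subgroup.commutator_eq_bot_iff_le_centralizer]
    intro a ha
    rw [mem_centralizer_iff]
    exact fun c hc => (commutator_case hS hA hB hC).2.1 c hc a (mem_sup_left ha)

theorem class_partners (hS : IsRootSubgroupClass S) (hA : A ∈ S) (hB : B ∈ rankOnePartners S A) :
    ∀ X ∈ S, ∃ P ∈ S, IsRankOnePair X P := fun X hX => by
  obtain ⟨g, rfl⟩ := hS.2.2 A hA X hX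
  exact ⟨_, conj_pair_mem hS.1 hB.1 hB.2 g⟩

theorem elin_connected (hS : IsRootSubgroupClass S) (hnd : IsNondegenerateRootSet S) :
    IsConnectedFamily (EAdj S S) S ∧ IsConnectedFamily (DAdj S) S := by
  have hSS := hS.1
  obtain ⟨-, ⟨A₀, hA₀, B₀, hB₀, hp₀⟩, -⟩ := id hnd
  have hpart := class_partners hS hA₀ ⟨hB₀, hp₀⟩
  have hF : IsConnectedFamily (FAdj S) S := (connected_iff_class hSS ⟨A₀, hA₀, B₀, hB₀, hp₀.ne⟩).mpr
    ⟨hS.2, A₀, hA₀, fun h => (h.2 B₀).1 ⟨hA₀, hB₀, hp₀⟩⟩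
  have hE : IsConnectedFamily (EAdj S S) S := by
    intro X hX Y hY
    have h := hF X hX Y hY
    induction h with
    | refl => exact .refl
    | @tail U V _ hUV ih =>
      refine (ih hUV.1).trans ?_
      obtain ⟨⟨C, hC, hBC⟩, -⟩ := nondegenerate_partner hS hnd hUV.1 ⟨hUV.2.1, hUV.2.2⟩
      obtain ⟨hCS, hBCS⟩ := hBC
      have h1 : ⁅V, C⁆ ∈ linePartners S V := mem_linePartners_commutator hSS hUV.2.1 (hpart V hUV.2.1) hCS hBCS
      have h2 : ⁅V, C⁆ ∈ linePartners S C := by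
        have := mem_linePartners_commutator hSS hCS (hpart C hCS) hUV.2.1 (by rw [Subgroup.commutator_comm]; exact hBCS)
        rwa [Subgroup.commutator_comm] at this
      have e1 : EAdj S S U C := ⟨hUV.1, hCS, hC⟩
      have e2 : EAdj S S C ⁅V, C⁆ := ⟨hCS, hBCS, h2⟩
      have e3 : EAdj S S ⁅V, C⁆ V := ⟨hBCS, hUV.2.1, linePartner_symm hUV.2.1 h1⟩
      exact ((Relation.ReflTransGen.single e1).tail e2).tail e3
  refine ⟨hE, fun X hX Y hY => ?_⟩
  exact Relation.ReflTransGen.mono (r := EAdj S S) (p := DAdj S)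
    (fun U V h => ⟨h.1, h.2.1, Ne.symm h.2.2.1.2.1, h.2.2.1.2.2⟩) _ _ (hE X hX Y hY)

theorem generated_by_lines (hS : IsRootSubgroupClass S) (hnd : IsNondegenerateRootSet S) (hA : A ∈ S)
    (hB : B ∈ rankOnePartners S A) : (⨆ C ∈ linePartners S A, C) ⊔ B = ⊤ := by
  have hSS := hS.1
  have hpart := class_partners hS hA hB
  obtain ⟨hBS, hAB⟩ := hB
  set U := (⨆ C ∈ linePartners S A, C) ⊔ B with hU
  have hL : ∀ C ∈ linePartners S A, C ≤ U := fun C hC =>
    (le_iSup₂ (f := fun C _ => C) C hC).trans le_sup_left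
  have hline : ∀ L ∈ linePartners S A, ∃ u ∈ U, conjBy A u = L := by
    intro L hL'
    obtain ⟨⟨hLS, hLA, hcomm⟩, -, hcov0, hdis⟩ := hL'
    have hAL : ∀ a ∈ A, ∀ l ∈ L, a * l = l * a := fun a ha l hl => commute_of_bot hcomm ha hl
    set N := A ⊔ L with hN
    have hcov : ∀ x ∈ N, x ≠ 1 → ∃ C ∈ S, C ≤ N ∧ x ∈ C := fun x hx hx1 =>
      (hcov0 x hx hx1).elim fun C hC => ⟨C, hC.1.1, hC.1.2, hC.2⟩
    have habel : ∀ a ∈ A, ∀ y ∈ N, a * y = y * a := by
      intro a ha y hy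
      have hle : N ≤ centralizer {a} := sup_le
        (fun x hx => mem_centralizer_singleton_iff.mpr (abelian_comm hSS hA hx ha))
        (fun x hx => mem_centralizer_singleton_iff.mpr (hAL a ha x hx).symm)
      exact (mem_centralizer_singleton_iff.mp (hle hy)).symm
    obtain ⟨C, hC, hCle, hCA, hCB⟩ := exists_exception hSS hA hBS hAB hLS hLA hAL hcov
    have hAC : ∀ a ∈ A, ∀ c ∈ C, a * c = c * a := fun a ha c hc => habel a ha c (hCle hc)
    obtain ⟨hFS, hAF⟩ := line_commutator hSS hA hBS hAB hC hCA (hpart C hC) hAC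
      (fun x hx hx1 => (hcov x (sup_le le_sup_left hCle hx) hx1).imp fun E h => ⟨h.1, h.2.2⟩) hCB
    have hAF' : ⁅A, ⁅C, B⁆⁆ ∈ S := hAF.symm ▸ hC
    have hlm := line_members hSS hA hBS hAB hFS hAF'
    have hlp := line_partition hSS hA hBS hAB hFS hAF'
    rw [hAF] at hlm hlp
    have hNC : N = A ⊔ C := by
      refine le_antisymm (sup_le le_sup_left ?_) (sup_le le_sup_left hCle)
      obtain ⟨Q, hQ, hLQ⟩ := hpart L hLS
      obtain ⟨y, hy, hy1⟩ := C.bot_or_exists_ne_one.resolve_left (hSS.ne_bot C hC)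
      have hn : L ≤ normalizer (A : Set G) := fun l hl => Subgroup.centralizer_le_normalizer _
        (mem_centralizer_iff.mpr fun a ha => hAL a ha l hl)
      have hy' := hCle hy
      rw [← SetLike.mem_coe, Subgroup.coe_mul_of_right_le_normalizer_left _ _ hn] at hy'
      obtain ⟨a, ha, l, hl, rfl⟩ := hy'
      have hl1 : l ≠ 1 := fun h => hy1 (by
        obtain ⟨Q₀, hQ₀, h0⟩ := hpart C hC
        subst h
        simp only [mul_one] at hy ⊢
        rw [← Subgroup.mem_bot, ← (inf_bot_or_eq hSS hC hQ₀ h0 hA).resolve_right hCA]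
        exact ⟨hy, ha⟩)
      have hlmem : l ∈ A ⊔ C := by simpa using mul_mem (mem_sup_left (inv_mem ha)) (mem_sup_right hy)
      obtain ⟨E, hE, hlE⟩ := hlp.2.1 l hlmem hl1
      rw [(inf_bot_or_eq hSS hLS hQ hLQ hE.1).resolve_left fun h => hl1 (by
        rw [← Subgroup.mem_bot, ← h]; exact ⟨hl, hlE⟩)]
      exact hE.2
    have hmemL : ∀ E ∈ membersIn S N, E ≠ A → E ∈ linePartners S A := by
      intro E hE hne
      have hEA : A ⊓ E = ⊥ := (inf_bot_or_eq hSS hA hBS hAB hE.1).resolve_right (Ne.symm hne)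
      have hN' : A ⊔ E = N := by
        refine le_antisymm (sup_le le_sup_left hE.2) ?_
        obtain ⟨e, he, he1⟩ := E.bot_or_exists_ne_one.resolve_left (hSS.ne_bot E hE.1)
        have he' : e ∈ A ⊔ C := hNC ▸ hE.2 he
        by_cases hEC : E = C
        · rw [hEC, hNC]
        have hE' := hlm.le (show E ∈ membersIn S (A ⊔ C) from ⟨hE.1, hNC ▸ hE.2⟩)
        rcases hE' with ⟨f, hf, rfl⟩ | h
        · rw [hNC]
          refine sup_le le_sup_left fun c hc => ?_
          have hf1 : f ≠ 1 := fun h => hne (by show conjBy A f = A; rw [h, conjBy_one])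
          have hgen := (commutator_case hSS hA hFS hAF').2.2.2 f hf hf1
          rw [hAF] at hgen
          have hle : C ≤ A ⊔ conjBy A f := by
            rw [← hgen, closure_le]
            rintro _ ⟨a, ha, rfl⟩
            show a * f * a⁻¹ * f⁻¹ ∈ _
            rw [show a * f * a⁻¹ * f⁻¹ = a * (f * a⁻¹ * f⁻¹) by group]
            exact mul_mem (mem_sup_left ha) (mem_sup_right (mem_conjBy.mpr (by simpa [mul_assoc] using ha)))
          exact hle hc
        · exact absurd h hEC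
      refine ⟨⟨hE.1, hne, ?_⟩, ?_⟩
      · rw [Subgroup.commutator_eq_bot_iff_le_centralizer]
        exact fun a ha => mem_centralizer_iff.mpr fun e he => (habel a ha e (hE.2 he)).symm
      · rw [hN']
        exact ⟨fun D hD => hD.2, hcov0, hdis⟩
    have hCL : C ∈ linePartners S A := hmemL C ⟨hC, hCle⟩ hCA
    have hFU : ⁅C, B⁆ ≤ U := (Subgroup.commutator_mono (hL C hCL) le_sup_right).trans (Subgroup.commutator_le_self U)
    obtain ⟨P₀, hP₀, hCP₀⟩ := hpart C hC
    obtain ⟨B₁, hB₁, hB₁le, hB₁C, hB₁P⟩ := exists_exception hSS hC hP₀ hCP₀ hA (Ne.symm hCA)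
      (fun c hc a ha => (hAC a ha c hc).symm) (by rw [sup_comm C A, ← hNC]; exact hcov)
    rw [sup_comm C A] at hB₁le
    have hB₁' := hlm.le (show B₁ ∈ membersIn S (A ⊔ C) from ⟨hB₁, hB₁le⟩)
    obtain ⟨f, hf, rfl⟩ : ∃ f ∈ ⁅C, B⁆, conjBy A f = B₁ := by
      rcases hB₁' with h | h
      · exact h
      · exact absurd h hB₁C
    have hfC : conjBy C f⁻¹ = C := conjBy_eq_self_iff.mpr (inv_mem (Subgroup.centralizer_le_normalizer _
      (mem_centralizer_iff.mpr fun c hc => ((commutator_case hSS hC hBS hFS).2.1 f hf c (mem_sup_left hc)).symm)))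
    set P := conjBy P₀ f⁻¹ with hPdef
    have hP : P ∈ S := hSS.conj_mem P₀ hP₀ _
    have hCP : IsRankOnePair C P := hfC ▸ conj_pair hCP₀ f⁻¹
    have hAP : ¬ IsRankOnePair A P := fun h => hB₁P (by
      have := conj_pair h f
      rwa [hPdef, conjBy_conjBy, mul_inv_cancel, conjBy_one] at this)
    obtain ⟨hF1, hCF1⟩ := line_commutator hSS hC hP hCP hA (Ne.symm hCA) (hpart A hA)
      (fun c hc a ha => (hAC a ha c hc).symm)
      (by rw [sup_comm C A, ← hNC]; exact fun x hx hx1 => (hcov x hx hx1).imp fun E h => ⟨h.1, h.2.2⟩) hAP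
    have hF1U : ⁅A, P⁆ ≤ U := hL _ (mem_linePartners_commutator hSS hA (hpart A hA) hP hF1)
    have hlm1 := line_members hSS hC hP hCP hF1 (hCF1.symm ▸ hA)
    rw [hCF1, sup_comm C A, ← hNC] at hlm1
    rw [← hNC] at hlm
    have hf1 : ∃ f ∈ ⁅C, B⁆, f ≠ 1 := ⁅C, B⁆.bot_or_exists_ne_one.resolve_left (hSS.ne_bot _ hFS)
    obtain ⟨f₁, hf₁, hf₁1⟩ := hf1
    have hX : conjBy A f₁ ∈ membersIn S N := hlm.ge (Or.inl ⟨f₁, hf₁, rfl⟩)
    have hXA : conjBy A f₁ ≠ A := by
      intro h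
      obtain ⟨a, ha, ha1⟩ := exists_ne_one hAB
      have h2 : ⁅a, f₁⁆ ∈ A := by
        rw [commutatorElement_def, show a * f₁ * a⁻¹ * f₁⁻¹ = a * (f₁ * a⁻¹ * f₁⁻¹) by group]
        refine mul_mem ha (h.le (mem_conjBy.mpr (by simpa [mul_assoc] using ha)))
      have h3 : ⁅a, f₁⁆ = 1 := by
        rw [← Subgroup.mem_bot, ← inf_commutator hSS hA hBS hAB hFS hAF']
        exact ⟨h2, Subgroup.commutator_mem_commutator ha hf₁⟩
      have := (injective_iff_map_eq_one _).mp (commHom_injective hSS hA hBS hAB hFS hAF' (a := ⟨a, ha⟩) ha1)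
        ⟨f₁, hf₁⟩ (Subtype.ext h3)
      exact hf₁1 (congrArg Subtype.val this)
    obtain ⟨f₂, hf₂, hf₂e⟩ : ∃ f₂ ∈ ⁅A, P⁆, conjBy C f₂ = conjBy A f₁ := by
      rcases hlm1.le hX with h | h
      · exact h
      · exact absurd h hXA
    have hCU : ∃ u ∈ U, conjBy A u = C := ⟨f₂⁻¹ * f₁, mul_mem (inv_mem (hF1U hf₂)) (hFU hf₁), by
      rw [← conjBy_conjBy, ← hf₂e, conjBy_conjBy, inv_mul_cancel, conjBy_one]⟩
    rcases hlm.le (show L ∈ membersIn S N from ⟨hLS, le_sup_right⟩) with ⟨f, hf, rfl⟩ | h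
    · exact ⟨f, hFU hf, rfl⟩
    · rw [Set.mem_singleton_iff] at h
      rw [h]; exact hCU
  -- the orbit of `A` under `U` is closed under line partners
  let O : Set (Subgroup G) := {X | ∃ u ∈ U, conjBy A u = X}
  have hconjL : ∀ g : G, ∀ X ∈ S, ∀ Y, Y ∈ linePartners S (conjBy X g) → conjBy Y g⁻¹ ∈ linePartners S X := by
    intro g X hX Y hY
    obtain ⟨⟨hYS, hne, hcomm⟩, -, hcov, hdis⟩ := hY
    have hcanc : ∀ E : Subgroup G, conjBy (conjBy E g) g⁻¹ = E := fun E => by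
      rw [conjBy_conjBy, inv_mul_cancel, conjBy_one]
    have hN : conjBy (conjBy X g ⊔ Y) g⁻¹ = X ⊔ conjBy Y g⁻¹ := by rw [conjBy_sup, hcanc]
    refine ⟨⟨hSS.conj_mem Y hYS _, fun h => hne ?_, ?_⟩, fun E hE => hE.2, ?_, ?_⟩
    · rw [← h, conjBy_conjBy, mul_inv_cancel, conjBy_one]
    · have h0 := congrArg (fun E => conjBy E g⁻¹) hcomm
      simp only [conjBy, Subgroup.map_commutator, Subgroup.map_bot] at h0
      rw [← hcanc X]
      exact h0
    · intro x hx hx1
      rw [← hN, mem_conjBy] at hx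
      obtain ⟨E, hE, hxE⟩ := hcov _ hx (fun h => hx1 (by
        have : x = g⁻¹ * ((g⁻¹)⁻¹ * x * g⁻¹) * (g⁻¹)⁻¹ := by group
        rw [this, h]; simp))
      refine ⟨conjBy E g⁻¹, ⟨hSS.conj_mem E hE.1 _, ?_⟩, mem_conjBy.mpr hxE⟩
      rw [← hN]
      exact Subgroup.map_mono hE.2
    · intro E hE F hF hne'
      have h1 : conjBy E g ∈ membersIn S (conjBy X g ⊔ Y) := ⟨hSS.conj_mem E hE.1 g, by
        have := Subgroup.map_mono (f := (MulAut.conj g).toMonoidHom) hE.2
        rw [← conjBy, ← conjBy, conjBy_sup, conjBy_conjBy, mul_inv_cancel, conjBy_one] at this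
        exact this⟩
      have h2 : conjBy F g ∈ membersIn S (conjBy X g ⊔ Y) := ⟨hSS.conj_mem F hF.1 g, by
        have := Subgroup.map_mono (f := (MulAut.conj g).toMonoidHom) hF.2
        rw [← conjBy, ← conjBy, conjBy_sup, conjBy_conjBy, mul_inv_cancel, conjBy_one] at this
        exact this⟩
      have h3 := hdis _ h1 _ h2 fun h => hne' (conjBy_inj h)
      rw [eq_bot_iff_forall] at h3 ⊢
      rintro x ⟨hx1, hx2⟩
      have := h3 (g * x * g⁻¹) ⟨mem_conjBy.mpr (by simpa [mul_assoc] using hx1), mem_conjBy.mpr (by simpa [mul_assoc] using hx2)⟩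
      exact conj_eq_one_iff.mp this
  have hclosed : ∀ X ∈ S, ∀ Y, EAdj S S X Y → X ∈ O → Y ∈ O := by
    rintro X hX Y ⟨-, -, hY⟩ ⟨u, hu, rfl⟩
    obtain ⟨v, hv, hve⟩ := hline _ (hconjL u A hA Y hY)
    refine ⟨u * v, mul_mem hu hv, ?_⟩
    rw [← conjBy_conjBy, hve, conjBy_conjBy, mul_inv_cancel, conjBy_one]
  have hall : ∀ X ∈ S, X ∈ O := by
    intro X hX
    have h := (elin_connected hS hnd).1 A hA X hX
    induction h with
    | refl => exact ⟨1, one_mem _, conjBy_one⟩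
    | @tail Y Z _ hYZ ih => exact hclosed Y hYZ.1 Z hYZ (ih hYZ.1)
  have hAU : A ≤ U := by
    obtain ⟨⟨C, hC, -⟩, -⟩ := nondegenerate_partner hS hnd hA ⟨hBS, hAB⟩
    obtain ⟨u, hu, hue⟩ := hline C hC
    intro a ha
    have h1 : u * a * u⁻¹ ∈ C := by rw [← hue, mem_conjBy]; simpa [mul_assoc] using ha
    have := mul_mem (mul_mem (inv_mem hu) (hL C hC h1)) hu
    simpa [mul_assoc] using this
  rw [eq_top_iff, ← hSS.generates]
  refine iSup₂_le fun X hX => ?_
  obtain ⟨u, hu, rfl⟩ := hall X hX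
  intro x hx
  have := mul_mem (mul_mem hu (hAU (mem_conjBy.mp hx))) (inv_mem hu)
  simpa [mul_assoc] using this

end Cfsg.Lib.RootSub
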