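import Cfsg.Agent.RootSub.Basic
import Cfsg.Prelude.Def_Transfer

/-!
# Special rank one groups with abelian unipotent subgroups
-/

set_option autoImplicit false
set_option linter.unusedSectionVars false
set_option linter.unusedVariables false
set_option linter.style.haveILetI false

open Subgroup
open Cfsg

namespace Cfsg.Lib.RootSub

variable {G : Type*} [Group G] {A B : Subgroup G}

theorem points_meet_trivially (h : IsRankOnePair A B) {C D : Subgroup G} (hC : C ∈ unipotentSubgroups A B)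
    (hD : D ∈ unipotentSubgroups A B) {x : G} (hx : x ∈ C) (hx' : x ∈ D) (hx1 : x ≠ 1) : C = D := by
  by_contra hne
  refine hx1 ?_
  rw [← Subgroup.mem_bot, ← inf_eq_bot (unipotent_pair h hC hD hne)]
  exact ⟨hx, hx'⟩

theorem special_braid (h : IsSpecialRankOnePair A B) {a b : G} (ha : a ∈ A) (ha1 : a ≠ 1) (hb : b ∈ B) (hb1 : b ≠ 1)
    (he : conjBy A b⁻¹ = conjBy B a⁻¹) :
    a * b * a⁻¹ = b * a⁻¹ * b⁻¹ ∧ a⁻¹ * b * a = b⁻¹ * a⁻¹ * b ∧ conjBy A b = conjBy B a := by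
  have h1 := h.2 a ha ha1 b hb hb1 he
  have e1 : a⁻¹ * b * a = b⁻¹ * a⁻¹ * b := by
    have := congrArg (·⁻¹) h1
    simp only [mul_inv_rev, inv_inv] at this
    rw [← mul_assoc, ← mul_assoc] at this
    exact this.symm
  have e2 : a * b * a⁻¹ = b * a⁻¹ * b⁻¹ := by
    have h2 : a = b * (a⁻¹ * b⁻¹ * a) * b⁻¹ := by rw [← h1]; group
    conv_lhs => arg 1; arg 1; rw [h2]
    group
  refine ⟨e2, e1, points_meet_trivially h.1 (unipotent_conj (mem_sup_right hb) (left_mem A B))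
    (unipotent_conj (mem_sup_left ha) (right_mem h.1)) (x := b * a⁻¹ * b⁻¹) (mem_conjBy.mpr ?_)
    (mem_conjBy.mpr ?_) fun h' => ha1 (inv_eq_one.mp (conj_eq_one_iff.mp h'))⟩
  · simpa [mul_assoc] using inv_mem ha
  · rw [← e2]; simpa [mul_assoc] using hb

theorem partner_inj (h : IsRankOnePair A B) {a a' b : G} (ha : a ∈ A) (ha' : a' ∈ A)
    (he : conjBy A b⁻¹ = conjBy B a⁻¹) (he' : conjBy A b⁻¹ = conjBy B a'⁻¹) : a = a' :=
  inv_injective (a_unique h (inv_mem ha) (inv_mem ha') (he.symm.trans he'))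

theorem exists_partner' (h : IsRankOnePair A B) {a : G} (ha : a ∈ A) (ha1 : a ≠ 1) :
    ∃ b ∈ B, b ≠ 1 ∧ conjBy A b⁻¹ = conjBy B a⁻¹ := h.cond_left a ha ha1

/-- The partner of the `n`-th power, raised to the `n`-th power, is the partner. -/
theorem partner_pow (h : IsSpecialRankOnePair A B) (hA : ∀ x ∈ A, ∀ y ∈ A, x * y = y * x) :
    ∀ n : ℕ, ∀ c ∈ A, c ^ (n + 1) ≠ 1 → ∀ b ∈ B, conjBy A b⁻¹ = conjBy B c⁻¹ →
      ∀ u ∈ B, conjBy A u⁻¹ = conjBy B (c ^ (n + 1))⁻¹ → u ^ (n + 1) = b := by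
  intro n
  induction n with
  | zero =>
    intro c hc hc1 b hb hbe u hu hue
    rw [zero_add, pow_one] at hue ⊢
    exact b_unique h.1 hu hb (hue.trans hbe.symm)
  | succ n ih =>
    intro c hc hd b hb hbe u hu hue
    have hc1 : c ≠ 1 := fun h' => hd (by rw [h', one_pow])
    have hb1 : b ≠ 1 := by
      intro h'
      rw [h', inv_one, conjBy_one] at hbe
      have := congrArg (fun S => conjBy S c) hbe
      simp only [conjBy_conjBy, mul_inv_cancel, conjBy_one, conjBy_self hc] at this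
      exact h.1.ne this
    obtain ⟨e2, e1, einv⟩ := special_braid h hc hc1 hb hb1 hbe
    by_cases hn : c ^ (n + 1) = 1
    · rw [pow_succ, hn, one_mul] at hue
      have hub : u = b := b_unique h.1 hu hb (hue.trans hbe.symm)
      subst hub
      have h3 : c⁻¹ * u ^ (n + 1) * c = 1 := by
        have h4 : (c⁻¹ * u * c) ^ (n + 1) = c⁻¹ * u ^ (n + 1) * c := by
          rw [show c⁻¹ * u * c = c⁻¹ * u * (c⁻¹)⁻¹ by rw [inv_inv], conj_pow, inv_inv]
        have h5 : (u⁻¹ * c⁻¹ * u) ^ (n + 1) = u⁻¹ * (c⁻¹) ^ (n + 1) * u := by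
          rw [show u⁻¹ * c⁻¹ * u = u⁻¹ * c⁻¹ * (u⁻¹)⁻¹ by rw [inv_inv], conj_pow, inv_inv]
        rw [← h4, e1, h5, inv_pow, hn, inv_one, mul_one, inv_mul_cancel]
      have : u ^ (n + 1) = 1 := by
        have := congrArg (fun z => c * z * c⁻¹) h3
        simpa [mul_assoc] using this
      rw [pow_succ, this, one_mul]
    obtain ⟨bn, hbn, -, hbne⟩ := h.1.cond_left (c ^ (n + 1)) (A.pow_mem hc _) hn
    have hbn' := ih c hc hn b hb hbe bn hbn hbne
    set x := b * c⁻¹ * bn * c * b⁻¹ with hx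
    have hxA : x ∈ A := by
      have hm : c⁻¹ * bn * c ∈ conjBy A b⁻¹ := by rw [hbe, mem_conjBy]; simpa [mul_assoc] using hbn
      rw [mem_conjBy, inv_inv] at hm
      simpa [hx, mul_assoc] using hm
    have hxpow : x ^ (n + 1) = c⁻¹ := by
      have h4 : x ^ (n + 1) = (b * c⁻¹) * bn ^ (n + 1) * (b * c⁻¹)⁻¹ := by
        rw [← conj_pow]; congr 1; rw [hx]; group
      rw [h4, hbn', show (b * c⁻¹) * b * (b * c⁻¹)⁻¹ = b * (c⁻¹ * b * c) * b⁻¹ by group, e1]
      group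
    set y := x⁻¹ with hy
    have hypow : y ^ (n + 1) = c := by rw [hy, inv_pow, hxpow, inv_inv]
    have hyd : (y ^ (n + 2)) ^ (n + 1) = c ^ (n + 2) := by rw [← pow_mul, mul_comm, pow_mul, hypow]
    have hy1 : y ^ (n + 2) ≠ 1 := fun h' => hd (by rw [← hyd, h', one_pow])
    obtain ⟨v, hv, hv1, hve⟩ := h.1.cond_left _ (A.pow_mem (inv_mem hxA) _) hy1
    have huv : u ^ (n + 1) = v := ih _ (A.pow_mem (inv_mem hxA) _) (by rw [hyd]; exact hd) v hv hve u hu (by rw [hyd]; exact hue)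
    have hvinv := (special_braid h (A.pow_mem (inv_mem hxA) _) hy1 hv hv1 hve).2.2
    have hu' : u⁻¹ = b⁻¹ * v := by
      refine inv_inj.mp (b_unique h.1 (inv_mem (inv_mem hu)) (inv_mem (mul_mem (inv_mem hb) hv)) ?_)
      rw [inv_inv, inv_inv, hue, show (c ^ (n + 1 + 1))⁻¹ = c⁻¹ * (c ^ (n + 1))⁻¹ by
        rw [← mul_inv_rev, ← pow_succ]]
      rw [← conjBy_conjBy, ← hbne, conjBy_conjBy, show c⁻¹ * bn⁻¹ = (b⁻¹ * x⁻¹ * b) * c⁻¹ by rw [hx]; group,
        ← conjBy_conjBy (A := A) c⁻¹, conjBy_self (inv_mem hc), ← conjBy_conjBy (A := A) b, einv,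
        conjBy_conjBy, show b⁻¹ * x⁻¹ * c = b⁻¹ * y ^ (n + 2) by
          rw [pow_succ y (n + 1), hypow, hy, ← hA _ (inv_mem hxA) c hc, mul_assoc],
        ← conjBy_conjBy, ← hvinv, conjBy_conjBy]
    rw [pow_succ, huv]
    have := congrArg (·⁻¹) hu'
    simp only [inv_inv, mul_inv_rev] at this
    rw [this, mul_inv_cancel_left]

theorem special_torsion (h : IsSpecialRankOnePair A B) (hab : HasAbelianUnipotents A B) :
    (∃ p : ℕ, p.Prime ∧ IsElementaryAbelian p A) ∨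
    ((∀ a ∈ A, a ≠ 1 → ¬ IsOfFinOrder a) ∧ ∀ a ∈ A, ∀ n : ℕ, 0 < n → ∃ c ∈ A, c ^ n = a) := by
  have hA : ∀ x ∈ A, ∀ y ∈ A, x * y = y * x := fun x hx y hy => by
    have := hab.1
    exact congrArg Subtype.val (mul_comm' (⟨x, hx⟩ : A) ⟨y, hy⟩)
  by_cases htf : ∀ a ∈ A, a ≠ 1 → ¬ IsOfFinOrder a
  · refine Or.inr ⟨htf, fun a ha n hn => ?_⟩
    by_cases ha1 : a = 1
    · exact ⟨1, A.one_mem, by rw [one_pow, ha1]⟩
    obtain ⟨m, rfl⟩ : ∃ m, n = m + 1 := ⟨n - 1, by omega⟩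
    have hpow : a ^ (m + 1) ≠ 1 := fun h' => htf a ha ha1 (isOfFinOrder_iff_pow_eq_one.mpr ⟨m + 1, by omega, h'⟩)
    obtain ⟨b, hb, hb1, hbe⟩ := h.1.cond_left a ha ha1
    obtain ⟨u, hu, -, hue⟩ := h.1.cond_left _ (A.pow_mem ha _) hpow
    have hroot := partner_pow h hA m a ha hpow b hb hbe u hu hue
    obtain ⟨-, e1, -⟩ := special_braid h ha ha1 hb hb1 hbe
    refine ⟨b * a⁻¹ * u⁻¹ * (b * a⁻¹)⁻¹, ?_, ?_⟩
    · have hm : a⁻¹ * u⁻¹ * a ∈ conjBy A b⁻¹ := by rw [hbe, mem_conjBy]; simpa [mul_assoc] using inv_mem hu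
      rw [mem_conjBy, inv_inv] at hm
      simpa [mul_assoc] using hm
    · rw [conj_pow, inv_pow, hroot, show b * a⁻¹ * b⁻¹ * (b * a⁻¹)⁻¹ = b * (a⁻¹ * b * a)⁻¹ * b⁻¹ by group, e1]
      group
  · left
    push Not at htf
    obtain ⟨a₀, ha₀, ha₀1, hfin⟩ := htf
    obtain ⟨p, hp, m, hm⟩ := Nat.exists_prime_and_dvd (show orderOf a₀ ≠ 1 from fun h' => ha₀1 (orderOf_eq_one_iff.mp h'))
    set a := a₀ ^ m
    have ha : a ∈ A := A.pow_mem ha₀ m
    have ha1 : a ≠ 1 := by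
      intro h'
      have hm0 : 0 < m := Nat.pos_of_ne_zero fun h0 => by
        rw [h0, mul_zero] at hm; exact hfin.orderOf_pos.ne' hm
      have h2 := Nat.le_of_dvd hm0 (orderOf_dvd_of_pow_eq_one h')
      rw [hm] at h2
      have := hp.two_le
      nlinarith
    have hap : a ^ p = 1 := by rw [← pow_mul, mul_comm, ← hm, pow_orderOf_eq_one]
    obtain ⟨q, hq⟩ : ∃ q, p = q + 1 := ⟨p - 1, by have := hp.two_le; omega⟩
    refine ⟨p, hp, hab.1, fun c hc => ?_⟩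
    by_contra hcp
    have hc1 : c ≠ 1 := fun h' => hcp (by rw [h', one_pow])
    have hacp : (a * c) ^ p = c ^ p := by
      rw [(show Commute a c from hA a ha c hc).mul_pow, hap, one_mul]
    have hac1 : a * c ≠ 1 := fun h' => hcp (by rw [← hacp, h', one_pow])
    obtain ⟨b, hb, -, hbe⟩ := h.1.cond_left c hc hc1
    obtain ⟨b', hb', -, hbe'⟩ := h.1.cond_left (a * c) (A.mul_mem ha hc) hac1
    obtain ⟨u, hu, -, hue⟩ := h.1.cond_left _ (A.pow_mem hc p) hcp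
    rw [hq] at hue hcp hacp
    have h1 := partner_pow h hA q c hc hcp b hb hbe u hu hue
    have h2 := partner_pow h hA q (a * c) (A.mul_mem ha hc) (by rw [hacp]; exact hcp) b' hb' hbe' u hu (by rw [hacp]; exact hue)
    rw [h1] at h2
    subst h2
    have := partner_inj h.1 hc (A.mul_mem ha hc) hbe hbe'
    exact ha1 (by simpa using this)

end Cfsg.Lib.RootSub
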