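import Cfsg.Agent.RootSub.Nondegenerate
import Cfsg.Agent.RootSub.NondegGeneration
import Cfsg.Agent.RootSub.Special
import Cfsg.Agent.RootSub.SL2

/-!
# Degenerate classes with commuting members: rank one pairs are special

If two different commuting members have a common partner `B`, both pairs are special: for the partners `a`, `c` of
`b` the element `f = a⁻¹ c` moves `B` to a member commuting with `B`, and two commutator computations give
`b⁻¹ a b = a⁻¹ b⁻¹ a`. If no member commuting with `A` is a partner of `B`, all of them centralise `B`, and a second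
differences argument writes an element of `A` as a product of elements of such members, which is impossible.
-/

set_option autoImplicit false
set_option linter.unusedSectionVars false
set_option linter.unusedVariables false
set_option linter.style.haveILetI false

open Subgroup
open Cfsg

namespace Cfsg.Lib.RootSub

universe u

variable {G : Type u} [Group G] {S : Set (Subgroup G)} {A B C Y : Subgroup G}

/-- Two subgroups commute elementwise. -/
def ElemComm (A B : Subgroup G) : Prop := ∀ x ∈ A, ∀ y ∈ B, Commute x y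

theorem ElemComm.symm (h : ElemComm A B) : ElemComm B A := fun x hx y hy => (h y hy x hx).symm

theorem ElemComm.conj (h : ElemComm A B) (g : G) : ElemComm (conjBy A g) (conjBy B g) := by
  intro x hx y hy
  rw [mem_conjBy] at hx hy
  have h1 := h _ hx _ hy
  have h2 := h1.map (MulAut.conj g).toMonoidHom
  simpa [mul_assoc] using h2

theorem elemComm_of_bot (h : ⁅A, B⁆ = ⊥) : ElemComm A B := fun _ hx _ hy => commute_of_bot h hx hy

theorem ElemComm.not_pair (h : ElemComm A B) (hp : IsRankOnePair A B) : False := by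
  obtain ⟨a, ha, ha1⟩ := exists_ne_one hp
  obtain ⟨b, hb, hab⟩ := not_commute hp ha ha1
  exact hab (h a ha b hb)

theorem conj_mem_conjBy {g x : G} (hx : x ∈ A) : g * x * g⁻¹ ∈ conjBy A g :=
  mem_conjBy.mpr (by simpa [mul_assoc] using hx)

theorem inv_conj_mem_conjBy {g x : G} (hx : x ∈ A) : g⁻¹ * x * g ∈ conjBy A g⁻¹ :=
  mem_conjBy.mpr (by simpa [mul_assoc] using hx)

theorem conjBy_eq_of_centralizes {g : G} (h : ∀ x ∈ A, Commute g x) : conjBy A g = A :=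
  conjBy_eq_self_iff.mpr
    (Subgroup.centralizer_le_normalizer _ (mem_centralizer_iff.mpr fun x hx => (h x hx).eq.symm))

/-- The data: commuting `A`, `C` with common partner `B`, and `b ∈ B` with its two partners. -/
structure CommonPartner (S : Set (Subgroup G)) (A C B : Subgroup G) (b a c : G) : Prop where
  root : IsRootSubgroupSet S
  memA : A ∈ S
  memB : B ∈ S
  memC : C ∈ S
  pairA : IsRankOnePair A B
  pairC : IsRankOnePair C B
  ne : A ≠ C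
  comm : ElemComm A C
  hb : b ∈ B
  hb1 : b ≠ 1
  ha : a ∈ A
  ha1 : a ≠ 1
  hc : c ∈ C
  partnerA : conjBy A b⁻¹ = conjBy B a⁻¹
  partnerC : conjBy C b⁻¹ = conjBy B c⁻¹

namespace CommonPartner

variable {b a c : G} (H : CommonPartner S A C B b a c)
include H

theorem abB : ∀ x ∈ B, ∀ y ∈ B, Commute x y := fun _ hx _ hy => abelian_comm H.root H.memB hx hy

theorem abA : ∀ x ∈ A, ∀ y ∈ A, Commute x y := fun _ hx _ hy => abelian_comm H.root H.memA hx hy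

theorem fA : ∀ x ∈ A, Commute (a⁻¹ * c) x := fun x hx =>
  (H.abA _ (inv_mem H.ha) x hx).mul_left (H.comm x hx c H.hc).symm

theorem f_inv : (a⁻¹ * c)⁻¹ = a * c⁻¹ := by
  rw [mul_inv_rev, inv_inv]
  exact ((H.comm a H.ha c⁻¹ (inv_mem H.hc)).eq).symm

theorem f_eq : a⁻¹ * c = c * a⁻¹ := (H.comm a⁻¹ (inv_mem H.ha) c H.hc).eq

theorem comm_inv : ElemComm B (conjBy B (a⁻¹ * c)⁻¹) := by
  have h := (H.comm.conj b⁻¹).conj a
  rw [H.partnerA, H.partnerC, conjBy_conjBy, conjBy_conjBy, mul_inv_cancel, conjBy_one] at h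
  rwa [H.f_inv]

theorem comm_f : ElemComm B (conjBy B (a⁻¹ * c)) := by
  have h := (H.comm_inv.conj (a⁻¹ * c)).symm
  rwa [conjBy_conjBy, mul_inv_cancel, conjBy_one] at h

theorem moved : conjBy B (a⁻¹ * c) ≠ B := by
  intro h
  apply H.ne
  apply conjBy_inj (g := b⁻¹)
  rw [H.partnerA, H.partnerC]
  have h1 := congrArg (fun X => conjBy X c⁻¹) h
  simp only [conjBy_conjBy] at h1
  rwa [H.f_eq, inv_mul_cancel_left] at h1

/-- An element `f'` centralising `A` and moving `B` to a commuting member gives commuting conjugates of `A`. -/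
theorem comm_conj {f' : G} (hfA : ∀ x ∈ A, Commute f' x) (hfB : ElemComm B (conjBy B f'⁻¹)) {β : G} (hβ : β ∈ B) :
    ElemComm A (conjBy A (f' * β * f'⁻¹ * β⁻¹)) := by
  by_cases hβ1 : β = 1
  · subst hβ1
    simp only [mul_one, mul_inv_cancel, inv_one, conjBy_one]
    exact H.abA
  obtain ⟨a', ha', -, he⟩ := H.pairA.cond_right β hβ hβ1
  have hA : conjBy B (f' * β * a'⁻¹) = A := by
    rw [← conjBy_conjBy, he, conjBy_conjBy, mul_inv_cancel_right]
    exact conjBy_eq_of_centralizes hfA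
  have hD : conjBy (conjBy B f'⁻¹) (f' * β * a'⁻¹) = conjBy A (f' * β * f'⁻¹ * β⁻¹) := by
    rw [← conjBy_conjBy (A := A) β⁻¹, ← he, conjBy_conjBy, conjBy_conjBy]
    congr 1
    have := (hfA a'⁻¹ (inv_mem ha')).inv_left.eq
    simp only [mul_assoc]
    rw [this]
  have h := hfB.conj (f' * β * a'⁻¹)
  rwa [hA, hD] at h

theorem centralizes {f' : G} (hfB : ElemComm B (conjBy B f')) {β : G} (hβ : β ∈ B) :
    ∀ x ∈ B, Commute (f' * β * f'⁻¹ * β⁻¹) x := fun x hx =>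
  ((hfB x hx _ (mem_conjBy.mpr (by simpa [mul_assoc] using hβ))).symm).mul_left (H.abB _ (inv_mem hβ) x hx)

theorem alpha_mem : a * b⁻¹ * a * b * a⁻¹ ∈ B := by
  have h : b⁻¹ * a * b ∈ conjBy A b⁻¹ := mem_conjBy.mpr (by simpa [mul_assoc] using H.ha)
  rw [H.partnerA, mem_conjBy] at h
  simpa [mul_assoc] using h

theorem gamma_mem : c * b⁻¹ * c * b * c⁻¹ ∈ B := by
  have h : b⁻¹ * c * b ∈ conjBy C b⁻¹ := mem_conjBy.mpr (by simpa [mul_assoc] using H.hc)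
  rw [H.partnerC, mem_conjBy] at h
  simpa [mul_assoc] using h

theorem swap_f :
    (a * b⁻¹) * (a⁻¹ * c) * (a * b⁻¹)⁻¹ =
      (a * b⁻¹ * a * b * a⁻¹)⁻¹ * ((a⁻¹ * c)⁻¹ * (c * b⁻¹ * c * b * c⁻¹) * (a⁻¹ * c)) := by
  conv_rhs => arg 2; arg 1; rw [H.f_inv]
  conv_rhs => arg 2; arg 2; rw [H.f_eq]
  group

theorem alpha_eq_gamma : a * b⁻¹ * a * b * a⁻¹ = c * b⁻¹ * c * b * c⁻¹ := by
  set α := a * b⁻¹ * a * b * a⁻¹ with hα
  set γ := c * b⁻¹ * c * b * c⁻¹ with hγ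
  set f := a⁻¹ * c with hf
  have hαB : α ∈ B := H.alpha_mem
  have hγB : γ ∈ B := H.gamma_mem
  set g := f⁻¹ * γ * f * γ⁻¹ with hg
  have hgeq : f⁻¹ * γ * f⁻¹⁻¹ * γ⁻¹ = g := by rw [inv_inv]
  have hgA : ElemComm A (conjBy A g) := hgeq ▸ H.comm_conj (fun x hx => (H.fA x hx).inv_left)
    (by rw [inv_inv]; exact H.comm_f) hγB
  have hgB : ∀ x ∈ B, Commute g x := hgeq ▸ H.centralizes H.comm_inv hγB
  have hu : (a * b⁻¹) * f * (a * b⁻¹)⁻¹ = g * (γ * α⁻¹) := by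
    rw [H.swap_f]
    have hc : Commute α⁻¹ (f⁻¹ * γ * f) :=
      H.comm_inv _ (inv_mem hαB) _ (inv_conj_mem_conjBy hγB)
    rw [hc.eq, hg]
    group
  -- the member `conjBy A b` and its image under `f`
  obtain ⟨a', ha', -, he⟩ := H.pairA.cond_right b⁻¹ (inv_mem H.hb) (inv_ne_one.mpr H.hb1)
  rw [inv_inv] at he
  have h1 : ElemComm (conjBy A b) (conjBy (conjBy A b) f) := by
    have h := H.comm_f.conj a'⁻¹
    rw [conjBy_conjBy, ← hf, ← (H.fA a'⁻¹ (inv_mem ha')).eq, ← conjBy_conjBy, he] at h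
    exact h
  have h2 : ElemComm A (conjBy (conjBy A (γ * α⁻¹)) g) := by
    have h := h1.conj (a * b⁻¹)
    rw [conjBy_conjBy, conjBy_conjBy, conjBy_conjBy, inv_mul_cancel_right, conjBy_self H.ha] at h
    rw [show a * b⁻¹ * f * b = (a * b⁻¹ * f * (a * b⁻¹)⁻¹) * a by group, hu, ← conjBy_conjBy,
      conjBy_self H.ha] at h
    rwa [conjBy_conjBy]
  by_contra hne
  have hβ : γ * α⁻¹ ≠ 1 := fun h => hne (mul_inv_eq_one.mp h).symm
  have hβB : γ * α⁻¹ ∈ B := mul_mem hγB (inv_mem hαB)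
  have hAne : A ≠ conjBy A (γ * α⁻¹) := fun h =>
    hβ (eq_one_of_normalizes (RankOnePair_symm H.pairA) hβB h.symm)
  have hsup := sup_eq_of_unipotent H.pairA (left_mem A B)
    (show conjBy A (γ * α⁻¹) ∈ unipotentSubgroups A B from ⟨_, mem_sup_right hβB, rfl⟩) hAne
  have h3 := h2.conj g⁻¹
  rw [conjBy_conjBy (g := g), inv_mul_cancel, conjBy_one] at h3
  have h4 := hgA.conj g⁻¹
  rw [conjBy_conjBy, inv_mul_cancel, conjBy_one] at h4
  have h5 : ElemComm (conjBy A g⁻¹) B := by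
    intro m hm x hx
    have hle : A ⊔ conjBy A (γ * α⁻¹) ≤ centralizer {m} := sup_le
      (fun y hy => mem_centralizer_singleton_iff.mpr (h4 m hm y hy).eq.symm)
      (fun y hy => mem_centralizer_singleton_iff.mpr (h3 m hm y hy).eq.symm)
    exact (mem_centralizer_singleton_iff.mp (hle (hsup ▸ mem_sup_right hx))).symm
  have h6 := h5.conj g
  rw [conjBy_conjBy, mul_inv_cancel, conjBy_one, conjBy_eq_of_centralizes hgB] at h6
  exact h6.not_pair H.pairA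

theorem g_comm {v : G} (hv : v ∈ B) : ElemComm A (conjBy A (v⁻¹ * (a⁻¹ * c) * v * (a⁻¹ * c)⁻¹)) := by
  have h := H.comm_conj H.fA H.comm_inv (inv_mem hv)
  have h' := (h.conj (v⁻¹ * (a⁻¹ * c) * v * (a⁻¹ * c)⁻¹)).symm
  rwa [conjBy_conjBy, show v⁻¹ * (a⁻¹ * c) * v * (a⁻¹ * c)⁻¹ * (a⁻¹ * c * v⁻¹ * (a⁻¹ * c)⁻¹ * v⁻¹⁻¹) = 1 by group,
    conjBy_one] at h'

theorem g_centralizes {v : G} (hv : v ∈ B) : ∀ x ∈ B, Commute (v⁻¹ * (a⁻¹ * c) * v * (a⁻¹ * c)⁻¹) x :=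
  fun x hx => by
    have h := (H.centralizes H.comm_f (inv_mem hv) x hx).inv_left
    rwa [show (a⁻¹ * c * v⁻¹ * (a⁻¹ * c)⁻¹ * v⁻¹⁻¹)⁻¹ = v⁻¹ * (a⁻¹ * c) * v * (a⁻¹ * c)⁻¹ by group] at h

theorem alpha_eq : a * b⁻¹ * a * b * a⁻¹ = b⁻¹ := by
  set α := a * b⁻¹ * a * b * a⁻¹ with hα
  set f := a⁻¹ * c with hf
  have hαB : α ∈ B := H.alpha_mem
  have hu : (a * b⁻¹) * f * (a * b⁻¹)⁻¹ = α⁻¹ * (f⁻¹ * α * f) := by
    rw [H.swap_f, ← H.alpha_eq_gamma]
  have hc' : Commute α⁻¹ (f⁻¹ * α * f) :=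
    H.comm_inv _ (inv_mem hαB) _ (inv_conj_mem_conjBy hαB)
  rw [hc'.eq] at hu
  set g := b⁻¹ * f * b * f⁻¹ with hg
  have hgA : ElemComm A (conjBy A g) := H.g_comm H.hb
  have hh : ∀ x ∈ A, Commute (a * g * a⁻¹ * g⁻¹) x := fun x hx => by
    have h := hgA x hx (g * a⁻¹ * g⁻¹) (mem_conjBy.mpr (by simpa [mul_assoc] using inv_mem H.ha))
    have h' := (H.abA a H.ha x hx).mul_left h.symm
    rwa [← mul_assoc, ← mul_assoc] at h'
  have hh' : a * g * a⁻¹ * g⁻¹ = f⁻¹ * α * f * α⁻¹ * f⁻¹ * (f * b⁻¹ * f⁻¹ * b) := by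
    have hfa : a * f⁻¹ * a⁻¹ = f⁻¹ := by
      rw [← (H.fA a H.ha).inv_left.eq, mul_inv_cancel_right]
    calc a * g * a⁻¹ * g⁻¹ = ((a * b⁻¹) * f * (a * b⁻¹)⁻¹) * (a * f⁻¹ * a⁻¹) * g⁻¹ := by rw [hg]; group
      _ = _ := by rw [hu, hfa, hg]; group
  set β := b * α with hβ
  have hk : f * (a * g * a⁻¹ * g⁻¹) = β * (f * β⁻¹ * f⁻¹) := by
    have hm : f * β⁻¹ * f⁻¹ ∈ conjBy B f := conj_mem_conjBy (inv_mem (mul_mem H.hb hαB))
    have h1 : Commute b (f * β⁻¹ * f⁻¹) := H.comm_f b H.hb _ hm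
    calc f * (a * g * a⁻¹ * g⁻¹) = α * ((f * β⁻¹ * f⁻¹) * b) := by rw [hh', hβ]; group
      _ = (α * b) * (f * β⁻¹ * f⁻¹) := by rw [← h1.eq, ← mul_assoc]
      _ = _ := by rw [(H.abB α hαB b H.hb).eq, ← hβ]
  by_contra hne
  have hβ1 : β ≠ 1 := fun h => hne (eq_inv_of_mul_eq_one_right h)
  have hβB : β ∈ B := mul_mem H.hb hαB
  have hz : ∀ x ∈ B ⊔ A, (f * β * f⁻¹ * β⁻¹) * x = x * (f * β * f⁻¹ * β⁻¹) := by
    have hzA : ∀ x ∈ A, Commute (f * β * f⁻¹ * β⁻¹) x := fun x hx => by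
      have h := ((H.fA x hx).mul_left (hh x hx)).inv_left
      rw [hk] at h
      rwa [show (β * (f * β⁻¹ * f⁻¹))⁻¹ = f * β * f⁻¹ * β⁻¹ by group] at h
    have hle : B ⊔ A ≤ centralizer {f * β * f⁻¹ * β⁻¹} := sup_le
      (fun x hx => mem_centralizer_singleton_iff.mpr (H.centralizes H.comm_f hβB x hx).eq.symm)
      (fun x hx => mem_centralizer_singleton_iff.mpr (hzA x hx).eq.symm)
    exact fun x hx => (mem_centralizer_singleton_iff.mp (hle hx)).symm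
  have := root_shift H.root H.memB H.memA (RankOnePair_symm H.pairA) hz hβB hβ1
    (H.root.conj_mem B H.memB f) (by
      rw [inv_mul_cancel_right]
      exact conj_mem_conjBy hβB)
  exact H.moved this.2

theorem move_a : (b⁻¹ * (a⁻¹ * c) * b * (a⁻¹ * c)⁻¹) * a * (b⁻¹ * (a⁻¹ * c) * b * (a⁻¹ * c)⁻¹)⁻¹ = c := by
  set f := a⁻¹ * c with hf
  have hu : (a * b⁻¹) * f * (a * b⁻¹)⁻¹ = b * (f⁻¹ * b⁻¹ * f) := by
    rw [H.swap_f, ← H.alpha_eq_gamma, H.alpha_eq, inv_inv]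
  have hfa : a * f⁻¹ * a⁻¹ = f⁻¹ := by
    rw [← (H.fA a H.ha).inv_left.eq, mul_inv_cancel_right]
  have hcm : Commute b (f⁻¹ * b⁻¹ * f) :=
    H.comm_inv _ H.hb _ (inv_conj_mem_conjBy (inv_mem H.hb))
  have hh : a * (b⁻¹ * f * b * f⁻¹) * a⁻¹ * (b⁻¹ * f * b * f⁻¹)⁻¹ = f⁻¹ := by
    calc _ = ((a * b⁻¹) * f * (a * b⁻¹)⁻¹) * (a * f⁻¹ * a⁻¹) * (b⁻¹ * f * b * f⁻¹)⁻¹ := by group
      _ = (f⁻¹ * b⁻¹ * f * b) * f⁻¹ * (b⁻¹ * f * b * f⁻¹)⁻¹ := by rw [hu, hfa, hcm.eq]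
      _ = f⁻¹ := by group
  set g := b⁻¹ * f * b * f⁻¹
  calc g * a * g⁻¹ = (a⁻¹ * (a * g * a⁻¹ * g⁻¹))⁻¹ := by group
    _ = f * a := by rw [hh, mul_inv_rev, inv_inv, inv_inv]
    _ = c := by rw [hf, H.f_eq, inv_mul_cancel_right]

end CommonPartner

/-- A pair is special as soon as some member commuting with one end is a partner of the other. -/
theorem special_of_commuting (hS : IsRootSubgroupSet S) (hA : A ∈ S) (hB : B ∈ S) (hC : C ∈ S)
    (hAB : IsRankOnePair A B) (hCB : IsRankOnePair C B) (hne : A ≠ C) (hAC : ElemComm A C) :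
    IsSpecialRankOnePair A B := by
  refine ⟨hAB, fun a ha ha1 b hb hb1 he => ?_⟩
  obtain ⟨c, hc, -, hce⟩ := hCB.cond_right b hb hb1
  have H : CommonPartner S A C B b a c :=
    ⟨hS, hA, hB, hC, hAB, hCB, hne, hAC, hb, hb1, ha, ha1, hc, he, hce.symm⟩
  have h := H.alpha_eq
  calc b⁻¹ * a * b = a⁻¹ * (a * b⁻¹ * a * b * a⁻¹) * a := by group
    _ = a⁻¹ * b⁻¹ * a := by rw [h]

end Cfsg.Lib.RootSub
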