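import Cfsg.Agent.RootSub.NondegGeneration

/-!
# Comparing the commuting members and the rank one partners of two members
-/

set_option autoImplicit false
set_option linter.unusedSectionVars false
set_option linter.unusedVariables false
set_option linter.style.haveILetI false

open Subgroup
open Cfsg

namespace Cfsg.Lib.RootSub

open scoped commutatorElement

variable {G : Type*} [Group G] {S : Set (Subgroup G)} {A B C P M : Subgroup G}

/-- Commuting `A`, `B` with `P` a partner of `A` in the commutator case with `B`: the member `⁅A, ⁅B, P⁆⁆` differs from `B`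
only by elements centralising `⟨A, P⟩`. -/
theorem shadow (hS : IsRootSubgroupSet S) (hA : A ∈ S) (hP : P ∈ S) (hAP : IsRankOnePair A P)
    (hB : B ∈ S) (hAB : ∀ a ∈ A, ∀ b ∈ B, a * b = b * a) (hF : ⁅B, P⁆ ∈ S) :
    ⁅A, ⁅B, P⁆⁆ ∈ S ∧ ∃ e ∈ ⁅A, ⁅B, P⁆⁆, e ≠ 1 ∧
      ∃ b ∈ B, ∀ x ∈ A ⊔ P, (e⁻¹ * b) * x = x * (e⁻¹ * b) := by
  obtain ⟨-, hcen, hgenB, hgenP⟩ := commutator_case hS hB hP hF
  have hPB : ⁅P, B⁆ ∈ S := by rw [Subgroup.commutator_comm]; exact hF
  set F := ⁅B, P⁆ with hFdef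
  have hFB : ∀ f ∈ F, ∀ b ∈ B, Commute f b := fun f hf b hb => hcen f hf b (mem_sup_left hb)
  have hFP : ∀ f ∈ F, ∀ p ∈ P, Commute f p := fun f hf p hp => hcen f hf p (mem_sup_right hp)
  have hPBF : ⁅P, B⁆ = F := Subgroup.commutator_comm P B
  -- the partner data
  obtain ⟨p, hp, hp1⟩ := exists_ne_one (RankOnePair_symm hAP)
  obtain ⟨a, ha, ha1, he⟩ := hAP.cond_right p hp hp1
  set g := p * a⁻¹ with hg
  have hgP : conjBy P g = A := by
    rw [hg, ← conjBy_conjBy, he, conjBy_conjBy, mul_inv_cancel, conjBy_one]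
  have hgB : conjBy B g = conjBy B p := by
    rw [hg, ← conjBy_conjBy]
    congr 1
    exact conjBy_eq_self_iff.mpr (Subgroup.centralizer_le_normalizer _
      (mem_centralizer_iff.mpr fun b hb => (hAB a⁻¹ (inv_mem ha) b hb).symm))
  have hmap : ⁅A, conjBy B p⁆ = conjBy F g := by
    rw [← hgB, ← hgP, hFdef, Subgroup.commutator_comm B P]
    exact (Subgroup.map_commutator _ _ _).symm
  have hsurj : ∀ f ∈ F, ∃ b ∈ B, ⁅p, b⁆ = f := fun f hf => by
    obtain ⟨b, hb⟩ := commHom_surjective hS hP hB hPB (a := ⟨p, hp⟩) hp1 ⟨f, hPBF.symm ▸ hf⟩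
    exact ⟨b, b.2, congrArg Subtype.val hb⟩
  have hpb : ∀ b ∈ B, ⁅p, b⁆ ∈ F := fun b hb => hPBF ▸ Subgroup.commutator_mem_commutator hp hb
  have hcomb : ∀ a' ∈ A, ∀ b ∈ B, ∀ f ∈ F, ⁅a', f * b⁆ = ⁅a', f⁆ := by
    intro a' ha' b hb f hf
    have h1 : b * a'⁻¹ = a'⁻¹ * b := (hAB a'⁻¹ (inv_mem ha') b hb).symm
    rw [commutatorElement_def, commutatorElement_def, mul_inv_rev,
      show a' * (f * b) * a'⁻¹ * (b⁻¹ * f⁻¹) = a' * f * (b * a'⁻¹) * b⁻¹ * f⁻¹ by group, h1]
    group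
  have hEeq : ⁅A, F⁆ = conjBy F g := by
    rw [← hmap]
    refine le_antisymm ?_ ?_
    · rw [Subgroup.commutator_le]
      intro a' ha' f hf
      obtain ⟨b, hb, rfl⟩ := hsurj f hf
      have hmem : ⁅p, b⁆ * b ∈ conjBy B p := by
        rw [commutatorElement_def, mem_conjBy]
        simpa [mul_assoc] using hb
      rw [← hcomb a' ha' b hb _ (hpb b hb)]
      exact Subgroup.commutator_mem_commutator ha' hmem
    · rw [Subgroup.commutator_le]
      intro a' ha' y hy
      rw [mem_conjBy] at hy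
      have e : y = ⁅p, p⁻¹ * y * p⁆ * (p⁻¹ * y * p) := by rw [commutatorElement_def]; group
      rw [e, hcomb a' ha' _ hy _ (hpb _ hy)]
      exact Subgroup.commutator_mem_commutator ha' (hpb _ hy)
  have hES : ⁅A, F⁆ ∈ S := hEeq ▸ hS.conj_mem F hF g
  obtain ⟨-, hcenE, -, -⟩ := commutator_case hS hA hF hES
  set E := ⁅A, F⁆ with hEdef
  have hEA : ∀ x ∈ E, ∀ y ∈ A, Commute x y := fun x hx y hy => hcenE x hx y (mem_sup_left hy)
  have hEF : ∀ x ∈ E, ∀ y ∈ F, Commute x y := fun x hx y hy => hcenE x hx y (mem_sup_right hy)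
  have hES' : ⁅A, conjBy B p⁆ ∈ S := hmap ▸ hS.conj_mem F hF g
  have hEB : ∀ x ∈ E, ∀ y ∈ B, Commute x y := by
    intro x hx y hy
    have hx' : x ∈ ⁅A, conjBy B p⁆ := by rw [hmap, ← hEeq]; exact hx
    have hmem : ⁅p, y⁆ * y ∈ conjBy B p := by rw [commutatorElement_def, mem_conjBy]; simpa [mul_assoc] using hy
    have h1 : Commute x (⁅p, y⁆ * y) := (commutator_case hS hA (hS.conj_mem B hB p) hES').2.1 x hx' _ (mem_sup_right hmem)
    have h2 := (hEF x hx _ (hpb y hy)).inv_right.mul_right h1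
    rwa [inv_mul_cancel_left] at h2
  -- a concrete element
  obtain ⟨f, hf, hf1⟩ := F.bot_or_exists_ne_one.resolve_left (hS.ne_bot F hF)
  set e := ⁅a⁻¹, f⁆ with he'
  have heE : e ∈ E := Subgroup.commutator_mem_commutator (inv_mem ha) hf
  have he1 : e ≠ 1 := fun h => hf1 (congrArg Subtype.val
    ((injective_iff_map_eq_one _).mp (commHom_injective hS hA hP hAP hF hES (a := ⟨a⁻¹, inv_mem ha⟩) (inv_ne_one.mpr ha1))
      ⟨f, hf⟩ (Subtype.ext h)))
  set e₂ := g * f * g⁻¹ with he₂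
  have he₂E : e₂ ∈ E := by rw [hEeq, mem_conjBy]; simpa [he₂, mul_assoc] using hf
  have he₂1 : e₂ ≠ 1 := fun h => hf1 (conj_eq_one_iff.mp h)
  have hpe : p * e * p⁻¹ = e₂ * f⁻¹ := by
    have h1 : p * f * p⁻¹ = f := by rw [← (hFP f hf p hp).eq, mul_inv_cancel_right]
    rw [he₂, hg, he', commutatorElement_def]
    calc p * (a⁻¹ * f * a⁻¹⁻¹ * f⁻¹) * p⁻¹ = (p * a⁻¹) * f * (p * a⁻¹)⁻¹ * (p * f * p⁻¹)⁻¹ := by group
      _ = _ := by rw [h1]
  have hEP : ⁅P, E⁆ ∈ S := by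
    rcases hS.pair P hP E hES with h0 | hr | hc
    · exfalso
      rw [commute_of_bot h0 hp heE, mul_inv_cancel_right] at hpe
      have hfE : f ∈ E := by
        have : f = e⁻¹ * e₂ := by rw [hpe]; simpa using (hEF e₂ he₂E f hf).symm.eq
        rw [this]; exact mul_mem (inv_mem heE) he₂E
      have := hEA f hfE a⁻¹ (inv_mem ha)
      exact he1 (commutatorElement_eq_one_iff_mul_comm.mpr this.symm.eq)
    · exfalso
      have hr' := RankOnePair_symm hr
      have hz : ∀ x ∈ E ⊔ P, f⁻¹ * x = x * f⁻¹ := by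
        intro x hx
        have hle : E ⊔ P ≤ centralizer {f⁻¹} := sup_le
          (fun x hx => mem_centralizer_singleton_iff.mpr (hEF x hx f hf).inv_right.eq)
          (fun x hx => mem_centralizer_singleton_iff.mpr (hFP f hf x hx).inv_left.symm.eq)
        exact (mem_centralizer_singleton_iff.mp (hle hx)).symm
      refine hf1 (inv_eq_one.mp (root_shift hS hES hP hr' hz he₂E he₂1 (hS.conj_mem E hES p) ?_).1)
      rw [← (hEF e₂ he₂E f hf).inv_right.eq, ← hpe, mem_conjBy]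
      simpa [mul_assoc] using heE
    · exact hc.1
  have hee : e₂ = e := by
    have h0 : ⁅p, e⁆ = e₂ * f⁻¹ * e⁻¹ := by rw [commutatorElement_def, hpe]
    have h1 : Commute p (e₂ * f⁻¹ * e⁻¹) := h0 ▸
      ((commutator_case hS hP hES hEP).2.1 _ (Subgroup.commutator_mem_commutator hp heE) p (mem_sup_left hp) :
        Commute ⁅p, e⁆ p).symm
    have h2 : e₂ * f⁻¹ * e⁻¹ = (e₂ * e⁻¹) * f⁻¹ := by
      rw [mul_assoc, ← (hEF e heE f hf).inv_left.inv_right.eq, ← mul_assoc]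
    rw [h2] at h1
    have h3 : Commute p (e₂ * e⁻¹) := by simpa using h1.mul_right (hFP f hf p hp).symm
    exact mul_inv_eq_one.mp (congrArg Subtype.val ((injective_iff_map_eq_one _).mp
      (commHom_injective hS hP hA (RankOnePair_symm hAP) hES hEP (a := ⟨p, hp⟩) hp1)
      ⟨e₂ * e⁻¹, mul_mem he₂E (inv_mem heE)⟩ (Subtype.ext (commutatorElement_eq_one_iff_mul_comm.mpr h3.eq))))
  rw [hee] at hpe
  obtain ⟨b', hb', hpb'⟩ := hsurj f⁻¹ (inv_mem hf)
  have hb'1 : b' ≠ 1 := fun h => hf1 (by rw [h, commutatorElement_one_right] at hpb'; exact inv_eq_one.mp hpb'.symm)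
  set z := e⁻¹ * b' with hzdef
  have hpb'' : p * b' * p⁻¹ = f⁻¹ * b' := by rw [← hpb', commutatorElement_def]; group
  have hzp : z * p = p * z := by
    have h1 : p * z * p⁻¹ = (p * e * p⁻¹)⁻¹ * (p * b' * p⁻¹) := by rw [hzdef]; group
    rw [hpe, hpb'', mul_inv_rev, inv_inv, (hEF e heE f hf).inv_left.symm.eq] at h1
    have h2 : p * z * p⁻¹ = z := by rw [h1, hzdef]; group
    exact (mul_inv_eq_iff_eq_mul.mp h2).symm
  have hzA : ∀ x ∈ A, z * x = x * z := fun x hx =>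
    ((hEA e heE x hx).inv_left.mul_left (hAB x hx b' hb' : Commute x b').symm).eq
  have hzY : ∀ x ∈ A ⊔ P, z * x = x * z := by
    have hne : conjBy A p ≠ A := fun h => hp1 (eq_one_of_normalizes (RankOnePair_symm hAP) hp h)
    have hsup : A ⊔ conjBy A p = A ⊔ P :=
      sup_eq_of_unipotent hAP (left_mem A P) ⟨p, mem_sup_right hp, rfl⟩ hne.symm
    intro x hx
    rw [← hsup] at hx
    have hle : A ⊔ conjBy A p ≤ centralizer {z} := sup_le
      (fun x hx => mem_centralizer_singleton_iff.mpr (hzA x hx).symm)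
      (fun x hx => by
        rw [mem_conjBy] at hx
        have c1 : Commute z p := hzp
        have c2 : Commute z (p⁻¹ * x * p) := hzA _ hx
        have c3 := (c1.mul_right c2).mul_right c1.inv_right
        exact mem_centralizer_singleton_iff.mpr (by simpa [mul_assoc] using c3.symm.eq))
    exact (mem_centralizer_singleton_iff.mp (hle hx)).symm
  exact ⟨hES, e, heE, he1, b', hb', hzY⟩

/-- For a commutator pair a member carrying the commutator subgroup back onto the first member. -/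
theorem exists_opposite (hS : IsRootSubgroupSet S) (hpart : ∀ X ∈ S, ∃ P ∈ S, IsRankOnePair X P)
    (hA : A ∈ S) (hB : B ∈ S) (hF : ⁅A, B⁆ ∈ S) : ∃ D ∈ S, ⁅D, ⁅A, B⁆⁆ = A := by
  obtain ⟨Q, hQ, hAQ⟩ := hpart A hA
  set F := ⁅A, B⁆ with hFdef
  have hc := commutator_case hS hA hB hF
  have hFA : F ≠ A := fun h => by
    obtain ⟨a, ha, ha1⟩ := exists_ne_one hAQ
    apply ha1
    rw [← Subgroup.mem_bot, ← inf_commutator hS hA hQ hAQ hB hF]
    exact ⟨ha, show a ∈ F from h.symm ▸ ha⟩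
  have hcomm : ∀ f ∈ F, ∀ a ∈ A, f * a = a * f := fun f hf a ha => hc.2.1 f hf a (mem_sup_left ha)
  have hlp := line_partition hS hA hQ hAQ hB hF
  have hlm := line_members hS hA hQ hAQ hB hF
  obtain ⟨P₀, hP₀, hFP₀⟩ := hpart F hF
  have hcov : ∀ x ∈ F ⊔ A, x ≠ 1 → ∃ C ∈ S, C ≤ F ⊔ A ∧ x ∈ C := by
    rw [sup_comm F A]
    exact fun x hx hx1 => (hlp.2.1 x hx hx1).elim fun C hC => ⟨C, hC.1.1, hC.1.2, hC.2⟩
  obtain ⟨B₁, hB₁, hB₁le, hB₁F, hB₁P⟩ := exists_exception hS hF hP₀ hFP₀ hA (Ne.symm hFA) hcomm hcov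
  obtain ⟨b, hb, rfl⟩ : ∃ b ∈ B, conjBy A b = B₁ := by
    rcases hlm.le (show B₁ ∈ membersIn S (A ⊔ F) from ⟨hB₁, sup_comm F A ▸ hB₁le⟩) with h | h
    · exact h
    · exact absurd h hB₁F
  have hfix : conjBy F b⁻¹ = F := conjBy_eq_self_iff.mpr (inv_mem (Subgroup.centralizer_le_normalizer _
    (mem_centralizer_iff.mpr fun f hf => hc.2.1 f hf b (mem_sup_right hb))))
  have hP : conjBy P₀ b⁻¹ ∈ S := hS.conj_mem P₀ hP₀ _
  have hFP : IsRankOnePair F (conjBy P₀ b⁻¹) := hfix ▸ conj_pair hFP₀ b⁻¹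
  have hAP : ¬ IsRankOnePair A (conjBy P₀ b⁻¹) := fun h => hB₁P (by
    have := conj_pair h b
    rwa [conjBy_conjBy, mul_inv_cancel, conjBy_one] at this)
  obtain ⟨hK, hFK⟩ := line_commutator hS hF hP hFP hA (Ne.symm hFA) (hpart A hA) hcomm
    (fun x hx hx1 => (hcov x hx hx1).imp fun E h => ⟨h.1, h.2.2⟩) hAP
  exact ⟨_, hK, by rw [Subgroup.commutator_comm]; exact hFK⟩

theorem partners_mono (hS : IsRootSubgroupSet S) (h : rankOnePartners S A ⊆ rankOnePartners S C) (g : G) :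
    rankOnePartners S (conjBy A g) ⊆ rankOnePartners S (conjBy C g) := by
  rintro X ⟨hX, hp⟩
  have hcanc : ∀ E : Subgroup G, conjBy (conjBy E g) g⁻¹ = E := fun E => by
    rw [conjBy_conjBy, inv_mul_cancel, conjBy_one]
  have hp' := conj_pair hp g⁻¹
  rw [hcanc] at hp'
  have h1 := (h ⟨hS.conj_mem X hX g⁻¹, hp'⟩).2
  have h2 := conj_pair h1 g
  rw [conjBy_conjBy, mul_inv_cancel, conjBy_one] at h2
  exact ⟨hX, h2⟩

/-- Inclusion of the rank one partners of a commuting pair is equality. -/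
theorem partners_eq (hS : IsRootSubgroupClass S) (hA : A ∈ S) (hC : C ∈ S)
    (hAC : ∀ a ∈ A, ∀ c ∈ C, a * c = c * a) (hsub : rankOnePartners S A ⊆ rankOnePartners S C) :
    rankOnePartners S A = rankOnePartners S C := by
  have hSS := hS.1
  refine Set.Subset.antisymm hsub ?_
  rintro M hM
  obtain ⟨B, hB, hAB⟩ := class_partners hS hC hM A hA
  obtain ⟨a, ha, ha1⟩ := exists_ne_one hAB
  obtain ⟨b, hb, hb1, he⟩ := hAB.cond_left a ha ha1
  have hCB : IsRankOnePair C B := (hsub ⟨hB, hAB⟩).2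
  obtain ⟨c, hc, hc1, hec⟩ := hCB.cond_right b hb hb1
  set P := conjBy A b⁻¹ with hP
  have hPS : P ∈ S := hSS.conj_mem A hA _
  have hPA : P ≠ A := fun h => hb1 (inv_eq_one.mp (eq_one_of_normalizes (RankOnePair_symm hAB) (inv_mem hb) h))
  have hAP : IsRankOnePair A P :=
    unipotent_pair hAB (left_mem A B) ⟨b⁻¹, mem_sup_right (inv_mem hb), rfl⟩ (Ne.symm hPA)
  have hCP : IsRankOnePair C P := (hsub ⟨hPS, hAP⟩).2
  have hBP : B ≠ P := fun h => ha1 (inv_eq_one.mp (eq_one_of_normalizes hAB (inv_mem ha) (by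
    exact he.symm.trans h.symm)))
  have hsup : A ⊔ P = A ⊔ B :=
    sup_eq_of_unipotent hAB (left_mem A B) ⟨b⁻¹, mem_sup_right (inv_mem hb), rfl⟩ (Ne.symm hPA)
  have hBpt : B ∈ unipotentSubgroups P A := by
    obtain ⟨x, hx, hxe⟩ := right_mem hAB
    obtain ⟨y, hy, hye⟩ := right_mem (RankOnePair_symm hAP)
    have hx' : x * y ∈ P ⊔ A := mul_mem (sup_comm P A ▸ hsup.symm ▸ hx) hy
    exact ⟨x * y, hx', by rw [hxe, hye, conjBy_conjBy]⟩
  obtain ⟨p, hp, hpe⟩ := (mem_union_of_unipotent (RankOnePair_symm hAP) hBpt).resolve_left hBP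
  -- two points of `⟨C, P⟩` commuting with `B`
  set N := conjBy P c with hN
  have hNB : ∀ x ∈ N, ∀ y ∈ B, x * y = y * x := by
    intro x hx y hy
    rw [hN, hP, conjBy_conjBy, mem_conjBy] at hx
    have hy' : (c * b⁻¹)⁻¹ * y * (c * b⁻¹) ∈ C := by
      rw [← mem_conjBy, ← conjBy_conjBy, ← hec, conjBy_conjBy, mul_inv_cancel, conjBy_one]
      exact hy
    have h1 := hAC _ hx _ hy'
    calc x * y = (c * b⁻¹) * (((c * b⁻¹)⁻¹ * x * (c * b⁻¹)) * ((c * b⁻¹)⁻¹ * y * (c * b⁻¹))) * (c * b⁻¹)⁻¹ := by group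
      _ = (c * b⁻¹) * (((c * b⁻¹)⁻¹ * y * (c * b⁻¹)) * ((c * b⁻¹)⁻¹ * x * (c * b⁻¹))) * (c * b⁻¹)⁻¹ := by rw [h1]
      _ = y * x := by group
  have hCpB : ∀ x ∈ conjBy C p, ∀ y ∈ B, x * y = y * x := by
    intro x hx y hy
    rw [mem_conjBy] at hx
    rw [hpe, mem_conjBy] at hy
    have h1 := (hAC _ hy _ hx).symm
    calc x * y = p * ((p⁻¹ * x * p) * (p⁻¹ * y * p)) * p⁻¹ := by group
      _ = p * ((p⁻¹ * y * p) * (p⁻¹ * x * p)) * p⁻¹ := by rw [h1]
      _ = y * x := by group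
  have hNC : N = conjBy C p := by
    by_contra hne
    have hsup' := sup_eq_of_unipotent hCP (C := N) (D := conjBy C p)
      (unipotent_conj (mem_sup_left hc) (right_mem hCP)) ⟨p, mem_sup_right hp, rfl⟩ hne
    refine hb1 (eq_one_of_normalizes (RankOnePair_symm hCB) hb (conjBy_eq_self_iff.mpr
      (Subgroup.centralizer_le_normalizer _ (mem_centralizer_iff.mpr fun x hx => ?_))))
    have hle : N ⊔ conjBy C p ≤ centralizer {b} := sup_le
      (fun x hx => mem_centralizer_singleton_iff.mpr (hNB x hx b hb))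
      (fun x hx => mem_centralizer_singleton_iff.mpr (hCpB x hx b hb))
    exact mem_centralizer_singleton_iff.mp (hle (hsup' ▸ mem_sup_left hx))
  have h1 : rankOnePartners S P ⊆ rankOnePartners S (conjBy C b⁻¹) := hP ▸ partners_mono hSS hsub b⁻¹
  have h2 := partners_mono hSS h1 c
  rw [← hN, hNC, ← hec, conjBy_conjBy, mul_inv_cancel, conjBy_one] at h2
  have h3 := partners_mono hSS h2 p⁻¹
  rw [hpe, conjBy_conjBy, conjBy_conjBy, inv_mul_cancel, conjBy_one, conjBy_one] at h3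
  exact h3 hM

theorem commute_of_partners (hS : IsRootSubgroupClass S) (hdn : IsDegenerateRootSet S ∨ IsNondegenerateRootSet S)
    (hA : A ∈ S) (hC : C ∈ S) (hsub : rankOnePartners S A ⊆ rankOnePartners S C) : ⁅A, C⁆ = ⊥ := by
  have hSS := hS.1
  rcases hSS.pair A hA C hC with h0 | hr | hc
  · exact h0
  · exact absurd rfl (hsub ⟨hC, hr⟩).2.ne
  exfalso
  rcases hdn with hd | hnd
  · exact hd A hA C hC hc
  obtain ⟨-, ⟨A₀, hA₀, B₀, hB₀, hp₀⟩, -⟩ := id hnd
  have hpart := class_partners hS hA₀ ⟨hB₀, hp₀⟩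
  set F := ⁅A, C⁆ with hFdef
  obtain ⟨Q, hQ, hCQ⟩ := hpart C hC
  have hF' : ⁅C, A⁆ ∈ S := by rw [Subgroup.commutator_comm]; exact hc.1
  obtain ⟨D, hD, hDF⟩ := exists_opposite hSS hpart hC hA hF'
  obtain ⟨hAD, -⟩ := line_group hSS hC hA hF' hD hDF
  have hCD := (hsub ⟨hD, hAD⟩).2
  refine not_commutator_bot hCD ?_
  rw [Subgroup.commutator_eq_bot_iff_le_centralizer]
  intro x hx
  rw [mem_centralizer_iff]
  intro y hy
  have hD' : ⁅D, ⁅C, A⁆⁆ ∈ S := hDF.symm ▸ hC
  exact ((commutator_case hSS hD hF' hD').2.1 x (hDF.symm ▸ hx) y (mem_sup_left hy)).symm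

theorem mem_centralizingMembers_iff {X : Subgroup G} :
    X ∈ centralizingMembers S A ↔ X ∈ S ∧ ∀ a ∈ A, ∀ x ∈ X, a * x = x * a := by
  refine and_congr_right fun _ => ⟨fun h a ha x hx => ?_, fun h x hx => ?_⟩
  · exact mem_centralizer_iff.mp (h hx) a ha
  · exact mem_centralizer_iff.mpr fun a ha => h a ha x hx

/-- No partner of `A` is in the commutator case with a member below it in the commuting order. -/
theorem partner_not_commutator (hS : IsRootSubgroupClass S) (hnd : IsNondegenerateRootSet S) (hA : A ∈ S) (hC : C ∈ S)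
    (hsub : ∀ X ∈ S, (∀ a ∈ A, ∀ x ∈ X, a * x = x * a) → ∀ c ∈ C, ∀ x ∈ X, c * x = x * c)
    (hB : B ∈ S) (hAB : IsRankOnePair A B) (hK : ⁅C, B⁆ ∈ S) : False := by
  have hSS := hS.1
  have hpart := class_partners hS hA ⟨hB, hAB⟩
  have hAC : ∀ a ∈ A, ∀ c ∈ C, a * c = c * a := fun a ha c hc =>
    (hsub A hA (fun x hx y hy => abelian_comm hSS hA hx hy) c hc a ha).symm
  obtain ⟨hES, e, heE, he1, c, hc, hz⟩ := shadow hSS hA hB hAB hC hAC hK
  set E := ⁅A, ⁅C, B⁆⁆ with hEdef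
  have hcE := commutator_case hSS hA hK hES
  obtain ⟨Q, hQ, hEQ⟩ := hpart E hES
  have hAE : ∀ a ∈ A, ∀ x ∈ E, a * x = x * a := fun a ha x hx => (hcE.2.1 x hx a (mem_sup_left ha)).symm
  -- a member `K₁` with `⁅E, K₁⁆ = A` commuting with `A`
  obtain ⟨P, hP, hAP, hEP⟩ : ∃ D ∈ S, ⁅D, ⁅A, ⁅C, B⁆⁆⁆ = A ∧ True := by
    obtain ⟨D, hD, h⟩ := exists_opposite hSS hpart hA hK hES
    exact ⟨D, hD, h, trivial⟩
  rw [← hEdef] at hAP
  have hPE : ⁅P, E⁆ ∈ S := hAP.symm ▸ hA
  have hcP := commutator_case hSS hP hES hPE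
  have hAP' : ∀ a ∈ A, ∀ x ∈ P, a * x = x * a := fun a ha x hx =>
    hcP.2.1 a (hAP.symm ▸ ha) x (mem_sup_left hx)
  obtain ⟨R, hR, hPR⟩ := hpart P hP
  have hlp := line_partition hSS hP hR hPR hES hPE
  rw [hAP] at hlp
  have hlinf := inf_commutator hSS hP hR hPR hES hPE
  rw [hAP] at hlinf
  have hPA : P ≠ A := fun h => by
    obtain ⟨x, hx, hx1⟩ := exists_ne_one hPR
    exact hx1 (by rw [← Subgroup.mem_bot, ← hlinf]; exact ⟨hx, h ▸ hx⟩)
  have hcov : ∀ x ∈ A ⊔ P, x ≠ 1 → ∃ C ∈ S, C ≤ A ⊔ P ∧ x ∈ C := by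
    rw [sup_comm A P]
    exact fun x hx hx1 => (hlp.2.1 x hx hx1).elim fun C hC => ⟨C, hC.1.1, hC.1.2, hC.2⟩
  obtain ⟨M, hM, hMle, hMA, hMB⟩ := exists_exception hSS hA hB hAB hP hPA hAP' hcov
  have hMAbot : ∀ x, x ∈ A → x ∈ M → x = 1 := fun x hx hx' => by
    rw [← Subgroup.mem_bot, ← (inf_bot_or_eq hSS hA hB hAB hM).resolve_right (Ne.symm hMA)]
    exact ⟨hx, hx'⟩
  have habel : ∀ a ∈ A, ∀ x ∈ A ⊔ P, a * x = x * a := by
    intro a ha x hx
    have hle : A ⊔ P ≤ centralizer {a} := sup_le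
      (fun y hy => mem_centralizer_singleton_iff.mpr (abelian_comm hSS hA hy ha))
      (fun y hy => mem_centralizer_singleton_iff.mpr (hAP' a ha y hy).symm)
    exact (mem_centralizer_singleton_iff.mp (hle hx)).symm
  obtain ⟨Q₀, hQ₀, hMQ⟩ := hpart M hM
  obtain ⟨m, hm, hm1⟩ := exists_ne_one hMQ
  have hm' := hMle hm
  have hn : P ≤ normalizer (A : Set G) := fun x hx => Subgroup.centralizer_le_normalizer _
    (mem_centralizer_iff.mpr fun a ha => hAP' a ha x hx)
  rw [← SetLike.mem_coe, Subgroup.coe_mul_of_right_le_normalizer_left _ _ hn] at hm'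
  obtain ⟨a, ha, k, hk, rfl⟩ := hm'
  have hk1 : k ≠ 1 := fun h => hm1 (hMAbot _ (by subst h; simpa using ha) hm)
  set α := e⁻¹ * k * e * k⁻¹ with hα
  have hαA : α ∈ A := by
    have := Subgroup.commutator_mem_commutator hk (inv_mem heE)
    rw [hAP] at this
    have h2 := inv_mem this
    rw [commutatorElement_inv, commutatorElement_def, inv_inv] at h2
    exact h2
  have hα1 : α ≠ 1 := by
    intro h
    have hcomm : k * e = e * k := by
      rw [hα, mul_inv_eq_one, mul_assoc, inv_mul_eq_iff_eq_mul] at h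
      exact h
    have := (injective_iff_map_eq_one _).mp (commHom_injective hSS hP hR hPR hES hPE (a := ⟨k, hk⟩) hk1) ⟨e, heE⟩
      (Subtype.ext (commutatorElement_eq_one_iff_mul_comm.mpr hcomm))
    exact he1 (congrArg Subtype.val this)
  have hCm : ∀ x ∈ M, c * x = x * c := hsub M hM (fun a' ha' x hx => habel a' ha' x (hMle hx)) c hc
  -- conjugation by `z` fixes `A` and `B`
  set z := e⁻¹ * c with hzdef
  have hfix : ∀ X : Subgroup G, X ≤ A ⊔ B → conjBy X z = X := fun X hX => conjBy_eq_self_iff.mpr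
    (Subgroup.centralizer_le_normalizer _ (mem_centralizer_iff.mpr fun x hx => (hz x (hX hx)).symm))
  have hM' : ¬ IsRankOnePair (conjBy M z) B := fun h => hMB (by
    have := conj_pair h z⁻¹
    rwa [conjBy_conjBy, inv_mul_cancel, conjBy_one, ← hfix B le_sup_right, conjBy_conjBy, inv_mul_cancel, conjBy_one] at this)
  have hmz : z * (a * k) * z⁻¹ = α * (a * k) := by
    have hec : e⁻¹ * a = a * e⁻¹ := ((show Commute a e from hAE a ha e heE).inv_right).eq.symm
    calc z * (a * k) * z⁻¹ = e⁻¹ * (c * (a * k) * c⁻¹) * e := by rw [hzdef]; group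
      _ = e⁻¹ * (a * k) * e := by rw [hCm _ hm, mul_inv_cancel_right]
      _ = (e⁻¹ * a) * k * e := by group
      _ = a * (e⁻¹ * k * e) := by rw [hec]; group
      _ = a * (α * k) := by rw [hα, inv_mul_cancel_right]
      _ = (a * α) * k := by group
      _ = (α * a) * k := by rw [abelian_comm hSS hA ha hαA]
      _ = α * (a * k) := mul_assoc _ _ _
  refine hM' (pair_of_product hSS hA hB hAB hM (fun a' ha' x hx => habel a' ha' x (hMle hx)) hMB
    (hSS.conj_mem M hM z) hαA hα1 hm ?_)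
  rw [← hmz, mem_conjBy]
  simpa [mul_assoc] using hm

theorem centralizing_eq (hS : IsRootSubgroupClass S) (hdn : IsDegenerateRootSet S ∨ IsNondegenerateRootSet S)
    (hA : A ∈ S) (hC : C ∈ S) (hsub : centralizingMembers S A ⊆ centralizingMembers S C) :
    centralizingMembers S A = centralizingMembers S C := by
  have hSS := hS.1
  have hsub' : ∀ X ∈ S, (∀ a ∈ A, ∀ x ∈ X, a * x = x * a) → ∀ c ∈ C, ∀ x ∈ X, c * x = x * c := fun X hX h =>
    (mem_centralizingMembers_iff.mp (hsub (mem_centralizingMembers_iff.mpr ⟨hX, h⟩))).2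
  have hAC : ∀ a ∈ A, ∀ c ∈ C, a * c = c * a := fun a ha c hc =>
    (hsub' A hA (fun x hx y hy => abelian_comm hSS hA hx hy) c hc a ha).symm
  have hbot : ∀ X Y : Subgroup G, (∀ x ∈ X, ∀ y ∈ Y, x * y = y * x) → ⁅X, Y⁆ = ⊥ := fun X Y h => by
    rw [Subgroup.commutator_eq_bot_iff_le_centralizer]
    exact fun x hx => mem_centralizer_iff.mpr fun y hy => (h x hx y hy).symm
  refine Set.Subset.antisymm hsub fun M hM => ?_
  obtain ⟨hMS, hMC⟩ := mem_centralizingMembers_iff.mp hM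
  rw [mem_centralizingMembers_iff]
  refine ⟨hMS, ?_⟩
  rcases hdn with hd | hnd
  · -- without the commutator case the two orders agree
    have hsub2 : rankOnePartners S C ⊆ rankOnePartners S A := by
      rintro X ⟨hX, hp⟩
      rcases hSS.pair A hA X hX with h0 | hr | hc
      · exfalso
        exact not_commutator_bot hp (hbot C X fun c hc x hx =>
          hsub' X hX (fun a ha x hx => commute_of_bot h0 ha hx) c hc x hx)
      · exact ⟨hX, hr⟩
      · exact absurd hc (hd A hA X hX)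
    rcases hSS.pair A hA M hMS with h0 | hr | hc
    · exact fun a ha x hx => commute_of_bot h0 ha hx
    · exfalso
      have h := partners_eq hS hC hA (fun c hc a ha => (hAC a ha c hc).symm) hsub2
      have := (h.symm.le (show M ∈ rankOnePartners S A from ⟨hMS, hr⟩)).2
      exact not_commutator_bot this (hbot C M hMC)
    · exact absurd hc (hd A hA M hMS)
  obtain ⟨-, ⟨A₀, hA₀, B₀, hB₀, hp₀⟩, -⟩ := id hnd
  have hpart := class_partners hS hA₀ ⟨hB₀, hp₀⟩
  have hsub2 : rankOnePartners S A ⊆ rankOnePartners S C := by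
    rintro X ⟨hX, hp⟩
    rcases hSS.pair C hC X hX with h0 | hr | hc
    · exfalso
      -- then `C` would be central
      have hle : (⊤ : Subgroup G) ≤ centralizer (C : Set G) := by
        rw [← generated_by_lines hS hnd hA ⟨hX, hp⟩]
        refine sup_le (iSup₂_le fun L hL => fun x hx => ?_) fun x hx => ?_
        · exact mem_centralizer_iff.mpr fun c hc => hsub' L hL.1.1 (fun a ha y hy => commute_of_bot hL.1.2.2 ha hy) c hc x hx
        · exact mem_centralizer_iff.mpr fun c hc => commute_of_bot h0 hc hx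
      obtain ⟨Q, hQ, hCQ⟩ := hpart C hC
      exact not_commutator_bot hCQ (hbot C Q fun c hc y hy => mem_centralizer_iff.mp (hle (mem_top y)) c hc)
    · exact ⟨hX, hr⟩
    · exact (partner_not_commutator hS hnd hA hC hsub' hX hp hc.1).elim
  have heq := partners_eq hS hA hC hAC hsub2
  rcases hSS.pair A hA M hMS with h0 | hr | hc
  · exact fun a ha x hx => commute_of_bot h0 ha hx
  · exact absurd (hbot C M hMC) (not_commutator_bot (hsub2 ⟨hMS, hr⟩).2)
  exfalso
  set F := ⁅A, M⁆ with hFdef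
  obtain ⟨D, hD, hDF⟩ := exists_opposite hSS hpart hA hMS hc.1
  obtain ⟨hMD, horb, -, -, -, -⟩ := line_group hSS hA hMS hc.1 hD hDF
  have hDF' : ⁅D, F⁆ ∈ S := hDF.symm ▸ hA
  have hDA : ∀ a ∈ A, ∀ d ∈ D, a * d = d * a := fun a ha d hd =>
    (commutator_case hSS hD hc.1 hDF').2.1 a (hDF.symm ▸ ha) d (mem_sup_left hd)
  obtain ⟨x, hx, hxe⟩ : F ∈ {E | ∃ x ∈ M ⊔ D, E = conjBy A x} := horb.ge ⟨1, one_mem _, conjBy_one.symm⟩
  have hxC : conjBy C x = C := by
    refine conjBy_eq_self_iff.mpr (Subgroup.centralizer_le_normalizer _ ?_)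
    refine (sup_le (fun y hy => ?_) (fun y hy => ?_) : M ⊔ D ≤ centralizer (C : Set G)) hx
    · exact mem_centralizer_iff.mpr fun c hc => hMC c hc y hy
    · exact mem_centralizer_iff.mpr fun c hc => hsub' D hD hDA c hc y hy
  have h1 := partners_mono hSS hsub2 x
  have h2 := partners_mono hSS heq.ge x
  rw [← hxe, hxC] at h1 h2
  have hFA : rankOnePartners S F = rankOnePartners S A := (Set.Subset.antisymm h1 h2).trans heq.symm
  -- a partner of `F` which is not one of `A`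
  have hFM : ⁅M, A⁆ ∈ S := by rw [Subgroup.commutator_comm]; exact hc.1
  obtain ⟨D', hD', hD'F⟩ := exists_opposite hSS hpart hMS hA hFM
  obtain ⟨hAD', -⟩ := line_group hSS hMS hA hFM hD' hD'F
  have h3 := (hFA.ge (show D' ∈ rankOnePartners S A from ⟨hD', hAD'⟩)).2
  refine commutator_notMem_of_pair hSS hD' hc.1 (RankOnePair_symm h3) ?_
  rw [Subgroup.commutator_comm A M, hD'F]
  exact hMS

end Cfsg.Lib.RootSub
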