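import Cfsg.Agent.RootSub.Basic

/-!
# Invariant families of subgroups any two of which generate a unipotent group
-/

set_option autoImplicit false
set_option linter.unusedSectionVars false
set_option linter.unusedVariables false
set_option linter.style.haveILetI false

open Subgroup
open Cfsg

namespace Cfsg.Lib.RootSub

section Unipotent

variable {k : Type*} [Field k] {M : Type*} [AddCommGroup M] [Module k M]

local notation "GL" => LinearMap.GeneralLinearGroup k M
local notation "E" => (M →ₗ[k] M)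

/-- The span of the displacements of a subgroup. -/
def dSpan (H : Subgroup GL) : Submodule k E :=
  Submodule.span k {e | ∃ g ∈ H, e = (g : E) - 1}

theorem sub_one_mem_dSpan {H : Subgroup GL} {g : GL} (hg : g ∈ H) : (g : E) - 1 ∈ dSpan H :=
  Submodule.subset_span ⟨g, hg, rfl⟩

theorem dSpan_mono {H K : Subgroup GL} (h : H ≤ K) : dSpan H ≤ dSpan K :=
  Submodule.span_mono fun _ ⟨g, hg, he⟩ => ⟨g, h hg, he⟩

theorem units_mul_sub (g h : GL) :
    ((g * h : GL) : E) - 1 = ((g : E) - 1) + ((h : E) - 1) + ((g : E) - 1) * ((h : E) - 1) := by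
  simp only [Units.val_mul, sub_mul, mul_sub, one_mul, mul_one]
  abel

theorem dSpan_mul (H : Subgroup GL) : ∀ x ∈ dSpan H, ∀ y ∈ dSpan H, x * y ∈ dSpan H := by
  intro x hx y hy
  induction hx using Submodule.span_induction with
  | mem x hx =>
    induction hy using Submodule.span_induction with
    | mem y hy =>
      obtain ⟨g, hg, rfl⟩ := hx
      obtain ⟨h, hh, rfl⟩ := hy
      rw [show ((g : E) - 1) * ((h : E) - 1) = ((g * h : GL) : E) - 1 - ((g : E) - 1) - ((h : E) - 1) by
        rw [units_mul_sub]; abel]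
      exact sub_mem (sub_mem (sub_one_mem_dSpan (mul_mem hg hh)) (sub_one_mem_dSpan hg)) (sub_one_mem_dSpan hh)
    | zero => simp
    | add y z _ _ hy hz => rw [mul_add]; exact add_mem hy hz
    | smul c y _ hy => rw [mul_smul_comm]; exact Submodule.smul_mem _ c hy
  | zero => simp
  | add y z _ _ hy hz => rw [add_mul]; exact add_mem hy hz
  | smul c y _ hy => rw [smul_mul_assoc]; exact Submodule.smul_mem _ c hy

/-- Products of `n` elements of `J` vanish. -/
def IsNull (J : Submodule k E) (n : ℕ) : Prop := ∀ l : List E, (∀ x ∈ l, x ∈ J) → n ≤ l.length → l.prod = 0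

theorem unip_list (l : List GL) :
    (List.map (fun g : E => g - 1) (do let a ← l; pure (a : E))) = l.map fun g : GL => (g : E) - 1 := by
  induction l with
  | nil => simp
  | cons a l ih => simp [List.flatMap_cons] at ih ⊢; exact ih

theorem isNull_of_unipotent {H : Subgroup GL} (h : IsUnipotentOn H) : ∃ n, IsNull (dSpan H) n := by
  obtain ⟨n, hn⟩ := h
  refine ⟨n, ?_⟩
  simp only [unip_list] at hn
  have key : ∀ l : List E, (∀ x ∈ l, x ∈ dSpan H) → ∀ P : List GL, (∀ g ∈ P, g ∈ H) → P.length + l.length = n →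
      (P.map fun g : GL => (g : E) - 1).prod * l.prod = 0 := by
    intro l
    induction l with
    | nil => intro _ P hP hlen; rw [hn P hP (by simpa using hlen), zero_mul]
    | cons x l ih =>
      intro hl P hP hlen
      have hx := hl x (List.mem_cons_self ..)
      rw [List.prod_cons, ← mul_assoc]
      induction hx using Submodule.span_induction with
      | mem x hx =>
        obtain ⟨g, hg, rfl⟩ := hx
        have := ih (fun y hy => hl y (List.mem_cons_of_mem _ hy)) (P ++ [g])
          (by simpa [or_imp, forall_and] using ⟨hP, hg⟩) (by simp at hlen ⊢; omega)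
        simpa using this
      | zero => simp
      | add y z _ _ hy hz =>
        rw [mul_add, add_mul, hy (by simpa [or_imp, forall_and] using ⟨by assumption, fun w hw => hl w (List.mem_cons_of_mem _ hw)⟩) (by simpa using hlen),
          hz (by simpa [or_imp, forall_and] using ⟨by assumption, fun w hw => hl w (List.mem_cons_of_mem _ hw)⟩) (by simpa using hlen), add_zero]
      | smul c y _ hy =>
        rw [mul_smul_comm, smul_mul_assoc, hy (by simpa [or_imp, forall_and] using ⟨by assumption, fun w hw => hl w (List.mem_cons_of_mem _ hw)⟩) (by simpa using hlen), smul_zero]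
  intro l hl hlen
  have h1 := key (l.take n) (fun x hx => hl x (List.mem_of_mem_take hx)) [] (by simp) (by simp [hlen])
  rw [← List.take_append_drop n l, List.prod_append]
  simp only [List.map_nil, List.prod_nil, one_mul] at h1
  rw [h1, zero_mul]

theorem isUnipotentOn_of_null {H : Subgroup GL} {J : Submodule k E} {n : ℕ} (hJ : IsNull J n)
    (h : ∀ g ∈ H, (g : E) - 1 ∈ J) : IsUnipotentOn H := by
  refine ⟨n, fun l hl hlen => ?_⟩
  rw [unip_list]
  refine hJ _ ?_ (by simp [hlen])
  intro x hx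
  obtain ⟨g, hg, rfl⟩ := List.mem_map.mp hx
  exact h g (hl g hg)

/-- The powers of the span of the displacements. -/
def pw (H : Subgroup GL) : ℕ → Submodule k E
  | 0 => dSpan H
  | j + 1 => pw H j * dSpan H

theorem pw_succ_le (H : Subgroup GL) (j : ℕ) : pw H (j + 1) ≤ pw H j := by
  induction j with
  | zero => exact Submodule.mul_le.mpr (dSpan_mul H)
  | succ j ih => exact mul_le_mul' ih le_rfl

theorem dSpan_mul_pw (H : Subgroup GL) (j : ℕ) : dSpan H * pw H j ≤ pw H (j + 1) := by
  induction j with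
  | zero => exact le_rfl
  | succ j ih =>
    show dSpan H * (pw H j * dSpan H) ≤ _
    rw [← mul_assoc]
    exact mul_le_mul' ih le_rfl

theorem pw_null (H : Subgroup GL) {n : ℕ} (hn : IsNull (dSpan H) n) : ∀ j, ∀ x ∈ pw H j, n ≤ j + 1 → x = 0 := by
  have key : ∀ j, ∀ x ∈ pw H j, ∀ l : List E, (∀ y ∈ l, y ∈ dSpan H) → n ≤ j + 1 + l.length → x * l.prod = 0 := by
    intro j
    induction j with
    | zero =>
      intro x hx l hl hlen
      rw [← List.prod_cons]
      exact hn _ (by simpa [or_imp, forall_and] using ⟨hx, hl⟩) (by simp; omega)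
    | succ j ih =>
      intro x hx
      refine Submodule.mul_induction_on (C := fun x => ∀ l : List E, (∀ y ∈ l, y ∈ dSpan H) → n ≤ j + 1 + 1 + l.length → x * l.prod = 0) hx ?_ ?_
      · intro a ha b hb l hl hlen
        rw [mul_assoc, ← List.prod_cons]
        exact ih a ha _ (by simpa [or_imp, forall_and] using ⟨hb, hl⟩) (by simp; omega)
      · intro a b ha hb l hl hlen
        rw [add_mul, ha l hl hlen, hb l hl hlen, add_zero]
  intro j x hx hj
  simpa using key j x hx [] (by simp) (by simpa using hj)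

theorem mul_pw {H : Subgroup GL} {g : GL} (hg : (g : E) - 1 ∈ dSpan H) {j : ℕ} {x : E} (hx : x ∈ pw H j) :
    (g : E) * x ∈ pw H j := by
  rw [show (g : E) * x = x + ((g : E) - 1) * x by rw [sub_mul, one_mul, add_sub_cancel]]
  exact add_mem hx (pw_succ_le H j (dSpan_mul_pw H j (Submodule.mul_mem_mul hg hx)))

theorem pw_mul {H : Subgroup GL} {g : GL} (hg : (g : E) - 1 ∈ dSpan H) {j : ℕ} {x : E} (hx : x ∈ pw H j) :
    x * (g : E) ∈ pw H j := by
  rw [show x * (g : E) = x + x * ((g : E) - 1) by rw [mul_sub, mul_one, add_sub_cancel]]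
  exact add_mem hx (pw_succ_le H j (Submodule.mul_mem_mul hx hg))

variable [FiniteDimensional k M]

theorem inv_sub_one {H : Subgroup GL} {g : GL} {j : ℕ} (hg : (g : E) - 1 ∈ pw H j) :
    ((g⁻¹ : GL) : E) - 1 ∈ pw H j := by
  have hg0 : (g : E) - 1 ∈ dSpan H := by
    clear * - hg
    induction j with
    | zero => exact hg
    | succ j ih => exact ih (pw_succ_le H j hg)
  let f : pw H j →ₗ[k] pw H j :=
    { toFun := fun x => ⟨(g : E) * x, mul_pw hg0 x.2⟩
      map_add' := fun x y => Subtype.ext (mul_add _ _ _)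
      map_smul' := fun c x => Subtype.ext (mul_smul_comm c _ _) }
  have hf : Function.Injective f := by
    intro x y hxy
    have h1 := congrArg (fun z : pw H j => ((g⁻¹ : GL) : E) * (z : E)) hxy
    simp only [f, LinearMap.coe_mk, AddHom.coe_mk, ← mul_assoc, Units.inv_mul, one_mul] at h1
    exact Subtype.ext h1
  obtain ⟨y, hy⟩ := (LinearMap.injective_iff_surjective.mp hf) ⟨-((g : E) - 1), neg_mem hg⟩
  have h2 : (g : E) * (y : E) = -((g : E) - 1) := congrArg Subtype.val hy
  have h3 : ((g⁻¹ : GL) : E) - 1 = (y : E) := by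
    have := congrArg (fun z => ((g⁻¹ : GL) : E) * z) h2
    simp only [← mul_assoc, Units.inv_mul, one_mul, mul_neg, mul_sub, mul_one, neg_sub] at this
    exact this.symm
  rw [h3]
  exact y.2

/-- The elements with displacement in the `j`-th power. -/
def pwGroup (H : Subgroup GL) (j : ℕ) : Subgroup GL where
  carrier := {g | (g : E) - 1 ∈ pw H j}
  one_mem' := by simp [zero_mem]
  mul_mem' := fun {g h} hg hh => by
    show ((g * h : GL) : E) - 1 ∈ pw H j
    rw [units_mul_sub]
    have hh0 : (h : E) - 1 ∈ dSpan H := by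
      clear * - hh
      induction j with
      | zero => exact hh
      | succ j ih => exact ih (pw_succ_le H j hh)
    exact add_mem (add_mem hg hh) (pw_succ_le H j (Submodule.mul_mem_mul hg hh0))
  inv_mem' := fun {g} hg => inv_sub_one hg

theorem le_pwGroup_zero (H : Subgroup GL) : H ≤ pwGroup H 0 := fun _ hg => sub_one_mem_dSpan hg

theorem pwGroup_comm {H : Subgroup GL} {j : ℕ} {l d : GL} (hl : l ∈ pwGroup H j) (hd : d ∈ pwGroup H 0) :
    l * d * l⁻¹ * d⁻¹ ∈ pwGroup H (j + 1) := by
  show ((l * d * l⁻¹ * d⁻¹ : GL) : E) - 1 ∈ pw H (j + 1)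
  have hle : pwGroup H j ≤ pwGroup H 0 := by
    intro g hg
    clear * - hg
    induction j with
    | zero => exact hg
    | succ j ih => exact ih (pw_succ_le H j hg)
  have e : ((l * d * l⁻¹ * d⁻¹ : GL) : E) - 1 =
      (((l : E) - 1) * ((d : E) - 1) - ((d : E) - 1) * ((l : E) - 1)) * (((d * l)⁻¹ : GL) : E) := by
    have h1 : ((l : E) - 1) * ((d : E) - 1) - ((d : E) - 1) * ((l : E) - 1) =
        ((l * d : GL) : E) - ((d * l : GL) : E) := by
      simp only [Units.val_mul, sub_mul, mul_sub, one_mul, mul_one]; abel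
    rw [h1, sub_mul, Units.mul_inv, ← Units.val_mul]
    congr 1
  rw [e]
  exact pw_mul (inv_mem (mul_mem hd (hle hl)) : (d * l)⁻¹ ∈ pwGroup H 0)
    (sub_mem (Submodule.mul_mem_mul hl hd) (dSpan_mul_pw H j (Submodule.mul_mem_mul hd hl)))

theorem pwGroup_conj {H : Subgroup GL} {j : ℕ} {h x : GL} (hh : h ∈ pwGroup H 0) (hx : x ∈ pwGroup H j) :
    h * x * h⁻¹ ∈ pwGroup H j := by
  show ((h * x * h⁻¹ : GL) : E) - 1 ∈ pw H j
  rw [show ((h * x * h⁻¹ : GL) : E) - 1 = (h : E) * ((x : E) - 1) * ((h⁻¹ : GL) : E) by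
    rw [mul_sub, mul_one, sub_mul, Units.mul_inv, Units.val_mul, Units.val_mul]]
  exact pw_mul (inv_mem hh : h⁻¹ ∈ pwGroup H 0) (mul_pw hh hx)

/-- An extension of a unipotent group by a unipotent group normalising it is unipotent. -/
theorem isUnipotentOn_sup {D K : Subgroup GL} (hD : IsUnipotentOn D) (hK : IsUnipotentOn K)
    (hn : K ≤ normalizer (D : Set GL)) : IsUnipotentOn (D ⊔ K) := by
  obtain ⟨n, hDn⟩ := isNull_of_unipotent hD
  obtain ⟨m, hm⟩ := hK
  let F : ℕ → Submodule k M := fun i =>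
    Nat.rec ⊤ (fun _ S => ⨆ d ∈ D, S.map ((d : E) - 1)) i
  have hFs : ∀ i, F (i + 1) = ⨆ d ∈ D, (F i).map ((d : E) - 1) := fun i => rfl
  have hstep : ∀ i d, d ∈ D → ∀ v ∈ F i, ((d : E) - 1) v ∈ F (i + 1) := fun i d hd v hv => by
    rw [hFs]
    exact Submodule.mem_iSup_of_mem d (Submodule.mem_iSup_of_mem hd (Submodule.mem_map_of_mem hv))
  have hanti : ∀ i, F (i + 1) ≤ F i := by
    intro i
    induction i with
    | zero => exact fun _ _ => Submodule.mem_top
    | succ i ih =>
      rw [hFs]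
      exact iSup₂_le fun d hd => Submodule.map_le_iff_le_comap.mpr fun v hv => hstep i d hd v (ih hv)
  have hinv : ∀ i, ∀ x ∈ normalizer (D : Set GL), ∀ v ∈ F i, (x : E) v ∈ F i := by
    intro i x hx
    induction i with
    | zero => exact fun _ _ => Submodule.mem_top
    | succ i ih =>
      intro v hv
      suffices hle : F (i + 1) ≤ (F (i + 1)).comap (x : E) from hle hv
      conv_lhs => rw [hFs]
      refine iSup₂_le fun d hd => ?_
      rintro _ ⟨w, hw, rfl⟩
      rw [Submodule.mem_comap]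
      have hd' : x * d * x⁻¹ ∈ D := (Subgroup.mem_normalizer_iff.mp hx d).mp hd
      have e : (x : E) * ((d : E) - 1) = (((x * d * x⁻¹ : GL) : E) - 1) * (x : E) := by
        rw [sub_mul, mul_sub, mul_one, one_mul, ← Units.val_mul, ← Units.val_mul, inv_mul_cancel_right]
      rw [show (x : E) (((d : E) - 1) w) = ((x : E) * ((d : E) - 1)) w from rfl, e]
      exact hstep i _ hd' _ (ih w hw)
  have hbot : ∀ i, n ≤ i → F i = ⊥ := by
    have key : ∀ i, ∀ v ∈ F i, ∀ l : List E, (∀ y ∈ l, y ∈ dSpan D) → n ≤ i + l.length → l.prod v = 0 := by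
      intro i
      induction i with
      | zero => intro v _ l hl hlen; rw [hDn l hl (by omega)]; rfl
      | succ i ih =>
        intro v hv l hl hlen
        suffices hle : F (i + 1) ≤ LinearMap.ker l.prod from hle hv
        rw [hFs]
        refine iSup₂_le fun d hd => ?_
        rintro _ ⟨w, hw, rfl⟩
        rw [LinearMap.mem_ker]
        have := ih w hw (l ++ [(d : E) - 1]) (by simpa [or_imp, forall_and] using ⟨hl, sub_one_mem_dSpan hd⟩)
          (by simp; omega)
        simpa using this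
    intro i hi
    rw [eq_bot_iff]
    intro v hv
    simpa using key i v hv [] (by simp) (by simpa using hi)
  have hdisp : ∀ i, ∀ x ∈ D ⊔ K, ∀ v ∈ F i, ((x : E) - 1) v ∈ F i := fun i x hx v hv => by
    show (x : E) v - v ∈ F i
    exact sub_mem (hinv i x ((sup_le Subgroup.le_normalizer hn) hx) v hv) hv
  have hred : ∀ l : List GL, (∀ g ∈ l, g ∈ D ⊔ K) → ∃ l' : List GL, (∀ g ∈ l', g ∈ K) ∧ l'.length = l.length ∧
      ∀ i, ∀ v ∈ F i, (l.map fun g : GL => (g : E) - 1).prod v - (l'.map fun g : GL => (g : E) - 1).prod v ∈ F (i + 1) ∧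
        (l'.map fun g : GL => (g : E) - 1).prod v ∈ F i := by
    intro l
    induction l with
    | nil => exact fun _ => ⟨[], by simp, rfl, fun i v hv => by simp [hv]⟩
    | cons h l ih =>
      intro hl
      obtain ⟨l', hl', hlen, hrel⟩ := ih fun g hg => hl g (List.mem_cons_of_mem _ hg)
      have hh := hl h (List.mem_cons_self ..)
      have hh' := hh
      rw [← SetLike.mem_coe, Subgroup.coe_mul_of_right_le_normalizer_left _ _ hn] at hh
      obtain ⟨d, hd, x, hx, hdx⟩ := hh
      refine ⟨x :: l', by simpa [or_imp, forall_and] using ⟨hx, hl'⟩, by simp [hlen], fun i v hv => ?_⟩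
      obtain ⟨h1, h2⟩ := hrel i v hv
      set w := (l.map fun g : GL => (g : E) - 1).prod v with hw
      set w' := (l'.map fun g : GL => (g : E) - 1).prod v with hw'
      simp only [List.map_cons, List.prod_cons, Module.End.mul_apply, ← hw, ← hw']
      refine ⟨?_, hdisp i x (mem_sup_right hx) w' h2⟩
      have e : ((h : E) - 1) w - ((x : E) - 1) w' = ((h : E) - 1) (w - w') + ((d : E) - 1) ((x : E) w') := by
        rw [map_sub, ← hdx]
        show _ = _ + ((d : E) ((x : E) w') - (x : E) w')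
        simp only [Units.val_mul, LinearMap.sub_apply, Module.End.mul_apply, Module.End.one_apply]
        abel
      rw [e]
      exact add_mem (hdisp (i + 1) h hh' _ h1) (hstep i d hd _ (hinv i x (hn hx) _ h2))
  have hmain : ∀ i, ∀ l : List GL, (∀ g ∈ l, g ∈ D ⊔ K) → l.length = i * m → ∀ v,
      (l.map fun g : GL => (g : E) - 1).prod v ∈ F i := by
    intro i
    induction i with
    | zero => exact fun _ _ _ _ => Submodule.mem_top
    | succ i ih =>
      intro l hl hlen v
      have hlen1 : (l.drop m).length = i * m := by rw [List.length_drop, hlen, Nat.succ_mul, Nat.add_sub_cancel]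
      have hlen2 : (l.take m).length = m := by rw [List.length_take, hlen, Nat.succ_mul]; omega
      have h1 := ih _ (fun g hg => hl g (List.mem_of_mem_drop hg)) hlen1 v
      obtain ⟨l', hl', hll, hrel⟩ := hred (l.take m) fun g hg => hl g (List.mem_of_mem_take hg)
      have h2 := (hrel i _ h1).1
      rw [show (l'.map fun g : GL => (g : E) - 1).prod = 0 from (unip_list l') ▸ hm l' hl' (hll.trans hlen2), LinearMap.zero_apply, sub_zero] at h2
      rw [← List.take_append_drop m l, List.map_append, List.prod_append]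
      exact h2
  refine ⟨n * m, fun l hl hlen => ?_⟩
  refine LinearMap.ext fun v => ?_
  have h1 := hmain n l hl hlen v
  rw [hbot n le_rfl, Submodule.mem_bot] at h1
  rw [unip_list]
  exact h1

theorem isUnipotentOn_bot : IsUnipotentOn (⊥ : Subgroup GL) := by
  refine ⟨1, fun l hl hlen => ?_⟩
  obtain ⟨g, rfl⟩ := List.length_eq_one_iff.mp hlen
  have : g = 1 := Subgroup.mem_bot.mp (hl g (by simp))
  simp [this]

theorem IsUnipotentOn.mono {H K : Subgroup GL} (h : IsUnipotentOn K) (hle : H ≤ K) : IsUnipotentOn H := by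
  obtain ⟨n, hn⟩ := h
  exact ⟨n, fun l hl hlen => hn l (fun g hg => hle (hl g hg)) hlen⟩

theorem isUnipotentOn_family {G : Subgroup GL} {W : Set (Subgroup GL)} (hWG : ∀ A ∈ W, A ≤ G)
    (hWW : ∀ A ∈ W, ∀ B ∈ W, IsUnipotentOn (A ⊔ B)) (hWconj : ∀ A ∈ W, ∀ g ∈ G, conjBy A g ∈ W) :
    IsUnipotentOn (⨆ A ∈ W, A) := by
  classical
  let H : Set (Subgroup GL) → Subgroup GL := fun T => ⨆ A ∈ T, A
  have hmem : ∀ {T : Set (Subgroup GL)} {A}, A ∈ T → A ≤ H T := fun hA => le_iSup₂ (f := fun A _ => A) _ hA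
  have hmono : ∀ {T T' : Set (Subgroup GL)}, T ⊆ T' → H T ≤ H T' := fun h => iSup₂_le fun A hA => hmem (h hA)
  let IsMax : Set (Subgroup GL) → Prop := fun T => T ⊆ W ∧ IsUnipotentOn (H T) ∧
    (∀ A ∈ W, A ≤ pwGroup (H T) 0 → A ∈ T) ∧ (∀ T', T ⊆ T' → T' ⊆ W → IsUnipotentOn (H T') → T' ⊆ T)
  -- every unipotent subfamily extends to a maximal one
  have hext : ∀ T, T ⊆ W → IsUnipotentOn (H T) → ∃ T', T ⊆ T' ∧ IsMax T' := by
    intro T hTW hT
    let P : ℕ → Prop := fun d => ∃ T', T ⊆ T' ∧ T' ⊆ W ∧ IsUnipotentOn (H T') ∧ Module.finrank k (dSpan (H T')) = d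
    set N := Module.finrank k E
    have hP : P (Nat.findGreatest P N) :=
      Nat.findGreatest_spec (m := Module.finrank k (dSpan (H T))) (Submodule.finrank_le _) ⟨T, subset_rfl, hTW, hT, rfl⟩
    obtain ⟨T₁, hT1, hT1W, hT1u, hT1d⟩ := hP
    let T₂ : Set (Subgroup GL) := {A | A ∈ W ∧ A ≤ pwGroup (H T₁) 0}
    have h12 : T₁ ⊆ T₂ := fun A hA => ⟨hT1W hA, (hmem hA).trans (le_pwGroup_zero _)⟩
    have hH2 : H T₂ ≤ pwGroup (H T₁) 0 := iSup₂_le fun A hA => hA.2
    have hJ : dSpan (H T₂) = dSpan (H T₁) := by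
      refine le_antisymm (Submodule.span_le.mpr ?_) (dSpan_mono (hmono h12))
      rintro e ⟨g, hg, rfl⟩
      exact hH2 hg
    have hu2 : IsUnipotentOn (H T₂) := by
      obtain ⟨n, hn⟩ := isNull_of_unipotent hT1u
      exact isUnipotentOn_of_null hn fun g hg => hH2 hg
    refine ⟨T₂, hT1.trans h12, fun A hA => hA.1, hu2, fun A hA hle => ⟨hA, fun g hg => ?_⟩,
      fun T' h2 hT'W hT'u A hA => ⟨hT'W hA, fun g hg => ?_⟩⟩
    · have := hle hg
      show (g : E) - 1 ∈ dSpan (H T₁)
      rw [← hJ]; exact this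
    · have hle := dSpan_mono (hmono h2)
      have hd : Module.finrank k (dSpan (H T')) ≤ Nat.findGreatest P N :=
        Nat.le_findGreatest (Submodule.finrank_le _) ⟨T', hT1.trans (h12.trans h2), hT'W, hT'u, rfl⟩
      have heq := Submodule.eq_of_le_of_finrank_le hle (by rw [hJ, hT1d]; exact hd)
      show (g : E) - 1 ∈ dSpan (H T₁)
      rw [← hJ, heq]
      exact sub_one_mem_dSpan (hmem hA hg)
  by_contra hWu
  -- two different maximal families exist
  have hne : ∀ T, IsMax T → ∃ A ∈ W, A ∉ T := fun T hT => by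
    by_contra hno
    push Not at hno
    exact hWu (IsUnipotentOn.mono hT.2.1 (hmono hno))
  have h0 : IsUnipotentOn (H ∅) := IsUnipotentOn.mono isUnipotentOn_bot (by simp [H])
  obtain ⟨W₀, -, hW₀⟩ := hext ∅ (Set.empty_subset W) h0
  obtain ⟨A₀, hA₀, hA₀W⟩ := hne W₀ hW₀
  obtain ⟨W₁, hAW₁, hW₁⟩ := hext {A₀} (by simpa using hA₀) (IsUnipotentOn.mono (hWW A₀ hA₀ A₀ hA₀) (by simp [H]))
  have hne01 : W₀ ≠ W₁ := fun h => hA₀W (h ▸ hAW₁ rfl)
  -- choose the pair with the largest intersection
  let Q : ℕ → Prop := fun d => ∃ U V, IsMax U ∧ IsMax V ∧ U ≠ V ∧ Module.finrank k (dSpan (H (U ∩ V))) = d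
  obtain ⟨U, V, hU, hV, hUV, hd⟩ : Q (Nat.findGreatest Q (Module.finrank k E)) :=
    Nat.findGreatest_spec (m := Module.finrank k (dSpan (H (W₀ ∩ W₁)))) (Submodule.finrank_le _)
      ⟨W₀, W₁, hW₀, hW₁, hne01, rfl⟩
  set T := U ∩ V with hT
  have hTclosed : ∀ A ∈ W, A ≤ pwGroup (H T) 0 → A ∈ T := fun A hA hle =>
    ⟨hU.2.2.1 A hA (hle.trans fun g hg => dSpan_mono (hmono Set.inter_subset_left) hg),
      hV.2.2.1 A hA (hle.trans fun g hg => dSpan_mono (hmono Set.inter_subset_right) hg)⟩
  -- in each of the two a member outside the intersection normalises it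
  have hfind : ∀ U', IsMax U' → T ⊆ U' → ¬ U' ⊆ T → ∃ A ∈ U', A ∉ T ∧ A ≤ normalizer (H T : Set GL) := by
    intro U' hU' hTU hnot
    obtain ⟨n, hn⟩ := isNull_of_unipotent hU'.2.1
    obtain ⟨A', hA', hA'T⟩ := Set.not_subset.mp hnot
    let R : ℕ → Prop := fun j => ∃ A ∈ U', A ∉ T ∧ A ≤ H T ⊔ pwGroup (H U') j
    have hR0 : R 0 := ⟨A', hA', hA'T, ((hmem hA').trans (le_pwGroup_zero _)).trans le_sup_right⟩
    have hRn : ¬ R n := by
      rintro ⟨A, hA, hAT, hle⟩
      refine hAT (hTclosed A (hU'.1 hA) (hle.trans (sup_le (le_pwGroup_zero _) ?_)))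
      intro g hg
      have h1 : (g : E) - 1 = 0 := pw_null (H U') hn n _ hg (by omega)
      show (g : E) - 1 ∈ dSpan (H T)
      rw [h1]; exact zero_mem _
    obtain ⟨j, hj, hj'⟩ : ∃ j, R j ∧ ¬ R (j + 1) := by
      by_contra hno
      push Not at hno
      exact hRn (Nat.rec hR0 (fun i hi => hno i hi) n)
    obtain ⟨A, hA, hAT, hle⟩ := hj
    refine ⟨A, hA, hAT, ?_⟩
    have hTH : H T ≤ pwGroup (H U') 0 := (hmono hTU).trans (le_pwGroup_zero _)
    have hLH : ∀ i, pwGroup (H U') i ≤ pwGroup (H U') 0 := by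
      intro i g hg
      induction i with
      | zero => exact hg
      | succ i ih => exact ih (pw_succ_le _ i hg)
    have hnorm : H T ⊔ pwGroup (H U') j ≤ normalizer ((H T ⊔ pwGroup (H U') (j + 1) : Subgroup GL) : Set GL) := by
      have key : ∀ x ∈ pwGroup (H U') 0, (∀ d ∈ H T, x * d * x⁻¹ ∈ H T ⊔ pwGroup (H U') (j + 1)) →
          ∀ y ∈ H T ⊔ pwGroup (H U') (j + 1), x * y * x⁻¹ ∈ H T ⊔ pwGroup (H U') (j + 1) := by
        intro x hx hxd y hy
        have hle' : H T ⊔ pwGroup (H U') (j + 1) ≤ (H T ⊔ pwGroup (H U') (j + 1)).comap (MulAut.conj x).toMonoidHom :=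
          sup_le hxd fun z hz => mem_sup_right (pwGroup_conj hx hz)
        exact hle' hy
      refine sup_le (fun x hx => ?_) (fun x hx => ?_)
      · rw [Subgroup.mem_normalizer_iff]
        refine fun y => ⟨key x (hTH hx) (fun d hd => mem_sup_left (mul_mem (mul_mem hx hd) (inv_mem hx))) y, fun hy => ?_⟩
        have := key x⁻¹ (inv_mem (hTH hx)) (fun d hd => mem_sup_left (mul_mem (mul_mem (inv_mem hx) hd) (inv_mem (inv_mem hx)))) _ hy
        simpa [mul_assoc] using this
      · have hcm : ∀ x ∈ pwGroup (H U') j, ∀ d ∈ H T, x * d * x⁻¹ ∈ H T ⊔ pwGroup (H U') (j + 1) := fun x hx d hd => by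
          have := mul_mem (mem_sup_right (pwGroup_comm hx (hTH hd))) (mem_sup_left hd) (S := Subgroup GL)
            (s := H T ⊔ pwGroup (H U') (j + 1))
          simpa [mul_assoc] using this
        rw [Subgroup.mem_normalizer_iff]
        refine fun y => ⟨key x (hLH j hx) (hcm x hx) y, fun hy => ?_⟩
        have := key x⁻¹ (inv_mem (hLH j hx)) (hcm x⁻¹ (inv_mem hx)) _ hy
        simpa [mul_assoc] using this
    have hconj : ∀ a ∈ A, ∀ x ∈ H T, a * x * a⁻¹ ∈ H T := by
      intro a ha x hx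
      suffices hle' : H T ≤ (H T).comap (MulAut.conj a).toMonoidHom from hle' hx
      refine iSup₂_le fun B hB => Subgroup.map_le_iff_le_comap.mp ?_
      have hBW : conjBy B a ∈ W := hWconj B (hU'.1 (hTU hB)) a (hWG A (hU'.1 hA) ha)
      refine hmem (by
        by_contra hBT
        refine hj' ⟨conjBy B a, hU'.2.2.1 _ hBW ?_, hBT, ?_⟩
        · refine le_trans ?_ (le_pwGroup_zero _)
          intro y hy
          rw [mem_conjBy] at hy
          have := mul_mem (mul_mem (hmem hA ha) (hmem (hTU hB) hy)) (inv_mem (hmem hA ha))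
          simpa [mul_assoc] using this
        · intro y hy
          rw [mem_conjBy] at hy
          have := (Subgroup.mem_normalizer_iff.mp (hnorm (hle ha)) _).mp (mem_sup_left (hmem hB hy))
          simpa [mul_assoc] using this)
    intro a ha
    rw [Subgroup.mem_normalizer_iff]
    refine fun x => ⟨hconj a ha x, fun hx => ?_⟩
    have := hconj a⁻¹ (inv_mem ha) _ hx
    simpa [mul_assoc] using this
  have hTU : ¬ U ⊆ T := fun h => hUV (Set.Subset.antisymm (h.trans Set.inter_subset_right)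
    (hU.2.2.2 V (h.trans Set.inter_subset_right) hV.1 hV.2.1))
  have hTV : ¬ V ⊆ T := fun h => hUV (Set.Subset.antisymm
    (hV.2.2.2 U (h.trans Set.inter_subset_left) hU.1 hU.2.1) (h.trans Set.inter_subset_left))
  obtain ⟨A, hAU, hAT, hAn⟩ := hfind U hU Set.inter_subset_left hTU
  obtain ⟨B, hBV, hBT, hBn⟩ := hfind V hV Set.inter_subset_right hTV
  have hu : IsUnipotentOn (H T ⊔ (A ⊔ B)) :=
    isUnipotentOn_sup (IsUnipotentOn.mono hU.2.1 (hmono Set.inter_subset_left)) (hWW A (hU.1 hAU) B (hV.1 hBV))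
      (sup_le hAn hBn)
  obtain ⟨W₂, hW2, hW₂⟩ := hext (T ∪ {A, B}) (by
      rintro C (hC | rfl | rfl)
      exacts [hU.1 hC.1, hU.1 hAU, hV.1 hBV])
    (IsUnipotentOn.mono hu (iSup₂_le fun C hC => by
      rcases hC with hC | rfl | rfl
      exacts [(hmem hC).trans le_sup_left, le_sup_left.trans le_sup_right, le_sup_right.trans le_sup_right]))
  have hBU : B ∉ U := fun h => hBT ⟨h, hBV⟩
  have hne : U ≠ W₂ := fun h => hBU (h ▸ hW2 (Or.inr (Or.inr rfl)))
  have hsub : T ⊆ U ∩ W₂ := fun C hC => ⟨hC.1, hW2 (Or.inl hC)⟩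
  have hd2 : Module.finrank k (dSpan (H (U ∩ W₂))) ≤ Module.finrank k (dSpan (H T)) := by
    rw [hd]
    exact Nat.le_findGreatest (Submodule.finrank_le _) ⟨U, W₂, hU, hW₂, hne, rfl⟩
  have heq := Submodule.eq_of_le_of_finrank_le (dSpan_mono (hmono hsub)) hd2
  refine hAT (hTclosed A (hU.1 hAU) fun g hg => ?_)
  show (g : E) - 1 ∈ dSpan (H T)
  rw [heq]
  exact sub_one_mem_dSpan (hmem (show A ∈ U ∩ W₂ from ⟨hAU, hW2 (Or.inr (Or.inl rfl))⟩) hg)

end Unipotent

end Cfsg.Lib.RootSub
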