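import Mathlib

/-! Homomorphisms out of `SL₂` from relations on two one-parameter families (the abstract part of `Chev/SL2`, kept free of the Chevalley datum). -/

set_option autoImplicit false

namespace Cfsg.Lib.RootSub.SL2Hom

section Abstract

variable {F : Type*} [Field F] {G : Type*} [Group G]

/-- `n(t) = x(t) y(-t⁻¹) x(t)`. -/
def nAbs (x y : F → G) (t : F) : G := x t * y (-t⁻¹) * x t

/-- `h(t) = n(t) n(-1)`. -/
def hAbs (x y : F → G) (t : F) : G := nAbs x y t * nAbs x y (-1)

/-- The relations of `SL₂` on two one-parameter families. -/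
structure SL2Rel (x y : F → G) : Prop where
  addx : ∀ t u, x t * x u = x (t + u)
  addy : ∀ t u, y t * y u = y (t + u)
  conj : ∀ a t, a ≠ 0 → hAbs x y a * x t = x (a ^ 2 * t) * hAbs x y a
  mult : ∀ a b, a ≠ 0 → b ≠ 0 → hAbs x y a * hAbs x y b = hAbs x y (a * b)
  flip : ∀ s, (nAbs x y 1)⁻¹ * x s * nAbs x y 1 = y (-s)

/-- The unitriangular matrix. -/
def uM (t : F) : Matrix.SpecialLinearGroup (Fin 2) F := ⟨!![1, t; 0, 1], by simp [Matrix.det_fin_two]⟩

/-- The lower unitriangular matrix. -/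
def lM (t : F) : Matrix.SpecialLinearGroup (Fin 2) F := ⟨!![1, 0; t, 1], by simp [Matrix.det_fin_two]⟩

/-- The Weyl element. -/
def wM : Matrix.SpecialLinearGroup (Fin 2) F := ⟨!![0, 1; -1, 0], by simp [Matrix.det_fin_two]⟩

/-- The underlying matrix. -/
def mat (g : Matrix.SpecialLinearGroup (Fin 2) F) : Matrix (Fin 2) (Fin 2) F := (g : Matrix (Fin 2) (Fin 2) F)

theorem mat_uM (t : F) : mat (uM t) = !![1, t; 0, 1] := rfl
theorem mat_lM (t : F) : mat (lM t) = !![1, 0; t, 1] := rfl
theorem mat_wM : mat (wM : Matrix.SpecialLinearGroup (Fin 2) F) = !![0, 1; -1, 0] := rfl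
theorem mat_mul (g h : Matrix.SpecialLinearGroup (Fin 2) F) : mat (g * h) = mat g * mat h :=
  Matrix.SpecialLinearGroup.coe_mul g h
theorem mat_inj {g h : Matrix.SpecialLinearGroup (Fin 2) F} (e : mat g = mat h) : g = h := Subtype.ext e
theorem mat_det (g : Matrix.SpecialLinearGroup (Fin 2) F) : mat g 0 0 * mat g 1 1 - mat g 0 1 * mat g 1 0 = 1 := by
  rw [← Matrix.det_fin_two]; exact g.2

theorem mat_one : mat (1 : Matrix.SpecialLinearGroup (Fin 2) F) = 1 := Matrix.SpecialLinearGroup.coe_one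

/-- The transpose along the antidiagonal. -/
def swapFun (g : Matrix.SpecialLinearGroup (Fin 2) F) : Matrix.SpecialLinearGroup (Fin 2) F :=
  ⟨!![mat g 1 1, mat g 1 0; mat g 0 1, mat g 0 0], by
    simp [Matrix.det_fin_two]; linear_combination mat_det g⟩

theorem mat_swap (g : Matrix.SpecialLinearGroup (Fin 2) F) :
    mat (swapFun g) = !![mat g 1 1, mat g 1 0; mat g 0 1, mat g 0 0] := rfl

/-- Conjugation by `diag(η, 1)`. -/
def sclFun (η : F) (hη : η * η = 1) (g : Matrix.SpecialLinearGroup (Fin 2) F) :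
    Matrix.SpecialLinearGroup (Fin 2) F :=
  ⟨!![mat g 0 0, η * mat g 0 1; η * mat g 1 0, mat g 1 1], by
    simp [Matrix.det_fin_two]; linear_combination mat_det g - mat g 0 1 * mat g 1 0 * hη⟩

theorem mat_scl (η : F) (hη : η * η = 1) (g : Matrix.SpecialLinearGroup (Fin 2) F) :
    mat (sclFun η hη g) = !![mat g 0 0, η * mat g 0 1; η * mat g 1 0, mat g 1 1] := rfl

open Classical in
/-- The map given by the Bruhat normal form. -/
noncomputable def sl2Fun (x y : F → G) (g : Matrix.SpecialLinearGroup (Fin 2) F) : G :=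
  if mat g 1 0 = 0 then x (mat g 0 0 * mat g 0 1) * hAbs x y (mat g 0 0)
  else x (mat g 0 0 / mat g 1 0) * nAbs x y (-(mat g 1 0)⁻¹) * x (mat g 1 1 / mat g 1 0)

theorem sl2Fun_zero (x y : F → G) {g : Matrix.SpecialLinearGroup (Fin 2) F} {a b : F} (h : mat g 1 0 = 0)
    (ha : mat g 0 0 = a) (hb : mat g 0 1 = b) : sl2Fun x y g = x (a * b) * hAbs x y a := by
  subst ha hb; exact if_pos h

theorem sl2Fun_ne (x y : F → G) {g : Matrix.SpecialLinearGroup (Fin 2) F} {a c d : F} (hc : c ≠ 0)
    (h : mat g 1 0 = c) (ha : mat g 0 0 = a) (hd : mat g 1 1 = d) :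
    sl2Fun x y g = x (a / c) * nAbs x y (-c⁻¹) * x (d / c) := by
  subst h ha hd; exact if_neg hc

theorem sl2Fun_one' (x y : F → G) (h0 : x 0 = 1) (h1 : hAbs x y 1 = 1) :
    sl2Fun x y (1 : Matrix.SpecialLinearGroup (Fin 2) F) = 1 := by
  rw [sl2Fun_zero x y (a := 1) (b := 0) (by simp [mat_one]) (by simp [mat_one]) (by simp [mat_one]),
    mul_zero, h0, h1, one_mul]

namespace SL2Rel

variable {x y : F → G}

theorem x_zero (R : SL2Rel x y) : x 0 = 1 := by
  have := R.addx 0 0
  rw [add_zero] at this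
  exact mul_eq_left.1 this

theorem y_zero (R : SL2Rel x y) : y 0 = 1 := by
  have := R.addy 0 0
  rw [add_zero] at this
  exact mul_eq_left.1 this

theorem n_neg (R : SL2Rel x y) (t : F) : nAbs x y t * nAbs x y (-t) = 1 := by
  simp only [nAbs]
  rw [show x t * y (-t⁻¹) * x t * (x (-t) * y (-(-t)⁻¹) * x (-t)) =
    x t * (y (-t⁻¹) * (x t * x (-t)) * y (-(-t)⁻¹)) * x (-t) by group,
    R.addx, add_neg_cancel, R.x_zero, mul_one, R.addy, inv_neg, neg_neg, neg_add_cancel, R.y_zero, mul_one,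
    R.addx, add_neg_cancel, R.x_zero]

theorem n_one_inv (R : SL2Rel x y) : nAbs x y (-1) = (nAbs x y 1)⁻¹ :=
  eq_inv_of_mul_eq_one_right (R.n_neg 1)

theorem n_eq (R : SL2Rel x y) (t : F) : nAbs x y t = hAbs x y t * nAbs x y 1 := by
  rw [hAbs, R.n_one_inv, inv_mul_cancel_right]

theorem h_one (R : SL2Rel x y) : hAbs x y 1 = 1 := by rw [hAbs, R.n_neg]

theorem n_one_sq (R : SL2Rel x y) : nAbs x y 1 * nAbs x y 1 = hAbs x y (-1) := by
  have h1 : hAbs x y (-1) = (nAbs x y 1)⁻¹ * (nAbs x y 1)⁻¹ := by rw [hAbs, R.n_one_inv]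
  have h2 := R.mult (-1) (-1) (by simp) (by simp)
  rw [neg_mul_neg, one_mul, R.h_one] at h2
  calc nAbs x y 1 * nAbs x y 1 = (hAbs x y (-1))⁻¹ := by rw [h1, mul_inv_rev, inv_inv]
    _ = hAbs x y (-1) := inv_eq_of_mul_eq_one_right h2

theorem fun_mul_u (R : SL2Rel x y) (g : Matrix.SpecialLinearGroup (Fin 2) F) (t : F) :
    sl2Fun x y (g * uM t) = sl2Fun x y g * x t := by
  have hd : mat g 0 0 * mat g 1 1 - mat g 0 1 * mat g 1 0 = 1 := mat_det g
  have e : mat (g * uM t) = !![mat g 0 0, mat g 0 0 * t + mat g 0 1; mat g 1 0, mat g 1 0 * t + mat g 1 1] := by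
    rw [mat_mul]
    ext i j
    fin_cases i <;> fin_cases j <;> simp [mat_uM, Matrix.mul_apply, Fin.sum_univ_two]
  by_cases h0 : mat g 1 0 = 0
  · rw [sl2Fun_zero x y (g := g * uM t) (a := mat g 0 0) (b := mat g 0 0 * t + mat g 0 1) (by simp [e, h0])
      (by simp [e]) (by simp [e]), sl2Fun_zero x y h0 rfl rfl]
    have ha : mat g 0 0 ≠ 0 := fun h => by rw [h0, h] at hd; simp at hd
    rw [mul_assoc, R.conj _ _ ha, ← mul_assoc, R.addx]
    congr 2
    ring
  · rw [sl2Fun_ne x y (g := g * uM t) h0 (a := mat g 0 0) (d := mat g 1 0 * t + mat g 1 1) (by simp [e])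
      (by simp [e]) (by simp [e]), sl2Fun_ne x y h0 rfl rfl rfl, mul_assoc _ (x _) (x t), R.addx]
    congr 2
    field_simp
    ring

theorem fun_mul_w (R : SL2Rel x y) (g : Matrix.SpecialLinearGroup (Fin 2) F) :
    sl2Fun x y (g * wM) = sl2Fun x y g * nAbs x y 1 := by
  have hd : mat g 0 0 * mat g 1 1 - mat g 0 1 * mat g 1 0 = 1 := mat_det g
  have e : mat (g * wM) = !![-mat g 0 1, mat g 0 0; -mat g 1 1, mat g 1 0] := by
    rw [mat_mul]
    ext i j
    fin_cases i <;> fin_cases j <;> simp [mat_wM, mat_mul, Matrix.mul_apply, Fin.sum_univ_two]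
  set a := mat g 0 0
  set b := mat g 0 1
  set c := mat g 1 0
  set d := mat g 1 1
  by_cases hc : c = 0
  · have ha : a ≠ 0 := fun h => by rw [hc, h] at hd; simp at hd
    have hdd : d ≠ 0 := fun h => by rw [hc, h] at hd; simp at hd
    rw [sl2Fun_zero x y hc rfl rfl, sl2Fun_ne x y (g := g * wM) (a := -b) (c := -d) (d := c) (by simpa using hdd) (by simp [e]) (by simp [e]) (by simp [e]), hc, zero_div, R.x_zero, mul_one, mul_assoc, ← R.n_eq]
    rw [hc, mul_zero, sub_zero] at hd
    congr 2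
    · field_simp
      linear_combination (-b) * hd
    · field_simp
      linear_combination -hd
  · rw [sl2Fun_ne x y (g := g) (a := a) (c := c) (d := d) hc rfl rfl rfl]
    by_cases hdz : d = 0
    · rw [hdz, mul_zero, zero_sub] at hd
      have hb : b = -c⁻¹ := by field_simp; linear_combination -hd
      rw [sl2Fun_zero x y (g := g * wM) (a := -b) (b := a) (by simp [e, hdz]) (by simp [e]) (by simp [e]), hdz, zero_div, R.x_zero, mul_one, R.n_eq (-c⁻¹), mul_assoc (x _),
        mul_assoc (hAbs x y _), R.n_one_sq, R.mult _ _ (by simpa using hc) (by simp), hb]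
      congr 2
      · field_simp
      · ring
    · rw [sl2Fun_ne x y (g := g * wM) (a := -b) (c := -d) (d := c) (by simpa using hdz) (by simp [e]) (by simp [e]) (by simp [e])]
      have key : x (d / c) * nAbs x y 1 =
          nAbs x y 1 * x (-(c / d)) * nAbs x y (c / d) * x (-(c / d)) := by
        have h1 : x (d / c) * nAbs x y 1 = nAbs x y 1 * y (-(d / c)) := by
          rw [← R.flip]; group
        rw [h1, nAbs.eq_def x y (c / d), show (-(c / d)⁻¹ : F) = -(d / c) by rw [inv_div],
          show nAbs x y 1 * x (-(c / d)) * (x (c / d) * y (-(d / c)) * x (c / d)) * x (-(c / d)) =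
            nAbs x y 1 * (x (-(c / d)) * x (c / d)) * y (-(d / c)) * (x (c / d) * x (-(c / d))) by group,
          R.addx, R.addx, neg_add_cancel, add_neg_cancel, R.x_zero, mul_one, mul_one]
      symm
      calc x (a / c) * nAbs x y (-c⁻¹) * x (d / c) * nAbs x y 1
          = x (a / c) * (hAbs x y (-c⁻¹) * (nAbs x y 1 * nAbs x y 1)) * x (-(c / d)) *
              nAbs x y (c / d) * x (-(c / d)) := by
            rw [mul_assoc _ (x (d / c)), key, R.n_eq (-c⁻¹)]; group
        _ = x (a / c) * (hAbs x y c⁻¹ * x (-(c / d))) * nAbs x y (c / d) * x (-(c / d)) := by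
            rw [R.n_one_sq, R.mult _ _ (by simpa using hc) (by simp), show -c⁻¹ * -1 = c⁻¹ by ring]
            group
        _ = x (a / c) * x (c⁻¹ ^ 2 * -(c / d)) * (hAbs x y c⁻¹ * hAbs x y (c / d)) * nAbs x y 1 *
              x (-(c / d)) := by
            rw [R.conj _ _ (inv_ne_zero hc), R.n_eq (c / d)]; group
        _ = x (-b / -d) * nAbs x y (-(-d)⁻¹) * x (c / -d) := by
            rw [R.addx, R.mult _ _ (inv_ne_zero hc) (div_ne_zero hc hdz), mul_assoc (x _) (hAbs x y _),
              ← R.n_eq]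
            congr 2
            · congr 1
              field_simp
              linear_combination hd
            · rw [inv_neg, neg_neg]; field_simp
            · rw [div_neg]

theorem n_one_eq : nAbs x y 1 = x 1 * y (-1) * x 1 := by simp [nAbs]

theorem exists_hom (R : SL2Rel x y) :
    ∃ φ : Matrix.SpecialLinearGroup (Fin 2) F →* G, (∀ t, φ (uM t) = x t) ∧ (∀ t, φ (lM t) = y t) ∧
      φ.range = Subgroup.closure (Set.range x ∪ Set.range y) := by
  let T : Submonoid (Matrix.SpecialLinearGroup (Fin 2) F) :=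
    { carrier := {h | ∀ g, sl2Fun x y (g * h) = sl2Fun x y g * sl2Fun x y h}
      one_mem' := fun g => by
        rw [mul_one, sl2Fun_one' x y R.x_zero R.h_one, mul_one]
      mul_mem' := fun {h k} hh hk g => by rw [← mul_assoc, hk, hh, hk h, mul_assoc] }
  have f1 : sl2Fun x y 1 = 1 := sl2Fun_one' x y R.x_zero R.h_one
  have hu : ∀ t, sl2Fun x y (uM t) = x t := fun t => by
    rw [← one_mul (uM t), R.fun_mul_u, f1, one_mul]
  have hw : sl2Fun x y wM = nAbs x y 1 := by
    rw [← one_mul wM, R.fun_mul_w, f1, one_mul]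
  have huT : ∀ t, uM t ∈ T := fun t g => by rw [R.fun_mul_u, hu]
  have hwT : (wM : Matrix.SpecialLinearGroup (Fin 2) F) ∈ T := fun g => by rw [R.fun_mul_w, hw]
  have hgen : ∀ h, h ∈ T := by
    have hw3 : (wM : Matrix.SpecialLinearGroup (Fin 2) F)⁻¹ = wM * wM * wM := by
      rw [inv_eq_iff_mul_eq_one]
      apply mat_inj
      rw [mat_one]
      ext i j
      fin_cases i <;> fin_cases j <;> simp [mat_wM, mat_mul, Matrix.mul_apply, Fin.sum_univ_two]
    have hlT : ∀ t, lM t ∈ T := fun t => by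
      have : lM t = wM * uM (-t) * (wM : Matrix.SpecialLinearGroup (Fin 2) F)⁻¹ := by
        apply mat_inj
        ext i j
        fin_cases i <;> fin_cases j <;>
          simp [hw3, mat_mul, mat_lM, mat_uM, mat_wM, Matrix.mul_apply, Fin.sum_univ_two]
      rw [this, hw3]
      exact mul_mem (mul_mem hwT (huT _)) (mul_mem (mul_mem hwT hwT) hwT)
    intro h
    have hd : mat h 0 0 * mat h 1 1 - mat h 0 1 * mat h 1 0 = 1 := mat_det h
    by_cases hc : mat h 1 0 = 0
    · have ha : mat h 0 0 ≠ 0 := fun e => by rw [hc, e] at hd; simp at hd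
      have : h = uM (mat h 0 0 * mat h 0 1) * (uM (mat h 0 0) * lM (-(mat h 0 0)⁻¹) * uM (mat h 0 0)) *
          (wM * wM * wM) := by
        apply mat_inj
        rw [Matrix.eta_fin_two (mat h)]
        ext i j
        fin_cases i <;> fin_cases j <;>
          simp [mat_mul, mat_uM, mat_lM, mat_wM, Matrix.mul_apply, Fin.sum_univ_two, hc] <;> field_simp
        all_goals first | ring1 | linear_combination hd | linear_combination -hd | (rw [hc, mul_zero, sub_zero] at hd; first | linear_combination hd | linear_combination -hd)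
      rw [this]
      exact mul_mem (mul_mem (huT _) (mul_mem (mul_mem (huT _) (hlT _)) (huT _)))
        (mul_mem (mul_mem hwT hwT) hwT)
    · have : h = uM ((mat h 0 0 - 1) / mat h 1 0) * lM (mat h 1 0) * uM ((mat h 1 1 - 1) / mat h 1 0) := by
        apply mat_inj
        rw [Matrix.eta_fin_two (mat h)]
        ext i j
        fin_cases i <;> fin_cases j <;>
          simp [mat_mul, mat_uM, mat_lM, Matrix.mul_apply, Fin.sum_univ_two] <;> field_simp
        all_goals first | ring1 | linear_combination hd | linear_combination -hd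
      rw [this]
      exact mul_mem (mul_mem (huT _) (hlT _)) (huT _)
  let φ : Matrix.SpecialLinearGroup (Fin 2) F →* G :=
    MonoidHom.mk' (sl2Fun x y) fun g h => hgen h g
  have hφu : ∀ t, φ (uM t) = x t := hu
  have hφl : ∀ t, φ (lM t) = y t := by
    intro t
    have : lM t = (wM : Matrix.SpecialLinearGroup (Fin 2) F)⁻¹ * uM (-t) * wM := by
      rw [mul_assoc, eq_inv_mul_iff_mul_eq]
      apply mat_inj
      ext i j
      fin_cases i <;> fin_cases j <;> simp [mat_mul, mat_lM, mat_uM, mat_wM, Matrix.mul_apply, Fin.sum_univ_two]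
    rw [this, map_mul, map_mul, map_inv, show φ wM = nAbs x y 1 from hw, hφu, R.flip, neg_neg]
  refine ⟨φ, hφu, hφl, le_antisymm ?_ ((Subgroup.closure_le _).2 ?_)⟩
  · rintro g ⟨h, rfl⟩
    have hx : ∀ t, x t ∈ Subgroup.closure (Set.range x ∪ Set.range y) :=
      fun t => Subgroup.subset_closure (Or.inl ⟨t, rfl⟩)
    have hy : ∀ t, y t ∈ Subgroup.closure (Set.range x ∪ Set.range y) :=
      fun t => Subgroup.subset_closure (Or.inr ⟨t, rfl⟩)
    have hn : ∀ t, nAbs x y t ∈ Subgroup.closure (Set.range x ∪ Set.range y) :=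
      fun t => mul_mem (mul_mem (hx _) (hy _)) (hx _)
    show sl2Fun x y h ∈ _
    unfold sl2Fun
    split
    · exact mul_mem (hx _) (mul_mem (hn _) (hn _))
    · exact mul_mem (mul_mem (hx _) (hn _)) (hx _)
  · rintro g (⟨t, rfl⟩ | ⟨t, rfl⟩)
    · exact ⟨_, hφu t⟩
    · exact ⟨_, hφl t⟩

end SL2Rel

end Abstract

end Cfsg.Lib.RootSub.SL2Hom
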