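import Cfsg.Agent.RootSub.Transv
import Cfsg.Agent.Known.AutPSLn.Basic

/-!
# Transvections of `SLₙ`
-/

set_option autoImplicit false
set_option linter.unusedSectionVars false
set_option linter.unusedVariables false
set_option linter.unusedSimpArgs false

open Subgroup Matrix
open Cfsg

namespace Cfsg.Lib.RootSub

variable {F : Type*} [Field F]

/-- A subgroup of transvections exists as soon as all its elements are available. -/
theorem exists_transvGroup {ι : Type*} [Fintype ι] [DecidableEq ι] {G : Type*} [Group G] (e : G →* Matrix ι ι F)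
    {v ψ : ι → F} (hv : v ≠ 0) (hψ : ψ ≠ 0) (hp : ψ ⬝ᵥ v = 0) (hfull : ∀ x, ∃ g, e g = tmat v ψ x) :
    ∃ A : Subgroup G, IsTransvGroup e A v ψ := by
  refine ⟨{ carrier := {g | ∃ x, e g = tmat v ψ x}, mul_mem' := ?_, one_mem' := ?_, inv_mem' := ?_ },
    hv, hψ, hp, fun g hg => hg, fun x => ?_⟩
  · rintro g g' ⟨x, hx⟩ ⟨y, hy⟩
    exact ⟨x + y, by rw [map_mul, hx, hy, tmat_add hp]⟩
  · exact ⟨0, by rw [map_one, tmat_zero]⟩
  · rintro g ⟨x, hx⟩
    refine ⟨-x, left_inv_eq_right_inv (e_cancel' e g) ?_⟩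
    rw [hx, tmat_add hp, add_neg_cancel, tmat_zero]
  · obtain ⟨g, hg⟩ := hfull x
    exact ⟨g, ⟨x, hg⟩, hg⟩

/-- The inclusion of `SLₙ` in the matrices. -/
def slCoe (n : ℕ) (F : Type*) [Field F] :
    Matrix.SpecialLinearGroup (Fin n) F →* Matrix (Fin n) (Fin n) F where
  toFun g := g
  map_one' := rfl
  map_mul' _ _ := rfl

theorem slCoe_injective (n : ℕ) : Function.Injective (slCoe n F) := fun _ _ h => Subtype.ext h

theorem slCoe_apply {n : ℕ} (g : Matrix.SpecialLinearGroup (Fin n) F) :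
    slCoe n F g = (g : Matrix (Fin n) (Fin n) F) := rfl

variable {n : ℕ}

theorem sl_transvGroup {v ψ : Fin n → F} (hv : v ≠ 0) (hψ : ψ ≠ 0) (hp : ψ ⬝ᵥ v = 0) :
    ∃ A, IsTransvGroup (slCoe n F) A v ψ :=
  exists_transvGroup _ hv hψ hp fun x => ⟨Cfsg.Lib.Known.ThreeUnipotents.rankOne v ψ hp x, rfl⟩

theorem transvection_eq_tmat {ι : Type*} [Fintype ι] [DecidableEq ι] (i j : ι) (c : F) :
    Matrix.transvection i j c = tmat (Pi.single i 1) (Pi.single j 1) c := by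
  ext a b
  simp only [Matrix.transvection, tmat, Matrix.add_apply, Matrix.smul_apply, vecMulVec_apply, smul_eq_mul,
    Matrix.single_apply, Pi.single_apply]
  congr 1
  by_cases ha : a = i <;> by_cases hb : b = j <;> simp [ha, hb, Ne.symm, eq_comm]

/-- `SLₙ` moves every pair (centre, axis) to every other one. -/
theorem sl_pair_transitive (hn : 3 ≤ n) {v ψ w χ : Fin n → F} (hv : v ≠ 0) (hψ : ψ ≠ 0) (hp : ψ ⬝ᵥ v = 0)
    (hw : w ≠ 0) (hχ : χ ≠ 0) (hp' : χ ⬝ᵥ w = 0) :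
    ∃ g : Matrix.SpecialLinearGroup (Fin n) F,
      (g : Matrix (Fin n) (Fin n) F) *ᵥ v = w ∧ χ ᵥ* (g : Matrix (Fin n) (Fin n) F) = ψ := by
  have key : ∀ {v ψ : Fin n → F}, v ≠ 0 → ψ ≠ 0 → ψ ⬝ᵥ v = 0 → ∃ g : Matrix.SpecialLinearGroup (Fin n) F,
      (g : Matrix (Fin n) (Fin n) F) *ᵥ Pi.single ⟨0, by omega⟩ 1 = v ∧
      ψ ᵥ* (g : Matrix (Fin n) (Fin n) F) = Pi.single ⟨n - 1, by omega⟩ 1 := by
    intro v ψ hv hψ hp
    obtain ⟨g, c, hc, hg1, hg2⟩ := Cfsg.Lib.Known.AutPSLn.exists_conj_standard hn hv hψ hp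
    set i0 : Fin n := ⟨0, by omega⟩
    set i1 : Fin n := ⟨1, by omega⟩
    set il : Fin n := ⟨n - 1, by omega⟩
    have hl1 : il ≠ i1 := by simp [il, i1, Fin.ext_iff]; omega
    have h0l : i0 ≠ il := by simp [i0, il, Fin.ext_iff]; omega
    have h01 : i0 ≠ i1 := by simp [i0, i1]
    refine ⟨g * Matrix.SpecialLinearGroup.diag2n hl1 c⁻¹ (inv_ne_zero hc), ?_, ?_⟩
    · rw [Matrix.SpecialLinearGroup.coe_mul, ← mulVec_mulVec]
      rw [show (Matrix.SpecialLinearGroup.diag2n hl1 c⁻¹ (inv_ne_zero hc) : Matrix (Fin n) (Fin n) F) *ᵥ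
        Pi.single i0 1 = Pi.single i0 1 from ?_]
      · exact hg1
      · change (diagonal fun j => if j = il then c⁻¹ else if j = i1 then c⁻¹⁻¹ else 1) *ᵥ Pi.single i0 1 = _
        ext j
        rw [mulVec_diagonal]
        by_cases hj : j = i0
        · subst hj; simp [h0l, h01]
        · simp [hj]
    · rw [Matrix.SpecialLinearGroup.coe_mul, ← vecMul_vecMul, hg2]
      change (c • Pi.single il (1 : F)) ᵥ*
        (diagonal fun j => if j = il then c⁻¹ else if j = i1 then c⁻¹⁻¹ else 1) = _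
      ext j
      rw [vecMul_diagonal]
      by_cases hj : j = il
      · subst hj; simp [hc]
      · simp [hj]
  obtain ⟨g, hg1, hg2⟩ := key hv hψ hp
  obtain ⟨h, hh1, hh2⟩ := key hw hχ hp'
  have hgg : ((g⁻¹ : Matrix.SpecialLinearGroup (Fin n) F) : Matrix (Fin n) (Fin n) F) *
      (g : Matrix (Fin n) (Fin n) F) = 1 := e_cancel' (slCoe n F) g
  have hgg' : (g : Matrix (Fin n) (Fin n) F) *
      ((g⁻¹ : Matrix.SpecialLinearGroup (Fin n) F) : Matrix (Fin n) (Fin n) F) = 1 := e_cancel (slCoe n F) g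
  refine ⟨h * g⁻¹, ?_, ?_⟩
  · rw [Matrix.SpecialLinearGroup.coe_mul, ← mulVec_mulVec, ← hg1, mulVec_mulVec (Pi.single _ (1 : F)), hgg,
      one_mulVec, hh1]
  · rw [Matrix.SpecialLinearGroup.coe_mul, ← vecMul_vecMul, hh2, ← hg2, vecMul_vecMul, hgg', vecMul_one]

theorem exists_both_dot {ι : Type*} [Fintype ι] [DecidableEq ι] {ψ ψ' : ι → F} (h : ψ ≠ 0) (h' : ψ' ≠ 0) :
    ∃ w, ψ ⬝ᵥ w ≠ 0 ∧ ψ' ⬝ᵥ w ≠ 0 := by
  obtain ⟨i, hi⟩ := Function.ne_iff.1 h
  obtain ⟨j, hj⟩ := Function.ne_iff.1 h'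
  by_cases h1 : ψ' i ≠ 0
  · exact ⟨Pi.single i 1, by simpa using hi, by simpa using h1⟩
  by_cases h2 : ψ j ≠ 0
  · exact ⟨Pi.single j 1, by simpa using h2, by simpa using hj⟩
  push Not at h1 h2
  refine ⟨Pi.single i 1 + Pi.single j 1, ?_, ?_⟩
  · rw [dotProduct_add]; simpa [h2] using hi
  · rw [dotProduct_add]; simpa [h1] using hj

/-- A common neighbour axis. -/
theorem exists_axis {ι : Type*} [Fintype ι] [DecidableEq ι] {v v' ψ ψ' w : ι → F} (hv : v ≠ 0) (hv' : v' ≠ 0)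
    (hp : ψ ⬝ᵥ v = 0) (hp' : ψ' ⬝ᵥ v' = 0) (hw : ψ ⬝ᵥ w ≠ 0) (hw' : ψ' ⬝ᵥ w ≠ 0) :
    ∃ χ, χ ⬝ᵥ w = 0 ∧ χ ⬝ᵥ v ≠ 0 ∧ χ ⬝ᵥ v' ≠ 0 := by
  have one : ∀ {u φ : ι → F}, u ≠ 0 → φ ⬝ᵥ u = 0 → φ ⬝ᵥ w ≠ 0 → ∃ χ, χ ⬝ᵥ w = 0 ∧ χ ⬝ᵥ u ≠ 0 := by
    intro u φ hu hpu hpw
    by_contra hno
    push Not at hno
    have hm : ∀ i j, w i * u j = w j * u i := by
      intro i j
      have := hno (w i • Pi.single j 1 - w j • Pi.single i 1) (by simp [sub_dotProduct, mul_comm])
      simp [sub_dotProduct] at this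
      linear_combination this
    have hw0 : w ≠ 0 := fun h => hpw (by rw [h, dotProduct_zero])
    obtain ⟨i, hi⟩ := Function.ne_iff.1 hw0
    have hu' : u = (u i / w i) • w := funext fun j => by
      rw [Pi.smul_apply, smul_eq_mul, div_mul_eq_mul_div, eq_div_iff hi]
      linear_combination hm i j
    rw [hu', dotProduct_smul, smul_eq_mul, mul_eq_zero] at hpu
    exact hu (by rw [hu', hpu.resolve_right hpw, zero_smul])
  obtain ⟨χ₁, h1, h1'⟩ := one hv hp hw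
  obtain ⟨χ₂, h2, h2'⟩ := one hv' hp' hw'
  by_cases a : χ₁ ⬝ᵥ v' ≠ 0
  · exact ⟨χ₁, h1, h1', a⟩
  by_cases b : χ₂ ⬝ᵥ v ≠ 0
  · exact ⟨χ₂, h2, b, h2'⟩
  push Not at a b
  refine ⟨χ₁ + χ₂, by rw [add_dotProduct, h1, h2, add_zero], ?_, ?_⟩
  · rw [add_dotProduct, b, add_zero]; exact h1'
  · rw [add_dotProduct, a, zero_add]; exact h2'

/-- The root subgroups of `SLₙ`. -/
def slRoots (n : ℕ) (F : Type*) [Field F] : Set (Subgroup (Matrix.SpecialLinearGroup (Fin n) F)) :=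
  {A | ∃ v ψ, IsTransvGroup (slCoe n F) A v ψ}

theorem sl_roots_spec (hn : 3 ≤ n) :
    IsRootSubgroupClass (slRoots n F) ∧ IsNondegenerateRootSet (slRoots n F) ∧
      IsKRootSubgroupSet F (slRoots n F) ∧ IsConnectedFamily (FAdj (slRoots n F)) (slRoots n F) := by
  have hi := slCoe_injective (F := F) n
  obtain ⟨hset, hk⟩ := transv_rootSet hi (S := slRoots n F) (fun _ _ => True)
    (fun A ⟨v, ψ, hA⟩ => ⟨v, ψ, trivial, hA⟩)
    (fun A B v ψ w χ _ _ hA hB ha hb => by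
      obtain ⟨C, hC⟩ := sl_transvGroup hA.hv hB.hψ hb
      exact ⟨C, ⟨_, _, hC⟩, hC⟩)
    (by
      refine Cfsg.Lib.Classical.eq_top_of_transvection_mem _ fun i j hij c => ?_
      obtain ⟨A, hA⟩ := sl_transvGroup (n := n) (F := F) (v := Pi.single i 1) (ψ := Pi.single j 1)
        (by simp) (by simp) (by simp [hij])
      exact le_iSup₂ (f := fun (A : Subgroup (Matrix.SpecialLinearGroup (Fin n) F)) (_ : A ∈ slRoots n F) => A)
        A ⟨_, _, hA⟩ (hA.mem_of hi (transvection_eq_tmat i j c)))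
    (fun A ⟨v, ψ, hA⟩ g => ⟨_, _, hA.conj g⟩)
  set i0 : Fin n := ⟨0, by omega⟩
  set i1 : Fin n := ⟨1, by omega⟩
  set i2 : Fin n := ⟨2, by omega⟩
  have h01 : i0 ≠ i1 := by simp [i0, i1]
  have h02 : i0 ≠ i2 := by simp [i0, i2]
  have h12 : i1 ≠ i2 := by simp [i1, i2]
  obtain ⟨A01, hA01⟩ := sl_transvGroup (n := n) (F := F) (v := Pi.single i0 1) (ψ := Pi.single i1 1)
    (by simp) (by simp) (by simp [h01])
  obtain ⟨A02, hA02⟩ := sl_transvGroup (n := n) (F := F) (v := Pi.single i0 1) (ψ := Pi.single i2 1)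
    (by simp) (by simp) (by simp [h02])
  obtain ⟨A10, hA10⟩ := sl_transvGroup (n := n) (F := F) (v := Pi.single i1 1) (ψ := Pi.single i0 1)
    (by simp) (by simp) (by simp [h01.symm])
  obtain ⟨A12, hA12⟩ := sl_transvGroup (n := n) (F := F) (v := Pi.single i1 1) (ψ := Pi.single i2 1)
    (by simp) (by simp) (by simp [h12])
  refine ⟨⟨hset, ⟨A01, _, _, hA01⟩, ?_⟩, ⟨?_, ?_, ?_⟩, hk, ?_⟩
  · rintro A ⟨v, ψ, hA⟩ B ⟨w, χ, hB⟩
    obtain ⟨g, hg1, hg2⟩ := sl_pair_transitive hn hA.hv hA.hψ hA.perp hB.hv hB.hψ hB.perp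
    refine ⟨g, hB.unique hi ?_⟩
    have h := hA.conj g
    have e1 : slCoe n F g *ᵥ v = w := hg1
    have e2 : ψ ᵥ* slCoe n F g⁻¹ = χ := by
      rw [← hg2, slCoe_apply, vecMul_vecMul]
      change χ ᵥ* (slCoe n F g * slCoe n F g⁻¹) = χ
      rw [e_cancel, vecMul_one]
    rwa [e1, e2] at h
  · refine ⟨A01, ⟨_, _, hA01⟩, A02, ⟨_, _, hA02⟩, fun he => ?_,
      transv_comm_bot hi hA01 hA02 (by simp [h01]) (by simp [h02])⟩
    obtain ⟨g, hg, hge⟩ := hA01.full 1
    obtain ⟨x, hx⟩ := hA02.sub g (he ▸ hg)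
    have := congrFun (congrFun (hge.symm.trans hx) i0) i1
    simp [tmat, vecMulVec_apply, h01, h12] at this
  · exact ⟨A01, ⟨_, _, hA01⟩, A10, ⟨_, _, hA10⟩, (transv_pair hi hA01 hA10 (by simp) (by simp)).1⟩
  · exact ⟨A01, ⟨_, _, hA01⟩, A12, ⟨_, _, hA12⟩,
      transv_commutator_case hi hA01 hA12 hA02 (by simp) (S := slRoots n F) ⟨_, _, hA02⟩⟩
  · rintro A ⟨v, ψ, hA⟩ B ⟨w, χ, hB⟩
    obtain ⟨u, hu, hu'⟩ := exists_both_dot hA.hψ hB.hψ
    obtain ⟨φ, hφ, hφv, hφw⟩ := exists_axis hA.hv hB.hv hA.perp hB.perp hu hu'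
    obtain ⟨C, hC⟩ := sl_transvGroup (n := n) (F := F)
      (fun h => hu (by rw [h, dotProduct_zero])) (fun h => hφv (by rw [h, zero_dotProduct])) hφ
    exact (Relation.ReflTransGen.single (show FAdj (slRoots n F) A C from
        ⟨⟨_, _, hA⟩, ⟨_, _, hC⟩, (transv_pair hi hA hC hu hφv).1⟩)).tail
      ⟨⟨_, _, hC⟩, ⟨_, _, hB⟩, (transv_pair hi hC hB hφw hu').1⟩

/-- The conjugates of the standard root group are all root subgroups. -/
theorem sl_roots_eq (n : ℕ) :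
    {A : Subgroup (Matrix.SpecialLinearGroup (Fin (n + 3)) F) |
        ∃ g : Matrix.SpecialLinearGroup (Fin (n + 3)) F,
          A = Cfsg.conjBy (Subgroup.closure {t : Matrix.SpecialLinearGroup (Fin (n + 3)) F |
            ∃ c : F, (t : Matrix (Fin (n + 3)) (Fin (n + 3)) F) = Matrix.transvection 0 1 c}) g} =
      slRoots (n + 3) F := by
  have hi := slCoe_injective (F := F) (n + 3)
  obtain ⟨A0, hA0⟩ := sl_transvGroup (n := n + 3) (F := F) (v := Pi.single 0 1) (ψ := Pi.single 1 1)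
    (by simp) (by simp) (by simp)
  have hcl : Subgroup.closure {t : Matrix.SpecialLinearGroup (Fin (n + 3)) F |
      ∃ c : F, (t : Matrix (Fin (n + 3)) (Fin (n + 3)) F) = Matrix.transvection 0 1 c} = A0 := by
    refine le_antisymm ((closure_le _).mpr ?_) fun g hg => ?_
    · rintro t ⟨c, hc⟩
      exact hA0.mem_of hi (hc.trans (transvection_eq_tmat _ _ c))
    · obtain ⟨x, hx⟩ := hA0.sub g hg
      exact subset_closure ⟨x, hx.trans (transvection_eq_tmat _ _ x).symm⟩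
  rw [hcl]
  ext A
  constructor
  · rintro ⟨g, rfl⟩
    exact ⟨_, _, hA0.conj g⟩
  · intro hA
    exact (sl_roots_spec (F := F) (by omega : 3 ≤ n + 3)).1.2.2 A0 ⟨_, _, hA0⟩ A hA

/-! ### Transvections as root involutions in characteristic two -/

theorem sl2_sq (M : Matrix (Fin 2) (Fin 2) F) (d : F) (hd : M 0 0 + M 1 1 = d)
    (hdet : M 0 0 * M 1 1 - M 0 1 * M 1 0 = 1) [CharP F 2] : M * M = d • M + 1 := by
  have h2 : (2 : F) = 0 := CharTwo.two_eq_zero
  subst hd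
  ext i j
  fin_cases i <;> fin_cases j <;> simp [Matrix.mul_apply, Fin.sum_univ_two]
  · linear_combination -hdet - h2
  · ring
  · ring
  · linear_combination -hdet - h2

theorem orderOf_odd_of_trace [CharP F 2] [Finite F] (M : Matrix.SpecialLinearGroup (Fin 2) F) {d : F}
    (hd : (M : Matrix (Fin 2) (Fin 2) F) 0 0 + (M : Matrix (Fin 2) (Fin 2) F) 1 1 = d) (hd0 : d ≠ 0)
    (h01 : (M : Matrix (Fin 2) (Fin 2) F) 0 1 ≠ 0) :
    Odd (orderOf M) ∧ (d = 1 → orderOf M ∣ 3) := by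
  have hdet := M.2
  rw [Matrix.det_fin_two] at hdet
  have hsq := sl2_sq (M : Matrix (Fin 2) (Fin 2) F) d hd hdet
  have h2 : (2 : F) = 0 := CharTwo.two_eq_zero
  set X := (M : Matrix (Fin 2) (Fin 2) F) with hX
  refine ⟨?_, fun h1 => ?_⟩
  · have lin : ∀ k : ℕ, ∃ x y : F, X ^ k = x • X + y • 1 := by
      intro k
      induction k with
      | zero => exact ⟨0, 1, by simp⟩
      | succ k ih =>
        obtain ⟨x, y, h⟩ := ih
        refine ⟨x * d + y, x, ?_⟩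
        rw [pow_succ, h, add_mul, smul_mul_assoc, smul_mul_assoc, hsq, one_mul]
        module
    rcases Nat.even_or_odd (orderOf M) with ⟨m, hm⟩ | h
    · exfalso
      have hpos : 0 < orderOf M := orderOf_pos M
      obtain ⟨x, y, hxy⟩ := lin m
      have hsq1 : X ^ m * X ^ m = 1 := by
        rw [← pow_add, ← hm, hX, ← Matrix.SpecialLinearGroup.coe_pow, pow_orderOf_eq_one,
          Matrix.SpecialLinearGroup.coe_one]
      rw [hxy] at hsq1
      have e : (x * x * d) • X + (x * x + y * y) • (1 : Matrix (Fin 2) (Fin 2) F) = 1 := by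
        refine Eq.trans ?_ hsq1
        simp only [add_mul, mul_add, smul_mul_assoc, mul_smul_comm, one_mul, mul_one, hsq, smul_smul]
        match_scalars
        · linear_combination (-(x * y)) * h2
        · ring
      have e01 := congrFun (congrFun e 0) 1
      have e00 := congrFun (congrFun e 0) 0
      simp [hd0, h01] at e01
      simp [e01] at e00
      have hy : y = 1 := by
        have : (y - 1) * (y - 1) = 0 := by linear_combination e00 + (1 - y) * h2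
        exact sub_eq_zero.mp (mul_self_eq_zero.mp this)
      have hM : M ^ m = 1 := Subtype.ext (by
        rw [Matrix.SpecialLinearGroup.coe_pow, ← hX, hxy, e01, hy, zero_smul, zero_add, one_smul,
          Matrix.SpecialLinearGroup.coe_one])
      have := orderOf_dvd_of_pow_eq_one hM
      have := Nat.le_of_dvd (by omega) this
      omega
    · exact h
  · refine orderOf_dvd_of_pow_eq_one (Subtype.ext ?_)
    rw [Matrix.SpecialLinearGroup.coe_pow, ← hX, pow_succ, pow_two, hsq, h1, one_smul, add_mul, one_mul, hsq, h1,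
      one_smul, Matrix.SpecialLinearGroup.coe_one]
    ext i j
    simp only [Matrix.add_apply]
    linear_combination (X i j) * h2

/-- The transvections of `SLₙ`. -/
def slTransvs (n : ℕ) (F : Type*) [Field F] : Set (Matrix.SpecialLinearGroup (Fin n) F) :=
  {t | ∃ v ψ : Fin n → F, v ≠ 0 ∧ ψ ≠ 0 ∧ ψ ⬝ᵥ v = 0 ∧ (t : Matrix (Fin n) (Fin n) F) = tmat v ψ 1}

theorem tmat_scale {ι : Type*} [Fintype ι] [DecidableEq ι] (v ψ : ι → F) (x : F) :
    tmat (x • v) ψ 1 = tmat v ψ x := by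
  simp [tmat, smul_vecMulVec]

theorem slTransvs_mem_root {t : Matrix.SpecialLinearGroup (Fin n) F} (ht : t ∈ slTransvs n F) :
    ∃ A v ψ, IsTransvGroup (slCoe n F) A v ψ ∧ t ∈ A ∧ slCoe n F t = tmat v ψ 1 := by
  obtain ⟨v, ψ, hv, hψ, hp, he⟩ := ht
  obtain ⟨A, hA⟩ := sl_transvGroup hv hψ hp
  exact ⟨A, v, ψ, hA, hA.mem_of (slCoe_injective n) he, he⟩

theorem slTransvs_rootInvolutions [Finite F] [CharP F 2] (hn : 3 ≤ n) :
    IsRootInvolutionClass (slTransvs n F) ∧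
      (Nat.card F = 2 → IsThreeFourPlusTranspositionSet (slTransvs n F)) := by
  have hi := slCoe_injective (F := F) n
  have h2 : (1 : F) + 1 = 0 := CharTwo.add_self_eq_zero 1
  have hne1 : ∀ t ∈ slTransvs n F, t ≠ 1 := by
    intro t ht h
    obtain ⟨v, ψ, hv, hψ, hp, he⟩ := ht
    rw [h, Matrix.SpecialLinearGroup.coe_one, ← tmat_zero v ψ] at he
    exact zero_ne_one (tmat_inj hv hψ he)
  have hsq : ∀ t ∈ slTransvs n F, t * t = 1 := by
    intro t ht
    obtain ⟨v, ψ, hv, hψ, hp, he⟩ := ht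
    apply Subtype.ext
    rw [Matrix.SpecialLinearGroup.coe_mul, he, tmat_add hp, h2, tmat_zero, Matrix.SpecialLinearGroup.coe_one]
  have hinv : ∀ t ∈ slTransvs n F, t⁻¹ = t := fun t ht => inv_eq_of_mul_eq_one_right (hsq t ht)
  have hconj : ∀ t ∈ slTransvs n F, ∀ g, g * t * g⁻¹ ∈ slTransvs n F := by
    intro t ht g
    obtain ⟨A, v, ψ, hA, -, he⟩ := slTransvs_mem_root ht
    have h := hA.conj g
    refine ⟨_, _, h.hv, h.hψ, h.perp, ?_⟩
    change slCoe n F (g * t * g⁻¹) = _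
    rw [map_mul, map_mul, he, tmat, tmat, mul_add, mul_one, add_mul, e_cancel, one_smul, one_smul, mul_outer_mul]
  -- the product of two transvections
  have four : ∀ {s t : Matrix.SpecialLinearGroup (Fin n) F} {v ψ w χ : Fin n → F}, s ∈ slTransvs n F →
      t ∈ slTransvs n F → (∃ A, IsTransvGroup (slCoe n F) A v ψ) → (∃ B, IsTransvGroup (slCoe n F) B w χ) →
      slCoe n F s = tmat v ψ 1 → slCoe n F t = tmat w χ 1 → ψ ⬝ᵥ w ≠ 0 → χ ⬝ᵥ v = 0 →
      orderOf (s * t) = 4 ∧ (s * t) ^ 2 ∈ slTransvs n F := by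
    intro s t v ψ w χ hs ht ⟨A, hA⟩ ⟨B, hB⟩ es et ha hb
    have hc : slCoe n F ((s * t) ^ 2) = tmat ((ψ ⬝ᵥ w) • v) χ 1 := by
      rw [show (s * t) ^ 2 = s * t * s⁻¹ * t⁻¹ by rw [hinv s hs, hinv t ht, pow_two, mul_assoc (s * t) s t],
        transv_commutator_elem hA hB hb es et, tmat_scale, one_mul, one_mul]
    have hmem : (s * t) ^ 2 ∈ slTransvs n F :=
      ⟨_, _, smul_ne_zero ha hA.hv, hB.hψ, by rw [dotProduct_smul, hb, smul_zero], hc⟩
    refine ⟨?_, hmem⟩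
    exact orderOf_eq_prime_pow (p := 2) (n := 1) (by simpa using hne1 _ hmem)
      (by rw [show 2 ^ (1 + 1) = 2 * 2 by norm_num, pow_mul, pow_two]; exact hsq _ hmem)
  have odd : ∀ {s t : Matrix.SpecialLinearGroup (Fin n) F} {A B v ψ w χ},
      IsTransvGroup (slCoe n F) A v ψ → IsTransvGroup (slCoe n F) B w χ →
      slCoe n F s = tmat v ψ 1 → slCoe n F t = tmat w χ 1 → ψ ⬝ᵥ w ≠ 0 → χ ⬝ᵥ v ≠ 0 →
      Odd (orderOf (s * t)) ∧ (Nat.card F = 2 → orderOf (s * t) ∣ 3) := by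
    intro s t A B v ψ w χ hA hB es et ha hb
    obtain ⟨φ, hφ, hU, hL⟩ := exists_sl2_embedding hi hA hB ha hb
    obtain ⟨a, ha', rfl⟩ : s ∈ (upperUnipotentSL2 F).map φ := hU ▸ hA.mem_of hi es
    obtain ⟨b, hb', rfl⟩ : t ∈ (lowerUnipotentSL2 F).map φ := hL ▸ hB.mem_of hi et
    obtain ⟨x, rfl⟩ := mem_upper_iff.mp ha'
    obtain ⟨y, rfl⟩ := mem_lower_iff.mp hb'
    have hx : x ≠ 0 := fun h => by
      rw [h, upEl_zero, map_one, map_one, ← tmat_zero v ψ] at es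
      exact zero_ne_one (tmat_inj hA.hv hA.hψ es)
    have hy : y ≠ 0 := fun h => by
      rw [h, loEl_zero, map_one, map_one, ← tmat_zero w χ] at et
      exact zero_ne_one (tmat_inj hB.hv hB.hψ et)
    rw [← map_mul, orderOf_injective φ hφ]
    have htr : ((upEl x * loEl y : Matrix.SpecialLinearGroup (Fin 2) F) : Matrix (Fin 2) (Fin 2) F) 0 0 +
        ((upEl x * loEl y : Matrix.SpecialLinearGroup (Fin 2) F) : Matrix (Fin 2) (Fin 2) F) 1 1 = x * y := by
      simp [upEl_coe, loEl_coe, Matrix.mul_apply, Fin.sum_univ_two]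
      linear_combination h2
    obtain ⟨h1, h3⟩ := orderOf_odd_of_trace _ htr (mul_ne_zero hx hy)
      (by simpa [upEl_coe, loEl_coe, Matrix.mul_apply, Fin.sum_univ_two] using hx)
    refine ⟨h1, fun hq => h3 ?_⟩
    haveI := Fintype.ofFinite F
    rw [Nat.card_eq_fintype_card] at hq
    have hF : ∀ z : F, z ≠ 0 → z = 1 := fun z hz => by
      have := FiniteField.pow_card_sub_one_eq_one z hz
      rwa [hq, pow_one] at this
    exact hF _ (mul_ne_zero hx hy)
  have cases3 : ∀ s ∈ slTransvs n F, ∀ t ∈ slTransvs n F, s * t = t * s ∨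
      (Odd (orderOf (s * t)) ∧ (Nat.card F = 2 → orderOf (s * t) ∣ 3)) ∨
      (orderOf (s * t) = 4 ∧ (s * t) ^ 2 ∈ slTransvs n F) := by
    intro s hs t ht
    obtain ⟨A, v, ψ, hA, hsA, es⟩ := slTransvs_mem_root hs
    obtain ⟨B, w, χ, hB, htB, et⟩ := slTransvs_mem_root ht
    by_cases ha : ψ ⬝ᵥ w = 0
    · by_cases hb : χ ⬝ᵥ v = 0
      · exact Or.inl (transv_commute hi hA hB ha hb hsA htB)
      · obtain ⟨h4, hm⟩ := four ht hs ⟨B, hB⟩ ⟨A, hA⟩ et es hb ha
        have e : s * t = (t * s)⁻¹ := by rw [_root_.mul_inv_rev, hinv s hs, hinv t ht]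
        refine Or.inr (Or.inr ⟨by rw [e, orderOf_inv, h4], ?_⟩)
        rw [e, inv_pow, hinv _ hm]
        exact hm
    · by_cases hb : χ ⬝ᵥ v = 0
      · exact Or.inr (Or.inr (four hs ht ⟨A, hA⟩ ⟨B, hB⟩ es et ha hb))
      · exact Or.inr (Or.inl (odd hA hB es et ha hb))
  have hgen : Subgroup.closure (slTransvs n F) = ⊤ := by
    refine Cfsg.Lib.Classical.eq_top_of_transvection_mem _ fun i j hij c => ?_
    by_cases hc : c = 0
    · rw [hc, Matrix.SpecialLinearGroup.transvection_coeff_zero]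
      exact one_mem _
    · refine subset_closure ⟨c • Pi.single i 1, Pi.single j 1, smul_ne_zero hc (by simp), by simp, by simp [hij], ?_⟩
      rw [tmat_scale]
      exact transvection_eq_tmat i j c
  have hset : IsRootInvolutionSet (slTransvs n F) := by
    refine ⟨fun t ht => orderOf_eq_prime (by rw [pow_two]; exact hsq t ht) (hne1 t ht), hgen, hconj,
      fun s hs t ht => ?_⟩
    rcases cases3 s hs t ht with h | h | h
    · exact Or.inl h
    · exact Or.inr (Or.inl h.1)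
    · exact Or.inr (Or.inr h)
  refine ⟨⟨hset, ?_, ?_⟩, fun hq => ⟨hset, fun s hs t ht ho => ?_⟩⟩
  · exact ⟨Cfsg.Lib.Known.ThreeUnipotents.rankOne (Pi.single ⟨0, by omega⟩ 1) (Pi.single ⟨1, by omega⟩ 1)
      (by simp) 1, _, _, by simp, by simp, by simp, rfl⟩
  · rintro s ⟨v, ψ, hv, hψ, hp, es⟩ t ⟨w, χ, hw, hχ, hp', et⟩
    obtain ⟨g, hg1, hg2⟩ := sl_pair_transitive hn hv hψ hp hw hχ hp'
    refine ⟨g, hi ?_⟩
    have es' : slCoe n F s = tmat v ψ 1 := es
    have et' : slCoe n F t = tmat w χ 1 := et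
    rw [map_mul, map_mul, es', et', tmat, tmat, mul_add, mul_one, add_mul, e_cancel, one_smul, one_smul,
      mul_outer_mul, slCoe_apply, hg1, ← hg2, vecMul_vecMul]
    change _ = 1 + vecMulVec w (χ ᵥ* (slCoe n F g * slCoe n F g⁻¹))
    rw [e_cancel, vecMul_one]
  · rcases cases3 s hs t ht with h | h | h
    · left
      have hd : orderOf (s * t) ∣ 2 :=
        orderOf_dvd_of_pow_eq_one (by rw [(show Commute s t from h).mul_pow, pow_two, pow_two, hsq s hs, hsq t ht, one_mul])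
      rcases (Nat.dvd_prime Nat.prime_two).mp hd with h1 | h1
      · exact h1
      · rw [h1] at ho; exact absurd ho (by decide)
    · exact (Nat.dvd_prime Nat.prime_three).mp (h.2 hq)
    · rw [h.1] at ho; exact absurd ho (by decide)

theorem slTransvs_eq (n : ℕ) :
    {t : Matrix.SpecialLinearGroup (Fin (n + 3)) F | ∃ c : F, c ≠ 0 ∧
        ∃ g : Matrix.SpecialLinearGroup (Fin (n + 3)) F, ((g⁻¹ * t * g : Matrix.SpecialLinearGroup (Fin (n + 3)) F) :
          Matrix (Fin (n + 3)) (Fin (n + 3)) F) = Matrix.transvection 0 1 c} = slTransvs (n + 3) F := by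
  ext t
  constructor
  · rintro ⟨c, hc, g, hg⟩
    obtain ⟨A, hA⟩ := sl_transvGroup (n := n + 3) (F := F) (v := Pi.single 0 1) (ψ := Pi.single 1 1)
      (by simp) (by simp) (by simp)
    have h := hA.conj g
    refine ⟨c • (slCoe _ F g *ᵥ Pi.single 0 1), Pi.single 1 1 ᵥ* slCoe _ F g⁻¹, smul_ne_zero hc h.hv, h.hψ,
      by rw [dotProduct_smul, h.perp, smul_zero], ?_⟩
    have hg' : slCoe _ F (g⁻¹ * t * g) = tmat (Pi.single 0 1) (Pi.single 1 1) c :=
      hg.trans (transvection_eq_tmat _ _ c)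
    change slCoe _ F t = _
    rw [show t = g * (g⁻¹ * t * g) * g⁻¹ by group, map_mul, map_mul, hg', tmat_scale, tmat, tmat, mul_add, mul_one,
      add_mul, e_cancel, mul_smul_comm, smul_mul_assoc, mul_outer_mul]
  · rintro ⟨v, ψ, hv, hψ, hp, et⟩
    obtain ⟨g, hg1, hg2⟩ := sl_pair_transitive (n := n + 3) (F := F) (by omega)
      (v := Pi.single 0 1) (ψ := Pi.single 1 1) (by simp) (by simp) (by simp) hv hψ hp
    refine ⟨1, one_ne_zero, g, ?_⟩
    rw [transvection_eq_tmat]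
    change slCoe _ F (g⁻¹ * t * g) = _
    have et' : slCoe _ F t = tmat v ψ 1 := et
    rw [map_mul, map_mul, et', tmat, tmat, mul_add, mul_one, add_mul, e_cancel', one_smul, one_smul, mul_outer_mul,
      slCoe_apply g, hg2, ← hg1, mulVec_mulVec]
    change 1 + vecMulVec ((slCoe _ F g⁻¹ * slCoe _ F g) *ᵥ _) _ = _
    rw [e_cancel', one_mulVec]

end Cfsg.Lib.RootSub
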