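import Cfsg.Agent.RootSub.Transv

/-!
# Siegel transvection groups of totally singular lines
-/

set_option autoImplicit false
set_option linter.unusedSectionVars false
set_option linter.unusedVariables false
set_option linter.unusedSimpArgs false
set_option linter.style.haveILetI false

open Subgroup Matrix
open Cfsg

namespace Cfsg.Lib.RootSub.Siegel

universe u v w

/-- A quadratic form with nondegenerate polar form. -/
structure QS (F : Type u) (V : Type v) [Field F] [AddCommGroup V] [Module F V] where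
  q : V → F
  B : V →ₗ[F] V →ₗ[F] F
  q_add : ∀ a b, q (a + b) = q a + q b + B a b
  q_smul : ∀ (c : F) a, q (c • a) = c * c * q a
  nondeg : ∀ a, (∀ b, B a b = 0) → a = 0

variable {F : Type u} {V : Type v} [Field F] [AddCommGroup V] [Module F V] (Q : QS F V)

theorem QS.symm (a b : V) : Q.B a b = Q.B b a := by
  have h1 := Q.q_add a b
  have h2 := Q.q_add b a
  rw [add_comm b a, h1, add_comm (Q.q b) (Q.q a)] at h2
  exact add_left_cancel h2

theorem QS.self (a : V) : Q.B a a = Q.q a + Q.q a := by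
  have h1 := Q.q_add a a
  have h2 := Q.q_smul 2 a
  rw [two_smul, h1] at h2
  linear_combination h2

theorem QS.self_zero {a : V} (h : Q.q a = 0) : Q.B a a = 0 := by rw [Q.self, h, add_zero]

/-- A totally singular line, given by two vectors. -/
structure Sing (p r : V) : Prop where
  hp : Q.q p = 0
  hr : Q.q r = 0
  hpr : Q.B p r = 0
  li : ∀ a b : F, a • p + b • r = 0 → a = 0 ∧ b = 0

/-- A totally singular line opposite to the given one, in dual coordinates. -/
structure Frame (p r s u : V) : Prop where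
  hs : Q.q s = 0
  hu : Q.q u = 0
  hsu : Q.B s u = 0
  ps : Q.B p s = 1
  pu : Q.B p u = 0
  rs : Q.B r s = 0
  ru : Q.B r u = 1

variable {Q}

theorem Sing.ortho {p r : V} (h : Sing Q p r) :
    Q.B p p = 0 ∧ Q.B r r = 0 ∧ Q.B p r = 0 ∧ Q.B r p = 0 :=
  ⟨Q.self_zero h.hp, Q.self_zero h.hr, h.hpr, by rw [Q.symm, h.hpr]⟩

theorem Frame.sing {p r s u : V} (hf : Frame Q p r s u) : Sing Q s u := by
  refine ⟨hf.hs, hf.hu, hf.hsu, fun a b hab => ⟨?_, ?_⟩⟩
  · have := congrArg (Q.B p) hab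
    simpa [hf.ps, hf.pu] using this
  · have := congrArg (Q.B r) hab
    simpa [hf.rs, hf.ru] using this

/-- Linearly independent vectors have prescribed pairings. -/
theorem exists_pairing {k : ℕ} (f : Fin k → V) (hf : LinearIndependent F f) (a : Fin k → F) :
    ∃ x, ∀ i, Q.B (f i) x = a i := by
  let L : V →ₗ[F] (Fin k → F) := LinearMap.pi fun i => Q.B (f i)
  suffices h : LinearMap.range L = ⊤ by
    obtain ⟨x, hx⟩ := (h.ge : ⊤ ≤ LinearMap.range L) (Submodule.mem_top (x := a))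
    exact ⟨x, fun i => congrFun hx i⟩
  by_contra hne
  obtain ⟨φ, hφ, hle⟩ := (LinearMap.range L).exists_le_ker_of_lt_top (lt_top_iff_ne_top.mpr hne)
  have hc : ∀ y : Fin k → F, φ y = ∑ i, y i * φ (Pi.single i 1) := fun y => by
    conv_lhs => rw [pi_eq_sum_univ' y]
    rw [map_sum]
    exact Finset.sum_congr rfl fun i _ => by rw [map_smul, smul_eq_mul]
  have hsum : ∑ i, φ (Pi.single i 1) • f i = 0 := by
    refine Q.nondeg _ fun b => ?_
    have h1 : φ (L b) = 0 := hle (LinearMap.mem_range_self L b)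
    rw [hc] at h1
    rw [map_sum, LinearMap.sum_apply]
    refine Eq.trans (Finset.sum_congr rfl fun i _ => ?_) h1
    rw [map_smul, LinearMap.smul_apply, smul_eq_mul, mul_comm]
    rfl
  have h0 := Fintype.linearIndependent_iff.mp hf _ hsum
  exact hφ (LinearMap.ext fun y => by simp [hc y, h0])

theorem Sing.linearIndependent {p r : V} (h : Sing Q p r) : LinearIndependent F ![p, r] :=
  LinearIndependent.pair_iff.mpr h.li

/-- The opposite line obtained from two pairing vectors. -/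
theorem frame_of_pairing {p r x y : V} (h : Sing Q p r) (hxp : Q.B p x = 1) (hxr : Q.B r x = 0)
    (hyp : Q.B p y = 0) (hyr : Q.B r y = 1) :
    ∃ a b c : F, Frame Q p r (x + a • p) (y + b • p + c • r) := by
  obtain ⟨opp, orr, opr, orp⟩ := h.ortho
  have hs0 : Q.q (x + (-Q.q x) • p) = 0 := by
    rw [Q.q_add, Q.q_smul, h.hp, map_smul, smul_eq_mul, Q.symm x p, hxp]; ring
  set s := x + (-Q.q x) • p with hs
  have hps : Q.B p s = 1 := by simp [hs, hxp, opp]
  have hrs : Q.B r s = 0 := by simp [hs, hxr, orp]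
  set u₀ := y + (-Q.B y s) • p with hu₀
  have hpu₀ : Q.B p u₀ = 0 := by simp [hu₀, hyp, opp]
  have hru₀ : Q.B r u₀ = 1 := by simp [hu₀, hyr, orp]
  have hsu₀ : Q.B s u₀ = 0 := by
    rw [hu₀, map_add, map_smul, smul_eq_mul, Q.symm s p, hps, Q.symm s y]; ring
  refine ⟨-Q.q x, -Q.B y s, -Q.q u₀, ⟨hs0, ?_, ?_, hps, ?_, hrs, ?_⟩⟩
  · rw [Q.q_add, Q.q_smul, h.hr, map_smul, smul_eq_mul, Q.symm u₀ r, hru₀]; ring
  · rw [map_add, map_smul, smul_eq_mul, hsu₀, Q.symm s r, hrs]; ring
  · rw [map_add, map_smul, smul_eq_mul, hpu₀, opr]; ring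
  · rw [map_add, map_smul, smul_eq_mul, hru₀, orr]; ring

theorem exists_frame {p r : V} (h : Sing Q p r) : ∃ s u, Frame Q p r s u := by
  obtain ⟨x, hx⟩ := exists_pairing (Q := Q) _ h.linearIndependent ![1, 0]
  obtain ⟨y, hy⟩ := exists_pairing (Q := Q) _ h.linearIndependent ![0, 1]
  obtain ⟨a, b, c, hf⟩ := frame_of_pairing h (x := x) (y := y) (by simpa using hx 0) (by simpa using hx 1)
    (by simpa using hy 0) (by simpa using hy 1)
  exact ⟨_, _, hf⟩

variable (Q)

/-- The nilpotent operator of a line. -/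
def phi (p r : V) : Module.End F V := (Q.B.flip p).smulRight r - (Q.B.flip r).smulRight p

theorem phi_apply (p r a : V) : phi Q p r a = Q.B a p • r - Q.B a r • p := by
  simp [phi]

/-- A group of isometries containing all Siegel transvections. -/
structure Model (H : Type w) [Group H] where
  ρ : H →* Module.End F V
  inj : Function.Injective ρ
  isom : ∀ h a, Q.q (ρ h a) = Q.q a
  full : ∀ p r, Sing Q p r → ∀ c : F, ∃ h, ρ h = 1 + c • phi Q p r

variable {Q} {H : Type w} [Group H] (M : Model Q H)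

namespace Model

theorem bil (h : H) (a b : V) : Q.B (M.ρ h a) (M.ρ h b) = Q.B a b := by
  have h1 := Q.q_add (M.ρ h a) (M.ρ h b)
  rw [← map_add, M.isom, M.isom, M.isom, Q.q_add] at h1
  exact add_left_cancel h1.symm

theorem inv_apply (h : H) (a : V) : M.ρ h⁻¹ (M.ρ h a) = a := by
  rw [← Module.End.mul_apply, ← map_mul, inv_mul_cancel, map_one]; rfl

theorem apply_inv (h : H) (a : V) : M.ρ h (M.ρ h⁻¹ a) = a := by
  rw [← Module.End.mul_apply, ← map_mul, mul_inv_cancel, map_one]; rfl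

/-- The elements fixing the orthogonal space of a line. -/
def fx (p r : V) : Subgroup H where
  carrier := {h | ∀ a, Q.B a p = 0 → Q.B a r = 0 → M.ρ h a = a}
  mul_mem' {g h} hg hh a hp hr := by rw [map_mul, Module.End.mul_apply, hh a hp hr, hg a hp hr]
  one_mem' a _ _ := by rw [map_one]; rfl
  inv_mem' {g} hg a hp hr := by
    conv_lhs => rw [← hg a hp hr]
    exact M.inv_apply g a

theorem mem_fx {p r : V} {h : H} :
    h ∈ M.fx p r ↔ ∀ a, Q.B a p = 0 → Q.B a r = 0 → M.ρ h a = a := Iff.rfl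

/-- The Siegel transvection groups. -/
def roots : Set (Subgroup H) := {A | ∃ p r, Sing Q p r ∧ A = M.fx p r}

theorem fx_mem_roots {p r : V} (h : Sing Q p r) : M.fx p r ∈ M.roots := ⟨p, r, h, rfl⟩

theorem mem_fx_iff {p r : V} (h : Sing Q p r) {g : H} :
    g ∈ M.fx p r ↔ ∃ c : F, M.ρ g = 1 + c • phi Q p r := by
  refine ⟨fun hg => ?_, ?_⟩
  swap
  · rintro ⟨c, hc⟩ a hp hr
    rw [hc, LinearMap.add_apply, LinearMap.smul_apply, phi_apply, hp, hr, zero_smul, zero_smul, sub_zero, smul_zero,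
      add_zero]
    rfl
  obtain ⟨s, u, hf⟩ := exists_frame h
  obtain ⟨opp, orr, opr, orp⟩ := h.ortho
  set σ := M.ρ g with hσ
  have hker : ∀ a, Q.B (a - Q.B a p • s - Q.B a r • u) p = 0 ∧ Q.B (a - Q.B a p • s - Q.B a r • u) r = 0 := fun a => by
    constructor <;>
      simp [Q.symm s p, Q.symm s r, Q.symm u p, Q.symm u r, hf.ps, hf.pu, hf.rs, hf.ru]
  have hperp : ∀ x : V, ∀ b, Q.B b p = 0 → Q.B b r = 0 → Q.B (σ x - x) b = 0 := fun x b hb hb' => by
    have h1 : σ b = b := hg b hb hb'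
    rw [map_sub, LinearMap.sub_apply]
    nth_rewrite 1 [← h1]
    rw [hσ, M.bil, sub_self]
  have hspan : ∀ x : V, σ x - x = Q.B (σ x - x) s • p + Q.B (σ x - x) u • r := fun x => by
    have hp1 := hperp x
    generalize σ x - x = d at hp1 ⊢
    refine sub_eq_zero.mp (Q.nondeg _ fun b => ?_)
    have h1 := hp1 _ (hker b).1 (hker b).2
    simp only [map_sub, map_smul, smul_eq_mul] at h1
    simp only [map_sub, map_add, map_smul, LinearMap.sub_apply, LinearMap.add_apply, LinearMap.smul_apply, smul_eq_mul]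
    rw [Q.symm p b, Q.symm r b]
    linear_combination h1
  have hq0 : ∀ x, Q.B x (σ x - x) = 0 := fun x => by
    have h1 := M.isom g x
    rw [← hσ] at h1
    nth_rewrite 1 [← add_sub_cancel x (σ x)] at h1
    rw [Q.q_add] at h1
    have h2 : Q.q (σ x - x) = 0 := by
      rw [hspan x, Q.q_add, Q.q_smul, Q.q_smul, h.hp, h.hr]
      simp [opr]
    rw [h2, add_zero, add_eq_left] at h1
    exact h1
  set as := Q.B (σ s - s) s with has
  set bs := Q.B (σ s - s) u with hbs
  set au := Q.B (σ u - u) s with hau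
  set bu := Q.B (σ u - u) u with hbu
  have e1 : as = 0 := by
    have := hq0 s
    rwa [Q.symm] at this
  have e2 : bu = 0 := by
    have := hq0 u
    rwa [Q.symm] at this
  have e3 : as + bs + au + bu = 0 := by
    have := hq0 (s + u)
    rw [map_add σ, show σ s + σ u - (s + u) = (σ s - s) + (σ u - u) by abel, Q.symm] at this
    simp only [map_add, LinearMap.add_apply] at this
    linear_combination this
  refine ⟨bs, LinearMap.ext fun a => ?_⟩
  have h1 := hg _ (hker a).1 (hker a).2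
  rw [← hσ, map_sub, map_sub, map_smul, map_smul] at h1
  have hs' : σ s = s + bs • r := by
    have := hspan s
    rw [← has, ← hbs, e1, zero_smul, zero_add] at this
    rw [← this]; abel
  have hu' : σ u = u + (-bs) • p := by
    have := hspan u
    rw [← hau, ← hbu, e2, zero_smul, add_zero, show au = -bs by linear_combination e3 - e1 - e2] at this
    rw [← this]; abel
  rw [hs', hu', sub_sub, sub_eq_iff_eq_add] at h1
  rw [h1, LinearMap.add_apply, LinearMap.smul_apply, phi_apply, Module.End.one_apply]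
  module

theorem rebase {p r : V} (h : Sing Q p r) {a b c d : F} (hd : a * d - b * c ≠ 0) :
    Sing Q (a • p + b • r) (c • p + d • r) ∧ M.fx (a • p + b • r) (c • p + d • r) = M.fx p r := by
  obtain ⟨opp, orr, opr, orp⟩ := h.ortho
  refine ⟨⟨?_, ?_, ?_, fun x y hxy => ?_⟩, ?_⟩
  · rw [Q.q_add, Q.q_smul, Q.q_smul, h.hp, h.hr]; simp [opr]
  · rw [Q.q_add, Q.q_smul, Q.q_smul, h.hp, h.hr]; simp [opr]
  · simp [opp, orr, opr, orp]
  · obtain ⟨h1, h2⟩ := h.li (x * a + y * c) (x * b + y * d) (by rw [← hxy]; module)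
    constructor
    · exact (mul_eq_zero.mp (show x * (a * d - b * c) = 0 by linear_combination d * h1 - c * h2)).resolve_right hd
    · exact (mul_eq_zero.mp (show y * (a * d - b * c) = 0 by linear_combination a * h2 - b * h1)).resolve_right hd
  · ext g
    constructor
    · intro hg x hp hr
      exact hg x (by simp [hp, hr]) (by simp [hp, hr])
    · intro hg x hp hr
      simp only [map_add, map_smul, smul_eq_mul] at hp hr
      refine hg x ?_ ?_
      · exact (mul_eq_zero.mp (show Q.B x p * (a * d - b * c) = 0 by linear_combination d * hp - b * hr)).resolve_right hd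
      · exact (mul_eq_zero.mp (show Q.B x r * (a * d - b * c) = 0 by linear_combination a * hr - c * hp)).resolve_right hd

theorem conj_fx (g : H) (p r : V) : conjBy (M.fx p r) g = M.fx (M.ρ g p) (M.ρ g r) := by
  ext h
  rw [mem_conjBy]
  constructor
  · intro hh a hp hr
    have h1 := hh (M.ρ g⁻¹ a) (by rw [← M.bil g, M.apply_inv]; exact hp) (by rw [← M.bil g, M.apply_inv]; exact hr)
    rw [map_mul, map_mul, Module.End.mul_apply, Module.End.mul_apply, M.apply_inv] at h1
    have := congrArg (M.ρ g) h1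
    rwa [M.apply_inv, M.apply_inv] at this
  · intro hh a hp hr
    have h1 := hh (M.ρ g a) (by rw [M.bil]; exact hp) (by rw [M.bil]; exact hr)
    rw [map_mul, map_mul, Module.End.mul_apply, Module.End.mul_apply, h1, M.inv_apply]

theorem sing_map (g : H) {p r : V} (h : Sing Q p r) : Sing Q (M.ρ g p) (M.ρ g r) := by
  refine ⟨(M.isom g p).trans h.hp, (M.isom g r).trans h.hr, (M.bil g p r).trans h.hpr, fun a b hab => h.li a b ?_⟩
  have := congrArg (M.ρ g⁻¹) hab
  rwa [map_add, map_smul, map_smul, M.inv_apply, M.inv_apply, map_zero] at this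

theorem phi_sq {p r : V} (h : Sing Q p r) (a : V) : phi Q p r (phi Q p r a) = 0 := by
  obtain ⟨opp, orr, opr, orp⟩ := h.ortho
  simp [phi_apply, opp, orr, opr, orp]

theorem commutative {p r : V} (h : Sing Q p r) : IsMulCommutative (M.fx p r) := by
  refine ⟨⟨fun x y => Subtype.ext (M.inj ?_)⟩⟩
  obtain ⟨c, hc⟩ := (M.mem_fx_iff h).mp x.2
  obtain ⟨d, hd⟩ := (M.mem_fx_iff h).mp y.2
  show M.ρ ((x : H) * y) = M.ρ ((y : H) * x)
  rw [map_mul, map_mul, hc, hd]
  refine LinearMap.ext fun a => ?_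
  simp [Module.End.mul_apply, phi_sq h]
  abel

theorem phi_ne_zero {p r : V} (h : Sing Q p r) : phi Q p r ≠ 0 := fun h0 => by
  obtain ⟨s, u, hf⟩ := exists_frame h
  have h1 := congrArg (fun f : Module.End F V => Q.B u (f s)) h0
  simp [phi_apply, Q.symm s p, Q.symm s r, Q.symm u r, Q.symm u p, hf.ps, hf.pu, hf.rs, hf.ru] at h1

theorem fx_ne_bot {p r : V} (h : Sing Q p r) : M.fx p r ≠ ⊥ := fun h0 => by
  obtain ⟨g, hg⟩ := M.full p r h 1
  have h1 : g = 1 := Subgroup.mem_bot.mp (h0.le ((M.mem_fx_iff h).mpr ⟨1, hg⟩))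
  rw [h1, map_one, one_smul] at hg
  exact phi_ne_zero h (left_eq_add.mp hg)

/-! ### The three kinds of pairs -/

theorem pair_zero {p r p' r' : V} (h : Sing Q p r) (h' : Sing Q p' r') (h11 : Q.B p p' = 0) (h12 : Q.B p r' = 0)
    (h21 : Q.B r p' = 0) (h22 : Q.B r r' = 0) : ⁅M.fx p r, M.fx p' r'⁆ = ⊥ := by
  rw [eq_bot_iff, commutator_le]
  intro x hx y hy
  obtain ⟨c, hc⟩ := (M.mem_fx_iff h).mp hx
  obtain ⟨d, hd⟩ := (M.mem_fx_iff h').mp hy
  rw [Subgroup.mem_bot, commutatorElement_eq_one_iff_mul_comm]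
  refine M.inj ?_
  rw [map_mul, map_mul, hc, hd]
  refine LinearMap.ext fun a => ?_
  simp [Module.End.mul_apply, phi_apply, h11, h12, h21, h22, Q.symm p' p, Q.symm r' p, Q.symm p' r, Q.symm r' r]
  abel

/-- The operator realizing a matrix of determinant one on a frame. -/
def opD (Q : QS F V) (p r s u : V) (a b e f : F) : Module.End F V :=
  (a - 1) • ((Q.B.flip s).smulRight p + (Q.B.flip u).smulRight r) +
    b • ((Q.B.flip r).smulRight p - (Q.B.flip p).smulRight r) +
    e • ((Q.B.flip s).smulRight u - (Q.B.flip u).smulRight s) +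
    (f - 1) • ((Q.B.flip r).smulRight u + (Q.B.flip p).smulRight s)

theorem opD_apply (p r s u : V) (a b e f : F) (x : V) : opD Q p r s u a b e f x =
    ((a - 1) * Q.B x s + b * Q.B x r) • p + ((a - 1) * Q.B x u - b * Q.B x p) • r +
      (e * Q.B x s + (f - 1) * Q.B x r) • u + (-(e * Q.B x u) + (f - 1) * Q.B x p) • s := by
  simp [opD]
  module

/-- The action of `SL₂` on a frame. -/
def sl2End {p r s u : V} (h : Sing Q p r) (hf : Frame Q p r s u) :
    Matrix.SpecialLinearGroup (Fin 2) F →* Module.End F V where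
  toFun g := 1 + opD Q p r s u ((g : Matrix (Fin 2) (Fin 2) F) 0 0) ((g : Matrix (Fin 2) (Fin 2) F) 0 1)
    ((g : Matrix (Fin 2) (Fin 2) F) 1 0) ((g : Matrix (Fin 2) (Fin 2) F) 1 1)
  map_one' := LinearMap.ext fun x => by simp [opD_apply]
  map_mul' g k := LinearMap.ext fun x => by
    obtain ⟨opp, orr, opr, orp⟩ := h.ortho
    simp [opD_apply, Matrix.SpecialLinearGroup.coe_mul, Matrix.mul_apply, Fin.sum_univ_two, Module.End.mul_apply,
      opp, orr, opr, orp, hf.ps, hf.pu, hf.rs, hf.ru, Q.symm s p, Q.symm u p, Q.symm s r, Q.symm u r,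
      Q.self_zero hf.hs, Q.self_zero hf.hu, hf.hsu, Q.symm u s]
    module

theorem sl2End_upEl {p r s u : V} (h : Sing Q p r) (hf : Frame Q p r s u) (t : F) :
    sl2End h hf (upEl t) = 1 + (-t) • phi Q p r := by
  refine LinearMap.ext fun x => ?_
  simp [sl2End, upEl_coe, opD_apply, phi_apply]
  module

theorem sl2End_loEl {p r s u : V} (h : Sing Q p r) (hf : Frame Q p r s u) (t : F) :
    sl2End h hf (loEl t) = 1 + t • phi Q s u := by
  refine LinearMap.ext fun x => ?_
  simp [sl2End, loEl_coe, opD_apply, phi_apply]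
  module

theorem sl2End_injective {p r s u : V} (h : Sing Q p r) (hf : Frame Q p r s u) (g : Matrix.SpecialLinearGroup (Fin 2) F)
    (hg : sl2End h hf g = 1) : g = 1 := by
  obtain ⟨opp, orr, opr, orp⟩ := h.ortho
  have h1 := fun x y => congrArg (fun f : Module.End F V => Q.B y (f x)) hg
  have hs := Q.symm
  have a1 := h1 p s
  have a2 := h1 p r
  have a3 := h1 u s
  have a4 := h1 u r
  simp [sl2End, opD_apply, opp, orr, opr, orp, hf.ps, hf.pu, hf.rs, hf.ru, hs s p, hs u p, hs s r, hs u r,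
    Q.self_zero hf.hs, Q.self_zero hf.hu, hf.hsu, hs u s, sub_eq_zero] at a1 a2 a3 a4
  ext i j
  fin_cases i <;> fin_cases j <;> simp [a1, a2, a3, a4]

theorem pair_frame {p r s u : V} (h : Sing Q p r) (hf : Frame Q p r s u) :
    IsRankOnePair (M.fx p r) (M.fx s u) ∧ IsPSL2PairOver F (M.fx p r) (M.fx s u) := by
  have hsu := hf.sing
  have hex : ∀ g, ∃ x : H, M.ρ x = sl2End h hf g := by
    let S : Subgroup (Matrix.SpecialLinearGroup (Fin 2) F) :=
      { carrier := {g | ∃ x : H, M.ρ x = sl2End h hf g}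
        one_mem' := ⟨1, by rw [map_one, map_one]⟩
        mul_mem' := by rintro g k ⟨x, hx⟩ ⟨y, hy⟩; exact ⟨x * y, by rw [map_mul, map_mul, hx, hy]⟩
        inv_mem' := by
          rintro g ⟨x, hx⟩
          refine ⟨x⁻¹, left_inv_eq_right_inv (a := sl2End h hf g) ?_ ?_⟩
          · rw [← hx, ← map_mul, inv_mul_cancel, map_one]
          · rw [← map_mul, mul_inv_cancel, map_one] }
    have htop : S = ⊤ := by
      rw [eq_top_iff, ← lower_sup_upper]
      refine sup_le (fun g hg => ?_) (fun g hg => ?_)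
      · obtain ⟨t, rfl⟩ := mem_lower_iff.mp hg
        obtain ⟨x, hx⟩ := M.full s u hsu t
        exact ⟨x, by rw [hx, sl2End_loEl]⟩
      · obtain ⟨t, rfl⟩ := mem_upper_iff.mp hg
        obtain ⟨x, hx⟩ := M.full p r h (-t)
        exact ⟨x, by rw [hx, sl2End_upEl]⟩
    exact fun g => htop.ge (Subgroup.mem_top g)
  choose θ₀ hθ using hex
  let θ : Matrix.SpecialLinearGroup (Fin 2) F →* H :=
    { toFun := θ₀
      map_one' := M.inj (by rw [hθ, map_one, map_one])
      map_mul' := fun g k => M.inj (by rw [map_mul, hθ, hθ, hθ, map_mul]) }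
  have hθinj : Function.Injective θ := (injective_iff_map_eq_one θ).mpr fun g hg => sl2End_injective h hf g (by
    rw [← hθ]
    exact (congrArg M.ρ hg).trans (map_one M.ρ))
  have hU : (upperUnipotentSL2 F).map θ = M.fx p r := by
    ext x
    constructor
    · rintro ⟨g, hg, rfl⟩
      obtain ⟨t, rfl⟩ := mem_upper_iff.mp hg
      exact (M.mem_fx_iff h).mpr ⟨-t, (hθ _).trans (sl2End_upEl h hf t)⟩
    · intro hx
      obtain ⟨c, hc⟩ := (M.mem_fx_iff h).mp hx
      exact ⟨upEl (-c), mem_upper_iff.mpr ⟨_, rfl⟩,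
        M.inj ((hθ _).trans (by rw [sl2End_upEl, neg_neg, hc]))⟩
  have hL : (lowerUnipotentSL2 F).map θ = M.fx s u := by
    ext x
    constructor
    · rintro ⟨g, hg, rfl⟩
      obtain ⟨t, rfl⟩ := mem_lower_iff.mp hg
      exact (M.mem_fx_iff hsu).mpr ⟨t, (hθ _).trans (sl2End_loEl h hf t)⟩
    · intro hx
      obtain ⟨c, hc⟩ := (M.mem_fx_iff hsu).mp hx
      exact ⟨loEl c, mem_lower_iff.mpr ⟨_, rfl⟩, M.inj ((hθ _).trans (by rw [sl2End_loEl, hc]))⟩
  refine ⟨?_, θ, ?_, ?_, hU, hL⟩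
  · rw [← hU, ← hL]
    exact map_pair θ (RankOnePair_symm sl2_isRankOnePair)
      fun he => sl2_isRankOnePair.ne (Subgroup.map_injective hθinj he).symm
  · rw [MonoidHom.range_eq_map, ← lower_sup_upper, Subgroup.map_sup, hU, hL, sup_comm]
  · rw [(MonoidHom.ker_eq_bot_iff θ).mpr hθinj]
    exact bot_le

theorem pair_opposite {p r p' r' : V} (h : Sing Q p r) (h' : Sing Q p' r')
    (hd : Q.B p p' * Q.B r r' - Q.B p r' * Q.B r p' ≠ 0) :
    IsRankOnePair (M.fx p r) (M.fx p' r') ∧ IsPSL2PairOver F (M.fx p r) (M.fx p' r') := by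
  set δ := Q.B p p' * Q.B r r' - Q.B p r' * Q.B r p' with hδ
  obtain ⟨hs, he⟩ := M.rebase h' (a := δ⁻¹ * Q.B r r') (b := -(δ⁻¹ * Q.B r p')) (c := -(δ⁻¹ * Q.B p r'))
    (d := δ⁻¹ * Q.B p p') (by
      rw [show δ⁻¹ * Q.B r r' * (δ⁻¹ * Q.B p p') - -(δ⁻¹ * Q.B r p') * -(δ⁻¹ * Q.B p r') = δ⁻¹ * δ⁻¹ * δ by
        rw [hδ]; ring, mul_assoc, inv_mul_cancel₀ hd, mul_one]
      exact inv_ne_zero hd)
  rw [← he]
  refine M.pair_frame h ⟨hs.hp, hs.hr, hs.hpr, ?_, ?_, ?_, ?_⟩
  all_goals simp only [map_add, map_smul, smul_eq_mul]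
  · exact (show _ = δ⁻¹ * δ by rw [hδ]; ring).trans (inv_mul_cancel₀ hd)
  · ring
  · ring
  · exact (show _ = δ⁻¹ * δ by rw [hδ]; ring).trans (inv_mul_cancel₀ hd)

theorem pair_adapted {p r p' r' : V} (h : Sing Q p r) (h' : Sing Q p' r') (h11 : Q.B p p' = 0) (h12 : Q.B p r' = 0)
    (h21 : Q.B r p' = 0) (h22 : Q.B r r' = 1) :
    ⁅M.fx p r, M.fx p' r'⁆ = ⊥ ∨ RootCommutatorCase M.roots (M.fx p r) (M.fx p' r') := by
  obtain ⟨opp, orr, opr, orp⟩ := h.ortho
  obtain ⟨opp', orr', opr', orp'⟩ := h'.ortho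
  have e : ∀ a, phi Q p r (phi Q p' r' a) - phi Q p' r' (phi Q p r a) = phi Q p p' a := fun a => by
    simp [phi_apply, h11, h12, h21, h22, Q.symm p' p, Q.symm r' p, Q.symm p' r, Q.symm r' r]
    module
  by_cases hli : ∀ a b : F, a • p + b • p' = 0 → a = 0 ∧ b = 0
  swap
  · left
    have h0 : phi Q p p' = 0 := by
      push Not at hli
      obtain ⟨a, b, hab, hne⟩ := hli
      have hb : b ≠ 0 := fun hb => by
        rw [hb, zero_smul, add_zero] at hab
        refine hne ?_ hb
        exact ((h.li a 0) (by rw [hab, zero_smul, add_zero])).1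
      have hp' : p' = (-(b⁻¹ * a)) • p := by
        calc p' = b⁻¹ • (a • p + b • p') + (-(b⁻¹ * a)) • p := by
              rw [smul_add, smul_smul, smul_smul, inv_mul_cancel₀ hb, one_smul]; module
          _ = _ := by rw [hab, smul_zero, zero_add]
      refine LinearMap.ext fun x => ?_
      rw [phi_apply, hp']
      simp [smul_smul, mul_comm]
    rw [eq_bot_iff, commutator_le]
    intro x hx y hy
    obtain ⟨c, hc⟩ := (M.mem_fx_iff h).mp hx
    obtain ⟨d, hd⟩ := (M.mem_fx_iff h').mp hy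
    rw [Subgroup.mem_bot, commutatorElement_eq_one_iff_mul_comm]
    refine M.inj (LinearMap.ext fun a => ?_)
    have e' := e a
    rw [h0, LinearMap.zero_apply, sub_eq_zero] at e'
    rw [map_mul, map_mul, hc, hd]
    simp [Module.End.mul_apply, e']
    module
  right
  have h'' : Sing Q p p' := ⟨h.hp, h'.hp, h11, hli⟩
  obtain ⟨opp'', orr'', opr'', orp''⟩ := h''.ortho
  have hcomm : ∀ {x y z : H} {c d : F}, M.ρ x = 1 + c • phi Q p r → M.ρ y = 1 + d • phi Q p' r' →
      M.ρ z = 1 + (c * d) • phi Q p p' → x * y * x⁻¹ * y⁻¹ = z := by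
    intro x y z c d hx hy hz
    have h1 : x * y = z * (y * x) := by
      refine M.inj (LinearMap.ext fun a => ?_)
      rw [map_mul, map_mul, map_mul, hx, hy, hz]
      simp [Module.End.mul_apply, phi_apply, opp, orr, opr, orp, opp', orr', opr', orp', h11, h12, h21, h22,
        Q.symm p' p, Q.symm r' p, Q.symm p' r, Q.symm r' r]
      module
    rw [h1]; group
  have hCeq : ⁅M.fx p r, M.fx p' r'⁆ = M.fx p p' := by
    refine le_antisymm (commutator_le.mpr fun x hx y hy => ?_) fun z hz => ?_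
    · obtain ⟨c, hc⟩ := (M.mem_fx_iff h).mp hx
      obtain ⟨d, hd⟩ := (M.mem_fx_iff h').mp hy
      obtain ⟨z, hz⟩ := M.full p p' h'' (c * d)
      rw [commutatorElement_def, hcomm hc hd hz]
      exact (M.mem_fx_iff h'').mpr ⟨_, hz⟩
    · obtain ⟨c, hc⟩ := (M.mem_fx_iff h'').mp hz
      obtain ⟨x, hx⟩ := M.full p r h c
      obtain ⟨y, hy⟩ := M.full p' r' h' 1
      have e1 := hcomm hx hy (z := z) (by rwa [mul_one])
      rw [← e1, ← commutatorElement_def]
      exact commutator_mem_commutator ((M.mem_fx_iff h).mpr ⟨_, hx⟩) ((M.mem_fx_iff h').mpr ⟨_, hy⟩)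
  refine ⟨?_, ?_, ?_, ?_⟩
  · rw [hCeq]; exact M.fx_mem_roots h''
  · intro z hz x hx
    rw [hCeq] at hz
    obtain ⟨c, hc⟩ := (M.mem_fx_iff h'').mp hz
    have hle : M.fx p r ⊔ M.fx p' r' ≤ Subgroup.centralizer ({z} : Set H) := by
      refine sup_le (fun y hy => ?_) (fun y hy => ?_)
      · obtain ⟨d, hd⟩ := (M.mem_fx_iff h).mp hy
        refine Subgroup.mem_centralizer_singleton_iff.mpr (M.inj (LinearMap.ext fun a => ?_))
        rw [map_mul, map_mul, hc, hd]
        simp [Module.End.mul_apply, phi_apply, opp, orr, opr, orp, opp', orr', opr', orp', h11, h12, h21, h22,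
          Q.symm p' p, Q.symm r' p, Q.symm p' r, Q.symm r' r]
        module
      · obtain ⟨d, hd⟩ := (M.mem_fx_iff h').mp hy
        refine Subgroup.mem_centralizer_singleton_iff.mpr (M.inj (LinearMap.ext fun a => ?_))
        rw [map_mul, map_mul, hc, hd]
        simp [Module.End.mul_apply, phi_apply, opp, orr, opr, orp, opp', orr', opr', orp', h11, h12, h21, h22,
          Q.symm p' p, Q.symm r' p, Q.symm p' r, Q.symm r' r]
        module
    exact (Subgroup.mem_centralizer_singleton_iff.mp (hle hx)).symm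
  · intro x hx hx1
    obtain ⟨c, hc⟩ := (M.mem_fx_iff h).mp hx
    have hc0 : c ≠ 0 := fun h0 => hx1 (M.inj (by rw [hc, h0, zero_smul, add_zero, map_one]))
    refine le_antisymm ((closure_le _).mpr ?_) fun z hz => ?_
    · rintro _ ⟨y, hy, rfl⟩
      exact commutator_mem_commutator hx hy
    · rw [hCeq] at hz
      obtain ⟨e', he'⟩ := (M.mem_fx_iff h'').mp hz
      obtain ⟨y, hy⟩ := M.full p' r' h' (c⁻¹ * e')
      refine subset_closure ⟨y, (M.mem_fx_iff h').mpr ⟨_, hy⟩, hcomm hc hy ?_⟩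
      rwa [mul_inv_cancel_left₀ hc0]
  · intro y hy hy1
    obtain ⟨d, hd⟩ := (M.mem_fx_iff h').mp hy
    have hd0 : d ≠ 0 := fun h0 => hy1 (M.inj (by rw [hd, h0, zero_smul, add_zero, map_one]))
    refine le_antisymm ((closure_le _).mpr ?_) fun z hz => ?_
    · rintro _ ⟨x, hx, rfl⟩
      exact commutator_mem_commutator hx hy
    · rw [hCeq] at hz
      obtain ⟨e', he'⟩ := (M.mem_fx_iff h'').mp hz
      obtain ⟨x, hx⟩ := M.full p r h (e' * d⁻¹)
      refine subset_closure ⟨x, (M.mem_fx_iff h).mpr ⟨_, hx⟩, hcomm hx hd ?_⟩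
      rwa [inv_mul_cancel_right₀ hd0]

theorem adapt {p r p' r' : V} (h : Sing Q p r) (h' : Sing Q p' r')
    (hd : Q.B p p' * Q.B r r' - Q.B p r' * Q.B r p' = 0)
    (hne : ¬ (Q.B p p' = 0 ∧ Q.B p r' = 0 ∧ Q.B r p' = 0 ∧ Q.B r r' = 0)) :
    ∃ p₁ r₁ p₁' r₁', Sing Q p₁ r₁ ∧ Sing Q p₁' r₁' ∧ M.fx p₁ r₁ = M.fx p r ∧ M.fx p₁' r₁' = M.fx p' r' ∧
      Q.B p₁ p₁' = 0 ∧ Q.B p₁ r₁' = 0 ∧ Q.B r₁ p₁' = 0 ∧ Q.B r₁ r₁' = 1 := by
  -- a row dependence
  obtain ⟨a, b, hab, ha1, ha2⟩ : ∃ a b : F, (a ≠ 0 ∨ b ≠ 0) ∧ a * Q.B p p' + b * Q.B r p' = 0 ∧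
      a * Q.B p r' + b * Q.B r r' = 0 := by
    by_cases h1 : Q.B p p' = 0 ∧ Q.B r p' = 0
    · refine ⟨Q.B r r', -Q.B p r', ?_, by rw [h1.1, h1.2]; ring, by ring⟩
      by_contra hh
      push Not at hh
      exact hne ⟨h1.1, by simpa using hh.2, h1.2, hh.1⟩
    · refine ⟨Q.B r p', -Q.B p p', ?_, by ring, by linear_combination -hd⟩
      by_contra hh
      push Not at hh
      exact h1 ⟨by simpa using hh.2, hh.1⟩
  obtain ⟨c, d, hcd⟩ : ∃ c d : F, a * d - b * c ≠ 0 := by
    rcases hab with ha | hb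
    · exact ⟨0, 1, by simpa using ha⟩
    · exact ⟨1, 0, by simpa using hb⟩
  obtain ⟨hs, he⟩ := M.rebase h hcd
  set p₁ := a • p + b • r with hp₁
  set r₁ := c • p + d • r with hr₁
  have h11 : Q.B p₁ p' = 0 := by simp [hp₁, ha1]
  have h12 : Q.B p₁ r' = 0 := by simp [hp₁, ha2]
  set x := Q.B r₁ p' with hx
  set y := Q.B r₁ r' with hy
  have hxy : ¬ (x = 0 ∧ y = 0) := by
    rintro ⟨hx0, hy0⟩
    simp only [hx, hy, hr₁, map_add, map_smul, LinearMap.add_apply, LinearMap.smul_apply, smul_eq_mul] at hx0 hy0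
    refine hne ⟨?_, ?_, ?_, ?_⟩
    · exact (mul_eq_zero.mp (show (a * d - b * c) * Q.B p p' = 0 by linear_combination d * ha1 - b * hx0)).resolve_left hcd
    · exact (mul_eq_zero.mp (show (a * d - b * c) * Q.B p r' = 0 by linear_combination d * ha2 - b * hy0)).resolve_left hcd
    · exact (mul_eq_zero.mp (show (a * d - b * c) * Q.B r p' = 0 by linear_combination a * hx0 - c * ha1)).resolve_left hcd
    · exact (mul_eq_zero.mp (show (a * d - b * c) * Q.B r r' = 0 by linear_combination a * hy0 - c * ha2)).resolve_left hcd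
  obtain ⟨e, f, hef⟩ : ∃ e f : F, e * x + f * y = 1 := by
    by_cases hx0 : x = 0
    · exact ⟨0, y⁻¹, by rw [hx0, inv_mul_cancel₀ fun hy0 => hxy ⟨hx0, hy0⟩]; ring⟩
    · exact ⟨x⁻¹, 0, by rw [inv_mul_cancel₀ hx0]; ring⟩
  obtain ⟨hs', he'⟩ := M.rebase h' (a := y) (b := -x) (c := e) (d := f) (by
    rw [show y * f - -x * e = 1 by linear_combination hef]; exact one_ne_zero)
  refine ⟨p₁, r₁, _, _, hs, hs', he, he', ?_, ?_, ?_, ?_⟩
  all_goals simp only [map_add, map_smul, smul_eq_mul, h11, h12, ← hx, ← hy]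
  · ring
  · ring
  · ring
  · exact hef

theorem pair_cases {p r p' r' : V} (h : Sing Q p r) (h' : Sing Q p' r') :
    ⁅M.fx p r, M.fx p' r'⁆ = ⊥ ∨
      (IsRankOnePair (M.fx p r) (M.fx p' r') ∧ IsPSL2PairOver F (M.fx p r) (M.fx p' r')) ∨
      RootCommutatorCase M.roots (M.fx p r) (M.fx p' r') := by
  by_cases hd : Q.B p p' * Q.B r r' - Q.B p r' * Q.B r p' = 0
  swap
  · exact Or.inr (Or.inl (M.pair_opposite h h' hd))
  by_cases hz : Q.B p p' = 0 ∧ Q.B p r' = 0 ∧ Q.B r p' = 0 ∧ Q.B r r' = 0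
  · exact Or.inl (M.pair_zero h h' hz.1 hz.2.1 hz.2.2.1 hz.2.2.2)
  obtain ⟨p₁, r₁, p₁', r₁', hs, hs', he, he', h11, h12, h21, h22⟩ := M.adapt h h' hd hz
  rw [← he, ← he']
  exact (M.pair_adapted hs hs' h11 h12 h21 h22).imp id Or.inr

/-- The Siegel transvection groups form a set of root subgroups over the field. -/
theorem isKRootSubgroupSet (hgen : (⨆ A ∈ M.roots, A) = ⊤) : IsKRootSubgroupSet F M.roots := by
  have hset : IsRootSubgroupSet M.roots := by
    refine ⟨?_, ?_, hgen, ?_, ?_⟩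
    · rintro A ⟨p, r, h, rfl⟩; exact M.commutative h
    · rintro A ⟨p, r, h, rfl⟩; exact M.fx_ne_bot h
    · rintro A ⟨p, r, h, rfl⟩ g
      exact ⟨_, _, M.sing_map g h, M.conj_fx g p r⟩
    · rintro A ⟨p, r, h, rfl⟩ B ⟨p', r', h', rfl⟩
      exact (M.pair_cases h h').imp id (Or.imp And.left id)
  refine ⟨hset, ?_⟩
  rintro A ⟨p, r, h, rfl⟩ B ⟨p', r', h', rfl⟩ hAB
  rcases M.pair_cases h h' with h0 | h1 | h2
  · exact absurd h0 (not_commutator_bot hAB)
  · exact h1.2
  · exact absurd h2.1 (commutator_notMem_of_pair hset (M.fx_mem_roots h) (M.fx_mem_roots h') hAB)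

/-! ### Connectedness -/

local notation "Reach" => Relation.ReflTransGen (FAdj (Model.roots M))

theorem reach_symm {A B : Subgroup H} (h : Reach A B) : Reach B A :=
  Relation.ReflTransGen.mono (r := Function.swap (FAdj (Model.roots M)))
    (fun X Y hXY => ⟨hXY.2.1, hXY.1, RankOnePair_symm hXY.2.2⟩) _ _ (Relation.reflTransGen_swap.mpr h)

/-- Two lines of a totally singular plane have a common opposite line. -/
theorem reach_plane {p r r' : V} (h : Sing Q p r) (h' : Sing Q p r') (hrr : Q.B r r' = 0)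
    (hli : LinearIndependent F ![p, r, r']) : Reach (M.fx p r) (M.fx p r') := by
  obtain ⟨x, hx⟩ := exists_pairing (Q := Q) _ hli ![1, 0, 0]
  obtain ⟨y, hy⟩ := exists_pairing (Q := Q) _ hli ![0, 1, 1]
  obtain ⟨opp, orr, opr, orp⟩ := h.ortho
  obtain ⟨-, orr', opr', orp'⟩ := h'.ortho
  obtain ⟨a, b, c, hf⟩ := frame_of_pairing h (x := x) (y := y) (by simpa using hx 0) (by simpa using hx 1)
    (by simpa using hy 0) (by simpa using hy 1)
  have hx2 : Q.B r' x = 0 := by simpa using hx 2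
  have hy2 : Q.B r' y = 1 := by simpa using hy 2
  have hu : Q.B r' (y + b • p + c • r) = 1 := by simp [hy2, orp', Q.symm r' r, hrr]
  have hn := hf.sing
  have h1 : FAdj M.roots (M.fx p r) (M.fx (x + a • p) (y + b • p + c • r)) :=
    ⟨M.fx_mem_roots h, M.fx_mem_roots hn, (M.pair_frame h hf).1⟩
  have h2 : FAdj M.roots (M.fx (x + a • p) (y + b • p + c • r)) (M.fx p r') := by
    refine ⟨M.fx_mem_roots hn, M.fx_mem_roots h', RankOnePair_symm (M.pair_opposite h' hn ?_).1⟩
    rw [hf.ps, hf.pu, hu]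
    simp
  exact (Relation.ReflTransGen.single h1).tail h2

theorem swap_eq {p r : V} (h : Sing Q p r) : Sing Q r p ∧ M.fx r p = M.fx p r := by
  have := M.rebase h (a := 0) (b := 1) (c := 1) (d := 0) (by simp)
  simpa using this

/-- Two lines of a totally singular subspace are joined. -/
theorem reach_within {L : Submodule F V} (hL : ∀ x ∈ L, ∀ y ∈ L, Q.B x y = 0)
    {a b c d : V} (ha : a ∈ L) (hb : b ∈ L) (hc : c ∈ L) (hd : d ∈ L) (h : Sing Q a b) (h' : Sing Q c d) :
    Reach (M.fx a b) (M.fx c d) := by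
  have hstep : ∀ {x y z : V}, x ∈ L → y ∈ L → z ∈ L → Sing Q x y → Sing Q x z → Reach (M.fx x y) (M.fx x z) := by
    intro x y z hx hy hz hxy hxz
    by_cases hli : LinearIndependent F ![x, y, z]
    · exact M.reach_plane hxy hxz (hL y hy z hz) hli
    rw [Fintype.linearIndependent_iff] at hli
    push Not at hli
    obtain ⟨g, hg, i, hi⟩ := hli
    have hg' : g 0 • x + g 1 • y + g 2 • z = 0 := by
      simpa [Fin.sum_univ_three] using hg
    have hg2 : g 2 ≠ 0 := fun h0 => by
      rw [h0, zero_smul, add_zero] at hg'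
      obtain ⟨h1, h2⟩ := hxy.li _ _ hg'
      fin_cases i <;> simp_all
    have hg1 : g 1 ≠ 0 := fun h0 => by
      rw [h0, zero_smul, add_zero] at hg'
      exact hg2 (hxz.li _ _ hg').2
    have hz' : z = (-((g 2)⁻¹ * g 0)) • x + (-((g 2)⁻¹ * g 1)) • y := by
      calc z = (g 2)⁻¹ • (g 0 • x + g 1 • y + g 2 • z) +
            ((-((g 2)⁻¹ * g 0)) • x + (-((g 2)⁻¹ * g 1)) • y) := by
            simp only [smul_add, smul_smul, inv_mul_cancel₀ hg2, one_smul]; module
        _ = _ := by rw [hg', smul_zero, zero_add]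
    have := (M.rebase hxy (a := 1) (b := 0) (c := -((g 2)⁻¹ * g 0)) (d := -((g 2)⁻¹ * g 1))
      (by simp [hg1, hg2])).2
    rw [one_smul, zero_smul, add_zero, ← hz'] at this
    rw [this]
  by_cases hac : ∀ x y : F, x • a + y • c = 0 → x = 0 ∧ y = 0
  · have hS : Sing Q a c := ⟨h.hp, h'.hp, hL a ha c hc, hac⟩
    obtain ⟨hS', he⟩ := M.swap_eq hS
    exact (hstep ha hb hc h hS).trans (he ▸ hstep hc ha hd hS' h')
  push Not at hac
  obtain ⟨x, y, hxy, hne⟩ := hac
  have hy : y ≠ 0 := fun hy => by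
    rw [hy, zero_smul, add_zero] at hxy
    exact hne ((h.li x 0) (by rw [hxy, zero_smul, add_zero])).1 hy
  have hx : x ≠ 0 := fun hx => by
    rw [hx, zero_smul, zero_add] at hxy
    exact hy ((h'.li y 0) (by rw [hxy, zero_smul, add_zero])).1
  have ha' : a = (-(x⁻¹ * y)) • c + (0 : F) • d := by
    calc a = x⁻¹ • (x • a + y • c) + (-(x⁻¹ * y)) • c := by
          rw [smul_add, smul_smul, smul_smul, inv_mul_cancel₀ hx, one_smul]; module
      _ = _ := by rw [hxy, smul_zero, zero_add, zero_smul, add_zero]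
  obtain ⟨hS, he⟩ := M.rebase h' (a := -(x⁻¹ * y)) (b := 0) (c := 0) (d := 1) (by simp [hx, hy])
  rw [← ha', zero_smul, one_smul, zero_add] at hS he
  exact he ▸ hstep ha hb hd h hS

/-- A totally singular subspace of dimension three meets everything. -/
theorem connected {L : Submodule F V} [FiniteDimensional F L] (hLd : 3 ≤ Module.finrank F L)
    (hq : ∀ x ∈ L, Q.q x = 0) : IsConnectedFamily (FAdj M.roots) M.roots := by
  have hL : ∀ x ∈ L, ∀ y ∈ L, Q.B x y = 0 := fun x hx y hy => by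
    have h1 := Q.q_add x y
    rw [hq x hx, hq y hy, hq _ (L.add_mem hx hy), zero_add, zero_add] at h1
    exact h1.symm
  have hker : ∀ {k : ℕ} (f : V →ₗ[F] (Fin k → F)),
      3 ≤ k + Module.finrank F (LinearMap.ker (f.domRestrict L)) := fun {k} f => by
    have h1 := LinearMap.finrank_range_add_finrank_ker (f.domRestrict L)
    have h2 := Submodule.finrank_le (LinearMap.range (f.domRestrict L))
    rw [Module.finrank_fin_fun] at h2
    omega
  have meet : ∀ w x, w ∈ L → Sing Q w x → ∃ a b, a ∈ L ∧ b ∈ L ∧ Sing Q a b ∧ Reach (M.fx w x) (M.fx a b) := by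
    intro w x hw h
    by_cases hxL : x ∈ L
    · exact ⟨w, x, hw, hxL, h, .refl⟩
    set K := LinearMap.ker ((LinearMap.pi fun _ : Fin 1 => Q.B x).domRestrict L) with hK
    obtain ⟨⟨w', hw'⟩, hw'K, hw'n⟩ : ∃ z : L, z ∈ K ∧ ∀ c : F, (z : V) ≠ c • w := by
      by_contra! hall
      have h1 : K ≤ F ∙ (⟨w, hw⟩ : L) := fun z hz => by
        obtain ⟨c, hc⟩ := hall z hz
        exact Submodule.mem_span_singleton.mpr ⟨c, Subtype.ext hc.symm⟩
      have h2 := Submodule.finrank_mono h1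
      have h3 := finrank_span_singleton (K := F) (v := (⟨w, hw⟩ : L)) (fun h0 => by
        have := h.li 1 0 (by simp [show w = 0 from congrArg Subtype.val h0])
        simp at this)
      have h4 := hker (LinearMap.pi fun _ : Fin 1 => Q.B x)
      rw [← hK] at h4
      omega
    have hxw : Q.B x w' = 0 := congrFun (LinearMap.mem_ker.mp hw'K) 0
    have hS : Sing Q w w' := ⟨h.hp, hq w' hw', hL w hw w' hw', fun a b hab => by
      by_cases hb : b = 0
      · rw [hb, zero_smul, add_zero] at hab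
        exact ⟨((h.li a 0) (by rw [hab, zero_smul, add_zero])).1, hb⟩
      · refine absurd ?_ (hw'n (-(b⁻¹ * a)))
        calc w' = b⁻¹ • (a • w + b • w') + (-(b⁻¹ * a)) • w := by
              rw [smul_add, smul_smul, smul_smul, inv_mul_cancel₀ hb, one_smul]; module
          _ = _ := by rw [hab, smul_zero, zero_add]⟩
    refine ⟨w, w', hw, hw', hS, M.reach_plane h hS hxw (Fintype.linearIndependent_iff.mpr fun g hg => ?_)⟩
    have hg' : g 0 • w + g 1 • x + g 2 • w' = 0 := by simpa [Fin.sum_univ_three] using hg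
    have hg1 : g 1 = 0 := by
      by_contra hne
      refine hxL ?_
      have : x = (g 1)⁻¹ • -(g 0 • w + g 2 • w') := by
        rw [show -(g 0 • w + g 2 • w') = g 1 • x by rw [← sub_eq_zero, ← neg_eq_zero, ← hg']; module, smul_smul,
          inv_mul_cancel₀ hne, one_smul]
      rw [this]
      exact L.smul_mem _ (L.neg_mem (L.add_mem (L.smul_mem _ hw) (L.smul_mem _ hw')))
    rw [hg1, zero_smul, add_zero] at hg'
    obtain ⟨h1, h2⟩ := hS.li _ _ hg'
    intro i
    fin_cases i <;> assumption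
  have main : ∀ p r, Sing Q p r → ∃ a b, a ∈ L ∧ b ∈ L ∧ Sing Q a b ∧ Reach (M.fx p r) (M.fx a b) := by
    intro p r h
    set K := LinearMap.ker ((LinearMap.pi fun i : Fin 2 => Q.B (![p, r] i)).domRestrict L) with hK
    have h4 := hker (LinearMap.pi fun i : Fin 2 => Q.B (![p, r] i))
    rw [← hK] at h4
    obtain ⟨⟨w, hw⟩, hwK, hw0⟩ := K.exists_mem_ne_zero_of_ne_bot fun h0 => by
      rw [h0, finrank_bot] at h4
      omega
    have hwp : Q.B p w = 0 := congrFun (LinearMap.mem_ker.mp hwK) 0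
    have hwr : Q.B r w = 0 := congrFun (LinearMap.mem_ker.mp hwK) 1
    have hw0' : w ≠ 0 := fun h0 => hw0 (Subtype.ext h0)
    by_cases hwl : ∃ a b : F, w = a • p + b • r
    · obtain ⟨a, b, hab⟩ := hwl
      obtain ⟨c, d, hcd⟩ : ∃ c d : F, a * d - b * c ≠ 0 := by
        by_cases ha : a = 0
        · refine ⟨1, 0, ?_⟩
          have hb : b ≠ 0 := fun hb => hw0' (by rw [hab, ha, hb]; simp)
          simpa [ha] using hb
        · exact ⟨0, 1, by simpa using ha⟩
      obtain ⟨hS, he⟩ := M.rebase h hcd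
      rw [← hab] at hS he
      obtain ⟨x, y, hx, hy, hxy, hR⟩ := meet w _ hw hS
      exact ⟨x, y, hx, hy, hxy, he ▸ hR⟩
    push Not at hwl
    have hli : LinearIndependent F ![p, r, w] := by
      refine Fintype.linearIndependent_iff.mpr fun g hg => ?_
      have hg' : g 0 • p + g 1 • r + g 2 • w = 0 := by simpa [Fin.sum_univ_three] using hg
      have hg2 : g 2 = 0 := by
        by_contra hne
        refine hwl (-((g 2)⁻¹ * g 0)) (-((g 2)⁻¹ * g 1)) ?_
        calc w = (g 2)⁻¹ • (g 0 • p + g 1 • r + g 2 • w) +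
              ((-((g 2)⁻¹ * g 0)) • p + (-((g 2)⁻¹ * g 1)) • r) := by
              simp only [smul_add, smul_smul, inv_mul_cancel₀ hne, one_smul]; module
          _ = _ := by rw [hg', smul_zero, zero_add]
      rw [hg2, zero_smul, add_zero] at hg'
      obtain ⟨h1, h2⟩ := h.li _ _ hg'
      intro i
      fin_cases i <;> assumption
    have hS : Sing Q p w := ⟨h.hp, hq w hw, hwp, fun a b hab => by
      by_cases hb : b = 0
      · rw [hb, zero_smul, add_zero] at hab
        exact ⟨((h.li a 0) (by rw [hab, zero_smul, add_zero])).1, hb⟩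
      · refine absurd ?_ (hwl (-(b⁻¹ * a)) 0)
        calc w = b⁻¹ • (a • p + b • w) + (-(b⁻¹ * a)) • p := by
              rw [smul_add, smul_smul, smul_smul, inv_mul_cancel₀ hb, one_smul]; module
          _ = _ := by rw [hab, smul_zero, zero_add, zero_smul, add_zero]⟩
    obtain ⟨hS', he⟩ := M.swap_eq hS
    obtain ⟨x, y, hx, hy, hxy, hR⟩ := meet w p hw hS'
    exact ⟨x, y, hx, hy, hxy, (M.reach_plane h hS hwr hli).trans (he ▸ hR)⟩
  rintro A ⟨p, r, h, rfl⟩ B ⟨p', r', h', rfl⟩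
  obtain ⟨a, b, ha, hb, hab, h1⟩ := main p r h
  obtain ⟨c, d, hc, hd, hcd, h2⟩ := main p' r' h'
  exact (h1.trans (M.reach_within hL ha hb hc hd hab hcd)).trans (M.reach_symm h2)

/-- The model on a subgroup containing all the Siegel transvection groups. -/
def restrict (G₀ : Subgroup H) (hG : ∀ p r, Sing Q p r → M.fx p r ≤ G₀) : Model Q ↥G₀ where
  ρ := M.ρ.comp G₀.subtype
  inj := M.inj.comp Subtype.val_injective
  isom g a := M.isom g a
  full p r h c := by
    obtain ⟨g, hg⟩ := M.full p r h c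
    exact ⟨⟨g, hG p r h ((M.mem_fx_iff h).mpr ⟨c, hg⟩)⟩, hg⟩

/-- The Siegel transvection groups form root subgroups of the group they generate. -/
theorem isKRootSubgroupSet_sup :
    IsKRootSubgroupSet F ((fun A : Subgroup H => A.subgroupOf (⨆ B ∈ M.roots, B)) '' M.roots) := by
  set G₀ := ⨆ B ∈ M.roots, B with hG₀
  have hle : ∀ A ∈ M.roots, A ≤ G₀ := fun A hA => le_iSup₂ (f := fun B (_ : B ∈ M.roots) => B) A hA
  set N := M.restrict G₀ fun p r h => hle _ (M.fx_mem_roots h) with hN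
  have hR : N.roots = (fun A : Subgroup H => A.subgroupOf G₀) '' M.roots := by
    ext A
    constructor
    · rintro ⟨p, r, h, rfl⟩; exact ⟨_, M.fx_mem_roots h, rfl⟩
    · rintro ⟨_, ⟨p, r, h, rfl⟩, rfl⟩; exact ⟨p, r, h, rfl⟩
  rw [← hR]
  refine N.isKRootSubgroupSet (Subgroup.map_injective G₀.subtype_injective ?_)
  refine le_antisymm (Subgroup.map_mono le_top) ?_
  rw [← MonoidHom.range_eq_map, Subgroup.range_subtype]
  refine le_of_eq_of_le hG₀ (iSup₂_le fun A hA => ?_)
  calc A = (A.subgroupOf G₀).map G₀.subtype := (Subgroup.map_subgroupOf_eq_of_le (hle A hA)).symm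
    _ ≤ _ := Subgroup.map_mono (le_iSup₂ (f := fun B (_ : B ∈ N.roots) => B) _
      (hR ▸ Set.mem_image_of_mem _ hA))

end Model

end Cfsg.Lib.RootSub.Siegel
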