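import Cfsg.Agent.RootSub.SLTransv
import Cfsg.Agent.Classical.Symp.Matrix
import Cfsg.Agent.Classical.Symp.Basic

/-!
# Symplectic transvection groups
-/

set_option autoImplicit false
set_option linter.unusedSectionVars false
set_option linter.unusedVariables false
set_option linter.unusedSimpArgs false

open Subgroup Matrix
open Cfsg

namespace Cfsg.Lib.RootSub

variable {F : Type*} [Field F] {m : ℕ}

local notation "Sp" => Matrix.symplecticGroup (Fin m) F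
local notation "Vec" => (Fin m ⊕ Fin m → F)
local notation "JJ" => Matrix.J (Fin m) F

/-- The inclusion of the symplectic group in the matrices. -/
def spCoe (m : ℕ) (F : Type*) [Field F] :
    Matrix.symplecticGroup (Fin m) F →* Matrix (Fin m ⊕ Fin m) (Fin m ⊕ Fin m) F where
  toFun g := g
  map_one' := rfl
  map_mul' _ _ := rfl

theorem spCoe_injective (m : ℕ) : Function.Injective (spCoe m F) := fun _ _ h => Subtype.ext h

theorem J_dot_self (p : Vec) : (JJ *ᵥ p) ⬝ᵥ p = 0 := by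
  rw [dotProduct_comm, ← Cfsg.Lib.Classical.sympBilin_apply]
  exact Cfsg.Lib.Classical.sympBilin_isAlt m F p

theorem J_mulVec_ne_zero {p : Vec} (hp : p ≠ 0) : JJ *ᵥ p ≠ 0 := by
  intro h
  have := congrArg (JJ *ᵥ ·) h
  simp [mulVec_mulVec, Matrix.J_squared, neg_mulVec] at this
  exact hp this

theorem J_dot_swap (p q : Vec) : (JJ *ᵥ q) ⬝ᵥ p = -((JJ *ᵥ p) ⬝ᵥ q) := by
  rw [dotProduct_comm, dotProduct_comm (JJ *ᵥ p), ← Cfsg.Lib.Classical.sympBilin_apply,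
    ← Cfsg.Lib.Classical.sympBilin_apply]
  exact (LinearMap.IsAlt.neg (Cfsg.Lib.Classical.sympBilin_isAlt m F) q p).symm

theorem sp_transvGroup {p : Vec} (hp : p ≠ 0) : ∃ A, IsTransvGroup (spCoe m F) A p (JJ *ᵥ p) :=
  exists_transvGroup _ hp (J_mulVec_ne_zero hp) (J_dot_self p)
    fun x => ⟨(Cfsg.Lib.Classical.sympEquiv m F).symm
      (Cfsg.Lib.Classical.sympT (Cfsg.Lib.Classical.sympBilin_isAlt m F) p x),
      (Cfsg.Lib.Classical.sympTransvection_eq p x).symm⟩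

/-- The transvection groups of the symplectic group. -/
def spRoots (m : ℕ) (F : Type*) [Field F] : Set (Subgroup (Matrix.symplecticGroup (Fin m) F)) :=
  {A | ∃ p, IsTransvGroup (spCoe m F) A p (Matrix.J (Fin m) F *ᵥ p)}

theorem sp_vecMul_inv (g : Sp) (p : Vec) :
    (JJ *ᵥ p) ᵥ* spCoe m F g⁻¹ = JJ *ᵥ (spCoe m F g *ᵥ p) := by
  have h1 : (spCoe m F g)ᵀ * JJ * spCoe m F g = JJ := SymplecticGroup.mem_iff'.mp g.2
  have h2 : (spCoe m F g⁻¹)ᵀ * JJ = JJ * spCoe m F g := by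
    calc (spCoe m F g⁻¹)ᵀ * JJ = (spCoe m F g⁻¹)ᵀ * ((spCoe m F g)ᵀ * JJ * spCoe m F g) := by rw [h1]
      _ = (spCoe m F g * spCoe m F g⁻¹)ᵀ * JJ * spCoe m F g := by
        rw [Matrix.transpose_mul]; simp only [Matrix.mul_assoc]
      _ = _ := by rw [e_cancel, Matrix.transpose_one, Matrix.one_mul]
  rw [← mulVec_transpose, mulVec_mulVec, mulVec_mulVec, h2]

theorem sp_conj {A : Subgroup Sp} {p : Vec} (hA : IsTransvGroup (spCoe m F) A p (JJ *ᵥ p)) (g : Sp) :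
    IsTransvGroup (spCoe m F) (conjBy A g) (spCoe m F g *ᵥ p) (JJ *ᵥ (spCoe m F g *ᵥ p)) := by
  rw [← sp_vecMul_inv]
  exact hA.conj g

theorem sp_roots_spec (hm : 1 ≤ m) :
    IsRootSubgroupClass (spRoots m F) ∧ IsDegenerateRootSet (spRoots m F) ∧
      IsKRootSubgroupSet F (spRoots m F) ∧ IsConnectedFamily (FAdj (spRoots m F)) (spRoots m F) := by
  have hi := spCoe_injective (F := F) m
  obtain ⟨hset, hk⟩ := transv_rootSet hi (S := spRoots m F) (fun v ψ => ψ = JJ *ᵥ v)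
    (fun A ⟨p, hA⟩ => ⟨p, _, rfl, hA⟩)
    (fun A B v ψ w χ hv hw _ _ ha hb => by
      subst hv hw
      rw [J_dot_swap] at hb
      exact absurd (neg_eq_zero.mp hb) ha)
    (by
      rw [eq_top_iff, ← Cfsg.Lib.Classical.closure_sympTransvection_eq_top m, closure_le]
      rintro g ⟨p, c, hg⟩
      by_cases hp : p = 0
      · have : g = 1 := Subtype.ext (by simp [hg, Cfsg.sympTransvection, hp])
        rw [this]
        exact one_mem _
      · obtain ⟨A, hA⟩ := sp_transvGroup hp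
        exact le_iSup₂ (f := fun (A : Subgroup Sp) (_ : A ∈ spRoots m F) => A) A ⟨_, hA⟩
          (hA.mem_of hi (show spCoe m F g = _ from hg)))
    (fun A ⟨p, hA⟩ g => ⟨_, sp_conj hA g⟩)
  obtain ⟨v₀, hv₀⟩ : ∃ v : Vec, v ≠ 0 := ⟨Pi.single (Sum.inl ⟨0, hm⟩) 1, by simp⟩
  obtain ⟨A₀, hA₀⟩ := sp_transvGroup hv₀
  have hpairs : ∀ {A B : Subgroup Sp} {p q : Vec}, IsTransvGroup (spCoe m F) A p (JJ *ᵥ p) →
      IsTransvGroup (spCoe m F) B q (JJ *ᵥ q) → (JJ *ᵥ p) ⬝ᵥ q ≠ 0 → IsRankOnePair A B := fun hp hq h =>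
    (transv_pair hi hp hq h (by rw [J_dot_swap]; exact neg_ne_zero.mpr h)).1
  refine ⟨⟨hset, ⟨A₀, _, hA₀⟩, ?_⟩, ?_, hk, ?_⟩
  · rintro A ⟨p, hA⟩ B ⟨q, hB⟩
    obtain ⟨g, hg⟩ := Cfsg.Lib.Classical.sympIsom_transitive (Cfsg.Lib.Classical.sympBilin_isAlt m F)
      (Cfsg.Lib.Classical.sympBilin_nondegenerate m F) hA.hv hB.hv
    refine ⟨(Cfsg.Lib.Classical.sympEquiv m F).symm g, hB.unique hi ?_⟩
    have h := sp_conj hA ((Cfsg.Lib.Classical.sympEquiv m F).symm g)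
    rwa [show spCoe m F ((Cfsg.Lib.Classical.sympEquiv m F).symm g) *ᵥ p = q from
      (Cfsg.Lib.Classical.sympEquiv_symm_mulVec g p).trans hg] at h
  · rintro A ⟨p, hA⟩ B ⟨q, hB⟩ hcc
    by_cases h : (JJ *ᵥ p) ⬝ᵥ q = 0
    · have h0 := transv_comm_bot hi hA hB h (by rw [J_dot_swap, h, neg_zero])
      exact hset.ne_bot _ hcc.1 h0
    · exact commutator_notMem_of_pair hset ⟨_, hA⟩ ⟨_, hB⟩ (hpairs hA hB h) hcc.1
  · rintro A ⟨p, hA⟩ B ⟨q, hB⟩
    obtain ⟨r, hr, hr'⟩ := exists_both_dot hA.hψ hB.hψ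
    obtain ⟨C, hC⟩ := sp_transvGroup (m := m) (F := F) (p := r) (fun h => hr (by rw [h, dotProduct_zero]))
    exact (Relation.ReflTransGen.single (show FAdj (spRoots m F) A C from
        ⟨⟨_, hA⟩, ⟨_, hC⟩, hpairs hA hC hr⟩)).tail
      ⟨⟨_, hC⟩, ⟨_, hB⟩, hpairs hC hB (by rw [J_dot_swap]; exact neg_ne_zero.mpr hr')⟩

theorem sp_roots_eq :
    {A : Subgroup Sp | ∃ p : Vec, p ≠ 0 ∧
        A = Subgroup.closure {g : Sp | ∃ c : F, ∀ v : Vec,
          (g : Matrix (Fin m ⊕ Fin m) (Fin m ⊕ Fin m) F) *ᵥ v = v + (c * (v ⬝ᵥ (JJ *ᵥ p))) • p}} =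
      spRoots m F := by
  have hi := spCoe_injective (F := F) m
  have key : ∀ {A : Subgroup Sp} {p : Vec}, IsTransvGroup (spCoe m F) A p (JJ *ᵥ p) →
      Subgroup.closure {g : Sp | ∃ c : F, ∀ v : Vec,
          (g : Matrix (Fin m ⊕ Fin m) (Fin m ⊕ Fin m) F) *ᵥ v = v + (c * (v ⬝ᵥ (JJ *ᵥ p))) • p} = A := by
    intro A p hA
    have hform : ∀ (c : F) (v : Vec), tmat p (JJ *ᵥ p) c *ᵥ v = v + (c * (v ⬝ᵥ (JJ *ᵥ p))) • p := fun c v => by
      rw [← Cfsg.Lib.Classical.sympBilin_apply]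
      exact Cfsg.Lib.Classical.sympTransvection_mulVec p v c
    refine le_antisymm ((closure_le _).mpr ?_) fun g hg => ?_
    · rintro g ⟨c, hc⟩
      refine hA.mem_of hi (x := c) (Matrix.toLin'.injective (LinearMap.ext fun v => ?_))
      rw [Matrix.toLin'_apply, Matrix.toLin'_apply, hform]
      exact hc v
    · obtain ⟨x, hx⟩ := hA.sub g hg
      exact subset_closure ⟨x, fun v => (congrArg (· *ᵥ v) hx).trans (hform x v)⟩
  ext A
  constructor
  · rintro ⟨p, hp, rfl⟩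
    obtain ⟨A, hA⟩ := sp_transvGroup hp
    exact ⟨p, by rwa [key hA]⟩
  · rintro ⟨p, hA⟩
    exact ⟨p, hA.hv, (key hA).symm⟩

end Cfsg.Lib.RootSub
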