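import Cfsg.Agent.RootSub.SpecialSL2
import Cfsg.Agent.RootSub.Quasisimplicity

/-!
# Structure of special rank one groups with abelian unipotent subgroups
-/

set_option autoImplicit false
set_option linter.unusedSectionVars false
set_option linter.unusedVariables false
set_option linter.style.haveILetI false

open Subgroup
open Cfsg

namespace Cfsg.Lib.RootSub

variable {X : Type*} [Group X] {A B : Subgroup X}

theorem small_special_iso (h : IsRankOneGroup X A B) (hs : IsSpecialRankOnePair A B) (hA : IsMulCommutative A)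
    {p : ℕ} [Fact p.Prime] (hcard : Nat.card A = p) :
    Nonempty (X ≃* Matrix.SpecialLinearGroup (Fin 2) (ZMod p)) ∨
      (p ≠ 2 ∧ Nonempty (X ≃* Matrix.ProjectiveSpecialLinearGroup (Fin 2) (ZMod p))) := by
  obtain ⟨a, ha, ha1⟩ := exists_ne_one h.2
  obtain ⟨b, hb, hb1, he⟩ := h.2.cond_left a ha ha1
  have hAp : ∀ x ∈ A, x ^ p = 1 := fun x hx => by
    have := pow_card_eq_one' (G := A) (x := ⟨x, hx⟩)
    rw [hcard] at this
    exact congrArg Subtype.val this
  have hBcard : Nat.card B = p := by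
    obtain ⟨g, -, hg⟩ := right_mem h.2
    rw [hg, Subgroup.card_map_of_injective (MulEquiv.injective _), hcard]
  have hgen : closure ({a, b} : Set X) = ⊤ := by
    haveI : Finite A := Nat.finite_of_card_ne_zero (hcard ▸ (Fact.out : p.Prime).ne_zero)
    haveI : Finite B := Nat.finite_of_card_ne_zero (hBcard ▸ (Fact.out : p.Prime).ne_zero)
    have key : ∀ (C : Subgroup X) (c : X), Nat.card C = p → c ∈ C → c ≠ 1 → C ≤ zpowers c := by
      intro C c hC hc hc1 x hx
      have hx' := mem_zpowers_of_prime_card hC (g := (⟨c, hc⟩ : C)) (g' := ⟨x, hx⟩)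
        (fun h' => hc1 (congrArg Subtype.val h'))
      obtain ⟨k, hk⟩ := hx'
      exact ⟨k, by simpa using congrArg Subtype.val hk⟩
    rw [eq_top_iff, ← h.1]
    exact sup_le ((key A a hcard ha ha1).trans (zpowers_le.mpr (subset_closure (by simp))))
      ((key B b hBcard hb hb1).trans (zpowers_le.mpr (subset_closure (by simp))))
  have e : X ≃* ↥(closure ({a, b} : Set X)) :=
    Subgroup.topEquiv.symm.trans (MulEquiv.subgroupCongr hgen.symm)
  rcases minimal_iso hs hA hAp ha ha1 hb hb1 he with ⟨⟨f⟩⟩ | ⟨hp, ⟨f⟩⟩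
  · exact Or.inl ⟨e.trans f⟩
  · exact Or.inr ⟨hp, ⟨e.trans f⟩⟩

theorem large_special (h : IsRankOneGroup X A B) (hs : IsSpecialRankOnePair A B) (hA : IsMulCommutative A)
    (h4 : 3 < ENat.card A) : commutator X = ⊤ ∧ IsQuasisimple ↥(commutator X) := by
  have hperf : commutator X = ⊤ := by
    have := special_perfect hs hA h4
    rwa [h.1] at this
  have hc : center X ≠ ⊤ := by
    obtain ⟨a, ha, ha1⟩ := exists_ne_one h.2
    obtain ⟨b, hb, hne⟩ := not_commute h.2 ha ha1
    intro h'
    exact hne (Subgroup.mem_center_iff.mp (h' ▸ mem_top b : b ∈ center X) a)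
  refine ⟨hperf, isQuasisimple_commutator hperf hc fun N hN => ?_⟩
  rcases normal_sup_eq_top h N hN with h1 | h1
  · right
    haveI := hN
    rw [eq_top_iff, ← hperf, commutator_def, ← h1, ← QuotientGroup.ker_mk' N, ← Subgroup.map_eq_bot_iff,
      Subgroup.map_commutator, Subgroup.map_sup, QuotientGroup.ker_mk', (Subgroup.map_eq_bot_iff N).mpr
      (QuotientGroup.ker_mk' N).ge, bot_sup_eq, Subgroup.commutator_eq_bot_iff_le_centralizer]
    rintro _ ⟨a, ha, rfl⟩
    rw [mem_centralizer_iff]
    rintro _ ⟨a', ha', rfl⟩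
    rw [← map_mul, ← map_mul]
    exact congrArg _ (congrArg Subtype.val (mul_comm' (⟨a', ha'⟩ : A) ⟨a, ha⟩))
  · exact Or.inl h1

end Cfsg.Lib.RootSub
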