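import Cfsg.Agent.RootSub.BraidSL2
import Cfsg.Agent.RootSub.SpecialPerfect

/-!
# Minimal subgroups of special rank one groups: images of `SL₂(p)`
-/

set_option autoImplicit false
set_option linter.unusedSectionVars false
set_option linter.unusedVariables false
set_option linter.style.haveILetI false

open Subgroup
open Cfsg
open Cfsg.Lib.RootSub.SL2Hom

namespace Cfsg.Lib.RootSub

variable {G : Type*} [Group G] {A B : Subgroup G} {p : ℕ} [Fact p.Prime]

theorem pow_val_add {g : G} (hg : g ^ p = 1) (s t : ZMod p) : g ^ (s + t).val = g ^ s.val * g ^ t.val := by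
  rw [ZMod.val_add, ← pow_eq_pow_mod _ hg, pow_add]

theorem partner_pow_eq_one (h : IsSpecialRankOnePair A B) (hAp : ∀ x ∈ A, x ^ p = 1) {a b : G}
    (ha : a ∈ A) (ha1 : a ≠ 1) (hb : b ∈ B) (hb1 : b ≠ 1) (he : conjBy A b⁻¹ = conjBy B a⁻¹) : b ^ p = 1 := by
  obtain ⟨e2, -, -⟩ := special_braid h ha ha1 hb hb1 he
  have h1 : (a * b * a⁻¹) ^ p = 1 := by
    rw [e2, conj_pow, hAp _ (inv_mem ha), mul_one, mul_inv_cancel]
  rw [conj_pow] at h1
  exact conj_eq_one_iff.mp h1

/-- The braid relations inside a special rank one group. -/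
theorem special_braidPair (h : IsSpecialRankOnePair A B) (hA : IsMulCommutative A)
    (hAp : ∀ x ∈ A, x ^ p = 1) {a b : G} (ha : a ∈ A) (ha1 : a ≠ 1) (hb : b ∈ B) (hb1 : b ≠ 1)
    (he : conjBy A b⁻¹ = conjBy B a⁻¹) :
    BraidPair (fun t : ZMod p => a ^ t.val) (fun t : ZMod p => b ^ t.val) := by
  have hbp := partner_pow_eq_one h hAp ha ha1 hb hb1 he
  have hap := hAp a ha
  refine ⟨fun t u => (pow_val_add hap t u).symm, fun t u => (pow_val_add hbp t u).symm, fun t ht => ?_⟩
  have htv : t.val ≠ 0 := fun h0 => ht ((ZMod.val_eq_zero t).mp h0)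
  have hat1 : a ^ t.val ≠ 1 := fun h0 => by
    have hord : orderOf a = p := orderOf_eq_prime hap ha1
    have hdvd := orderOf_dvd_of_pow_eq_one h0
    rw [hord] at hdvd
    exact absurd (Nat.le_of_dvd (Nat.pos_of_ne_zero htv) hdvd) (not_le.mpr t.val_lt)
  obtain ⟨u, hu, hu1, hue⟩ := h.1.cond_left _ (A.pow_mem ha t.val) hat1
  have hcomm : ∀ x ∈ A, ∀ y ∈ A, x * y = y * x := fun x hx y hy =>
    congrArg Subtype.val (mul_comm' (⟨x, hx⟩ : A) ⟨y, hy⟩)
  obtain ⟨n, hn⟩ : ∃ n, t.val = n + 1 := ⟨t.val - 1, by omega⟩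
  have hpow : u ^ t.val = b := by
    rw [hn] at hat1 hue ⊢
    exact partner_pow h hcomm n a ha hat1 b hb he u hu hue
  have hup := partner_pow_eq_one h hAp (A.pow_mem ha t.val) hat1 hu hu1 hue
  have hyu : b ^ (t⁻¹).val = u := by
    have h1 : (t * t⁻¹).val = 1 := by rw [mul_inv_cancel₀ ht]; exact ZMod.val_one p
    rw [← hpow, ← pow_mul, pow_eq_pow_mod _ hup, ← ZMod.val_mul, h1, pow_one]
  obtain ⟨e2, -, -⟩ := special_braid h (A.pow_mem ha t.val) hat1 hu hu1 hue
  have hnegx : a ^ (-t).val = (a ^ t.val)⁻¹ := eq_inv_of_mul_eq_one_left (by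
    rw [← pow_val_add hap, neg_add_cancel, ZMod.val_zero, pow_zero])
  have hnegy : b ^ (-t⁻¹).val = (b ^ (t⁻¹).val)⁻¹ := eq_inv_of_mul_eq_one_left (by
    rw [← pow_val_add hbp, neg_add_cancel, ZMod.val_zero, pow_zero])
  show a ^ t.val * b ^ (t⁻¹).val * a ^ (-t).val = b ^ (t⁻¹).val * a ^ (-t).val * b ^ (-t⁻¹).val
  rw [hnegx, hnegy, hyu]
  exact e2

theorem uM_eq_lM_conj (t : ZMod p) :
    (wM : Matrix.SpecialLinearGroup (Fin 2) (ZMod p)) * uM t * wM⁻¹ = lM (-t) := by
  rw [mul_inv_eq_iff_eq_mul]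
  apply mat_inj
  ext i j
  fin_cases i <;> fin_cases j <;> simp [mat_mul, mat_lM, mat_uM, mat_wM, Matrix.mul_apply, Fin.sum_univ_two]

/-- `⟨a, b⟩` is an image of `SL₂(p)` with kernel in `{±1}`. -/
theorem exists_sl2_hom (h : IsSpecialRankOnePair A B) (hA : IsMulCommutative A)
    (hAp : ∀ x ∈ A, x ^ p = 1) {a b : G} (ha : a ∈ A) (ha1 : a ≠ 1) (hb : b ∈ B) (hb1 : b ≠ 1)
    (he : conjBy A b⁻¹ = conjBy B a⁻¹) :
    ∃ φ : Matrix.SpecialLinearGroup (Fin 2) (ZMod p) →* G, φ.range = closure ({a, b} : Set G) ∧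
      (∀ g ∈ φ.ker, ∃ r : ZMod p, r * r = 1 ∧ mat g = !![r, 0; 0, r]) ∧
      (φ.ker = ⊥ ∨ φ.ker = center (Matrix.SpecialLinearGroup (Fin 2) (ZMod p))) := by
  obtain ⟨φ, hu, hl, hrange⟩ := (special_braidPair h hA hAp ha ha1 hb hb1 he).sl2Rel.exists_hom
  have hbp := partner_pow_eq_one h hAp ha ha1 hb hb1 he
  -- a kernel element is upper triangular
  have hupper : ∀ g ∈ φ.ker, mat g 1 0 = 0 := by
    intro g hg
    by_contra hc
    have hd := mat_det g
    have hdec : g = uM ((mat g 0 0 - 1) / mat g 1 0) * lM (mat g 1 0) * uM ((mat g 1 1 - 1) / mat g 1 0) := by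
      apply mat_inj
      rw [Matrix.eta_fin_two (mat g)]
      ext i j
      fin_cases i <;> fin_cases j <;>
        simp [mat_mul, mat_uM, mat_lM, Matrix.mul_apply, Fin.sum_univ_two] <;> field_simp
      all_goals first | ring1 | linear_combination hd | linear_combination -hd
    rw [MonoidHom.mem_ker, hdec, map_mul, map_mul, hu, hl, hu] at hg
    have hbA : b ^ (mat g 1 0).val ∈ A := by
      have h1 : b ^ (mat g 1 0).val = (a ^ ((mat g 0 0 - 1) / mat g 1 0).val)⁻¹ *
          (a ^ ((mat g 1 1 - 1) / mat g 1 0).val)⁻¹ := by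
        rw [eq_mul_inv_iff_mul_eq, eq_inv_iff_mul_eq_one]
        calc b ^ (mat g 1 0).val * a ^ ((mat g 1 1 - 1) / mat g 1 0).val * a ^ ((mat g 0 0 - 1) / mat g 1 0).val
            = (a ^ ((mat g 0 0 - 1) / mat g 1 0).val)⁻¹ * (a ^ ((mat g 0 0 - 1) / mat g 1 0).val *
              b ^ (mat g 1 0).val * a ^ ((mat g 1 1 - 1) / mat g 1 0).val) *
              a ^ ((mat g 0 0 - 1) / mat g 1 0).val := by group
          _ = 1 := by rw [hg]; group
      rw [h1]
      exact mul_mem (inv_mem (A.pow_mem ha _)) (inv_mem (A.pow_mem ha _))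
    have h0 : b ^ (mat g 1 0).val = 1 := by
      rw [← Subgroup.mem_bot, ← inf_eq_bot h.1]
      exact Subgroup.mem_inf.mpr ⟨hbA, B.pow_mem hb _⟩
    have hdvd := orderOf_dvd_of_pow_eq_one h0
    rw [orderOf_eq_prime hbp hb1] at hdvd
    exact absurd (Nat.le_of_dvd (Nat.pos_of_ne_zero fun h' => hc ((ZMod.val_eq_zero _).mp h')) hdvd)
      (not_le.mpr (mat g 1 0).val_lt)
  have hscalar : ∀ g ∈ φ.ker, ∃ r : ZMod p, r * r = 1 ∧ mat g = !![r, 0; 0, r] := by
    intro g hg
    have hc := hupper g hg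
    have hd := mat_det g
    rw [hc, mul_zero, sub_zero] at hd
    have hb0 : mat g 0 1 = 0 := by
      have := hupper (wM * g * wM⁻¹) (Subgroup.Normal.conj_mem inferInstance g hg wM)
      have e : mat (wM * g * wM⁻¹) * mat wM = mat wM * mat g := by rw [← mat_mul, ← mat_mul, inv_mul_cancel_right]
      have e1 := congrArg (fun M : Matrix (Fin 2) (Fin 2) (ZMod p) => M 1 1) e
      simp [mat_wM, Matrix.mul_apply, Fin.sum_univ_two, this] at e1
      exact e1
    have hdiag : mat g 0 0 = mat g 1 1 := by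
      have hu1 : (uM 1 : Matrix.SpecialLinearGroup (Fin 2) (ZMod p)) * g * (uM 1)⁻¹ * g⁻¹ ∈ φ.ker :=
        mul_mem (Subgroup.Normal.conj_mem inferInstance g hg _) (inv_mem hg)
      set q := (uM 1 : Matrix.SpecialLinearGroup (Fin 2) (ZMod p)) * g * (uM 1)⁻¹ * g⁻¹ with hq
      have hq0 := hupper q hu1
      have e : mat q * (mat g * mat (uM 1)) = mat (uM 1) * mat g := by
        rw [← mat_mul, ← mat_mul, ← mat_mul]
        congr 1
        rw [hq]; group
      have hqb : mat q 0 1 = 0 := by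
        have := hupper (wM * q * wM⁻¹) (Subgroup.Normal.conj_mem inferInstance q hu1 wM)
        have e' : mat (wM * q * wM⁻¹) * mat wM = mat wM * mat q := by rw [← mat_mul, ← mat_mul, inv_mul_cancel_right]
        have e1 := congrArg (fun M : Matrix (Fin 2) (Fin 2) (ZMod p) => M 1 1) e'
        simp [mat_wM, Matrix.mul_apply, Fin.sum_univ_two, this] at e1
        exact e1
      have e00 := congrArg (fun M : Matrix (Fin 2) (Fin 2) (ZMod p) => M 0 0) e
      have e01 := congrArg (fun M : Matrix (Fin 2) (Fin 2) (ZMod p) => M 0 1) e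
      simp [mat_uM, Matrix.mul_apply, Fin.sum_univ_two, hc, hb0, hqb] at e00 e01
      have ha0 : mat g 0 0 ≠ 0 := fun h' => by simp [h'] at hd
      have hq00 : mat q 0 0 = 1 := mul_right_cancel₀ ha0 (by rw [e00, one_mul])
      rw [hq00, one_mul] at e01
      exact e01
    refine ⟨mat g 0 0, by rw [← hdiag] at hd; exact hd, ?_⟩
    rw [Matrix.eta_fin_two (mat g), hc, hb0, ← hdiag]
    simp
  refine ⟨φ, ?_, hscalar, ?_⟩
  · rw [hrange]
    refine le_antisymm ((closure_le _).mpr ?_) ((closure_le _).mpr ?_)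
    · rintro _ (⟨t, rfl⟩ | ⟨t, rfl⟩)
      · exact pow_mem (subset_closure (by simp)) _
      · exact pow_mem (subset_closure (by simp)) _
    · intro g hg
      simp only [Set.mem_insert_iff, Set.mem_singleton_iff] at hg
      rcases hg with rfl | rfl
      · exact subset_closure (Or.inl ⟨1, by simp [ZMod.val_one]⟩)
      · exact subset_closure (Or.inr ⟨1, by simp [ZMod.val_one]⟩)
  · by_cases hbot : φ.ker = ⊥
    · exact Or.inl hbot
    right
    obtain ⟨g, hg, hg1⟩ := φ.ker.bot_or_exists_ne_one.resolve_left hbot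
    refine le_antisymm (fun k hk => ?_) (fun k hk => ?_)
    · obtain ⟨r, hr, hk'⟩ := hscalar k hk
      rw [Matrix.SpecialLinearGroup.mem_center_iff]
      refine ⟨r, by rw [Fintype.card_fin, pow_two]; exact hr, ?_⟩
      show _ = mat k
      rw [hk']
      ext i j
      fin_cases i <;> fin_cases j <;> simp
    · obtain ⟨r, hr, hk'⟩ := Matrix.SpecialLinearGroup.mem_center_iff.mp hk
      rw [Fintype.card_fin, pow_two] at hr
      obtain ⟨r', hr', hg'⟩ := hscalar g hg
      rcases mul_self_eq_one_iff.mp hr with rfl | rfl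
      · have : k = 1 := by
          apply mat_inj
          rw [mat_one]
          show (k : Matrix (Fin 2) (Fin 2) (ZMod p)) = 1
          rw [← hk', map_one]
        exact this ▸ one_mem _
      · rcases mul_self_eq_one_iff.mp hr' with rfl | rfl
        · exfalso
          apply hg1
          apply mat_inj
          rw [mat_one, hg', Matrix.one_fin_two]
        · have : k = g := by
            apply mat_inj
            show (k : Matrix (Fin 2) (Fin 2) (ZMod p)) = mat g
            rw [← hk', hg']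
            ext i j
            fin_cases i <;> fin_cases j <;> simp
          exact this ▸ hg

theorem zmod2_sq : ∀ r : ZMod 2, r * r = 1 → r = 1 := by decide

/-- The minimal subgroups are `SL₂(p)` or `PSL₂(p)`. -/
theorem minimal_iso (h : IsSpecialRankOnePair A B) (hA : IsMulCommutative A)
    (hAp : ∀ x ∈ A, x ^ p = 1) {a b : G} (ha : a ∈ A) (ha1 : a ≠ 1) (hb : b ∈ B) (hb1 : b ≠ 1)
    (he : conjBy A b⁻¹ = conjBy B a⁻¹) :
    Nonempty (↥(closure ({a, b} : Set G)) ≃* Matrix.SpecialLinearGroup (Fin 2) (ZMod p)) ∨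
    (p ≠ 2 ∧ Nonempty (↥(closure ({a, b} : Set G)) ≃* Matrix.ProjectiveSpecialLinearGroup (Fin 2) (ZMod p))) := by
  obtain ⟨φ, hr, hs, hk⟩ := exists_sl2_hom h hA hAp ha ha1 hb hb1 he
  have e := (MulEquiv.subgroupCongr hr.symm).trans (QuotientGroup.quotientKerEquivRange φ).symm
  by_cases hinj : φ.ker = ⊥
  · exact Or.inl ⟨e.trans ((QuotientGroup.quotientMulEquivOfEq hinj).trans QuotientGroup.quotientBot)⟩
  · refine Or.inr ⟨?_, ⟨e.trans (QuotientGroup.quotientMulEquivOfEq (hk.resolve_left hinj))⟩⟩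
    rintro rfl
    refine hinj ((Subgroup.eq_bot_iff_forall _).mpr fun g hg => ?_)
    obtain ⟨r, hr2, hg'⟩ := hs g hg
    have : r = 1 := by
      exact zmod2_sq r hr2
    apply mat_inj
    rw [mat_one, hg', this, Matrix.one_fin_two]

end Cfsg.Lib.RootSub
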