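import Cfsg.Agent.RootSub.Transv

/-!
# Transvection groups with parameters in a subfield
-/

set_option autoImplicit false
set_option linter.unusedSectionVars false
set_option linter.unusedVariables false
set_option linter.unusedSimpArgs false
set_option linter.style.haveILetI false

open Subgroup Matrix
open Cfsg

namespace Cfsg.Lib.RootSub

variable {ι : Type*} [Fintype ι] [DecidableEq ι] {F : Type*} [Field F] {L : Type*} [Field L] (j : L →+* F)
  {G : Type*} [Group G]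

/-- `A` is the group `{1 + j t · v ψ}` with `t` in the subfield. -/
structure IsSubTransv (e : G →* Matrix ι ι F) (A : Subgroup G) (v ψ : ι → F) : Prop where
  hv : v ≠ 0
  hψ : ψ ≠ 0
  perp : ψ ⬝ᵥ v = 0
  sub : ∀ g ∈ A, ∃ t : L, e g = tmat v ψ (j t)
  full : ∀ t : L, ∃ g ∈ A, e g = tmat v ψ (j t)

variable {j} {e : G →* Matrix ι ι F} {A B : Subgroup G} {v ψ w χ : ι → F}

theorem IsSubTransv.mem_of (he : Function.Injective e) (hA : IsSubTransv j e A v ψ) {g : G} {t : L}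
    (hg : e g = tmat v ψ (j t)) : g ∈ A := by
  obtain ⟨g', hg', e'⟩ := hA.full t
  rwa [he (hg.trans e'.symm)]

theorem IsSubTransv.unique (he : Function.Injective e) (hA : IsSubTransv j e A v ψ) (hB : IsSubTransv j e B v ψ) :
    A = B := by
  refine le_antisymm (fun g hg => ?_) fun g hg => ?_
  · obtain ⟨x, hx⟩ := hA.sub g hg
    exact hB.mem_of he hx
  · obtain ⟨x, hx⟩ := hB.sub g hg
    exact hA.mem_of he hx

theorem IsSubTransv.commutative (he : Function.Injective e) (hA : IsSubTransv j e A v ψ) : IsMulCommutative A := by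
  refine ⟨⟨fun a b => Subtype.ext (he ?_)⟩⟩
  obtain ⟨x, hx⟩ := hA.sub a a.2
  obtain ⟨y, hy⟩ := hA.sub b b.2
  rw [Subgroup.coe_mul, Subgroup.coe_mul, map_mul, map_mul, hx, hy, tmat_add hA.perp, tmat_add hA.perp, add_comm]

theorem IsSubTransv.ne_bot (hA : IsSubTransv j e A v ψ) : A ≠ ⊥ := by
  intro h
  obtain ⟨g, hg, hge⟩ := hA.full 1
  rw [h, Subgroup.mem_bot] at hg
  rw [hg, map_one, ← tmat_zero v ψ, map_one] at hge
  exact zero_ne_one (tmat_inj hA.hv hA.hψ hge)

theorem IsSubTransv.conj (hA : IsSubTransv j e A v ψ) (g : G) :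
    IsSubTransv j e (conjBy A g) (e g *ᵥ v) (ψ ᵥ* e g⁻¹) := by
  have key : ∀ a x, e a = tmat v ψ x → e (g * a * g⁻¹) = tmat (e g *ᵥ v) (ψ ᵥ* e g⁻¹) x := by
    intro a x hx
    rw [map_mul, map_mul, hx, tmat, tmat, mul_add, mul_one, add_mul, e_cancel, mul_smul_comm, smul_mul_assoc,
      mul_outer_mul]
  refine ⟨fun h => hA.hv ?_, fun h => hA.hψ ?_, ?_, fun a ha => ?_, fun x => ?_⟩
  · have := congrArg (e g⁻¹ *ᵥ ·) h
    simpa [mulVec_mulVec, e_cancel'] using this
  · have := congrArg (· ᵥ* e g) h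
    simpa [vecMul_vecMul, e_cancel'] using this
  · rw [dotProduct_mulVec, vecMul_vecMul, e_cancel', vecMul_one, hA.perp]
  · obtain ⟨x, hx⟩ := hA.sub _ (mem_conjBy.mp ha)
    exact ⟨x, by simpa [mul_assoc] using key _ _ hx⟩
  · obtain ⟨a, ha, hx⟩ := hA.full x
    exact ⟨g * a * g⁻¹, mem_conjBy.mpr (by simpa [mul_assoc] using ha), key a _ hx⟩

theorem subTransv_comm_bot (he : Function.Injective e) (hA : IsSubTransv j e A v ψ) (hB : IsSubTransv j e B w χ)
    (h : ψ ⬝ᵥ w = 0) (h' : χ ⬝ᵥ v = 0) : ⁅A, B⁆ = ⊥ := by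
  rw [Subgroup.commutator_eq_bot_iff_le_centralizer]
  refine fun a ha => mem_centralizer_iff.mpr fun b hb => ?_
  obtain ⟨x, hx⟩ := hA.sub a ha
  obtain ⟨y, hy⟩ := hB.sub b hb
  exact he (by rw [map_mul, map_mul, hx, hy, tmat_comm h h'])

/-- Two such groups in general position generate an image of `SL₂` over the subfield. -/
theorem subTransv_pair (he : Function.Injective e) (hA : IsSubTransv j e A v ψ) (hB : IsSubTransv j e B w χ)
    (ha0 : ψ ⬝ᵥ w ≠ 0) (hb0 : χ ⬝ᵥ v ≠ 0) {c : L} (hc : j c = (ψ ⬝ᵥ w) * (χ ⬝ᵥ v)) :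
    IsRankOnePair A B ∧ IsPSL2PairOver L A B := by
  have hc0 : c ≠ 0 := fun h => mul_ne_zero ha0 hb0 (by rw [← hc, h, map_zero])
  set a := ψ ⬝ᵥ w with hadef
  set b := χ ⬝ᵥ v with hbdef
  set P : Matrix ι (Fin 2) F := Matrix.of fun i i' => ![v i, a⁻¹ * w i] i' with hP
  set Q : Matrix (Fin 2) ι F := Matrix.of ![b⁻¹ • χ, ψ] with hQ
  have hQP : Q * P = 1 := by
    have c0 : (fun i => P i 0) = v := by funext i; simp [hP]
    have c1 : (fun i => P i 1) = a⁻¹ • w := by funext i; simp [hP]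
    have r0 : (fun i => Q 0 i) = b⁻¹ • χ := by funext i; simp [hQ]
    have r1 : (fun i => Q 1 i) = ψ := by funext i; simp [hQ]
    ext i i'
    rw [Matrix.mul_apply']
    fin_cases i <;> fin_cases i' <;>
      simp [c0, c1, r0, r1, ← hadef, ← hbdef, hA.perp, hB.perp, inv_mul_cancel₀ ha0, inv_mul_cancel₀ hb0]
  let Φ : Matrix (Fin 2) (Fin 2) F → Matrix ι ι F := fun M => 1 + P * (M - 1) * Q
  have hΦmul : ∀ M N, Φ M * Φ N = Φ (M * N) := by
    intro M N
    have e1 : P * (M - 1) * Q * (P * (N - 1) * Q) = P * ((M - 1) * (N - 1)) * Q := by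
      calc P * (M - 1) * Q * (P * (N - 1) * Q) = P * (M - 1) * (Q * P) * (N - 1) * Q := by
            simp only [Matrix.mul_assoc]
        _ = _ := by rw [hQP, Matrix.mul_one]; simp only [Matrix.mul_assoc]
    simp only [Φ]
    rw [add_mul, one_mul, mul_add, mul_one, e1,
      show M * N - 1 = (M - 1) + (N - 1) + (M - 1) * (N - 1) by noncomm_ring]
    simp only [Matrix.mul_add, Matrix.add_mul]
    abel
  have hΦ1 : Φ 1 = 1 := by simp [Φ]
  have hΦinj : ∀ M N, Φ M = Φ N → M = N := by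
    intro M N h
    have h' := congrArg (fun X => Q * X * P) (add_left_cancel h)
    have e2 : ∀ X : Matrix (Fin 2) (Fin 2) F, Q * (P * X * Q) * P = X := fun X => by
      calc Q * (P * X * Q) * P = (Q * P) * X * (Q * P) := by simp only [Matrix.mul_assoc]
        _ = X := by rw [hQP, Matrix.one_mul, Matrix.mul_one]
    simpa [e2] using h'
  let m : Matrix.SpecialLinearGroup (Fin 2) L →* Matrix.SpecialLinearGroup (Fin 2) F :=
    Matrix.SpecialLinearGroup.map j
  have hminj : Function.Injective m := fun M N h => by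
    apply Subtype.ext
    ext i i'
    exact j.injective (congrFun (congrFun (congrArg Subtype.val h) i) i')
  have hup : ∀ t : L, Φ (m (upEl t) : Matrix (Fin 2) (Fin 2) F) = tmat v ψ (j t) := by
    intro t
    have : (m (upEl t) : Matrix (Fin 2) (Fin 2) F) = !![1, j t; 0, 1] := by
      ext i i'; fin_cases i <;> fin_cases i' <;> simp [m, upEl_coe]
    simp only [Φ, tmat, this]
    congr 1
    ext i i'
    simp [Matrix.mul_apply, Fin.sum_univ_two, hP, hQ, vecMulVec_apply, Matrix.one_apply]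
    ring
  have hlo : ∀ t : L, Φ (m (loEl t) : Matrix (Fin 2) (Fin 2) F) = tmat w χ (j (t / c)) := by
    intro t
    have : (m (loEl t) : Matrix (Fin 2) (Fin 2) F) = !![1, 0; j t, 1] := by
      ext i i'; fin_cases i <;> fin_cases i' <;> simp [m, loEl_coe]
    simp only [Φ, tmat, this, map_div₀, hc]
    congr 1
    ext i i'
    simp [Matrix.mul_apply, Fin.sum_univ_two, hP, hQ, vecMulVec_apply, Matrix.one_apply]
    field_simp
  have hex : ∀ M : Matrix.SpecialLinearGroup (Fin 2) L, ∃ g, e g = Φ (m M : Matrix (Fin 2) (Fin 2) F) := by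
    intro M
    have hM : M ∈ lowerUnipotentSL2 L ⊔ upperUnipotentSL2 L := lower_sup_upper (k := L) ▸ Subgroup.mem_top M
    rw [Subgroup.sup_eq_closure] at hM
    induction hM using Subgroup.closure_induction with
    | mem g hg =>
      rcases hg with hg | hg
      · obtain ⟨t, rfl⟩ := mem_lower_iff.mp hg
        obtain ⟨g', -, h⟩ := hB.full (t / c)
        exact ⟨g', by rw [h, hlo]⟩
      · obtain ⟨t, rfl⟩ := mem_upper_iff.mp hg
        obtain ⟨g', -, h⟩ := hA.full t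
        exact ⟨g', by rw [h, hup]⟩
    | one => exact ⟨1, by rw [map_one, map_one, Matrix.SpecialLinearGroup.coe_one, hΦ1]⟩
    | mul x y _ _ hx hy =>
      obtain ⟨g, hg⟩ := hx
      obtain ⟨g', hg'⟩ := hy
      exact ⟨g * g', by rw [map_mul, hg, hg', hΦmul, map_mul, Matrix.SpecialLinearGroup.coe_mul]⟩
    | inv x _ hx =>
      obtain ⟨g, hg⟩ := hx
      refine ⟨g⁻¹, left_inv_eq_right_inv (e_cancel' e g) ?_⟩
      rw [hg, hΦmul, ← Matrix.SpecialLinearGroup.coe_mul, ← map_mul, mul_inv_cancel, map_one,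
        Matrix.SpecialLinearGroup.coe_one, hΦ1]
  choose f hf using hex
  let φ : Matrix.SpecialLinearGroup (Fin 2) L →* G :=
    { toFun := f
      map_one' := he (by rw [hf, map_one, Matrix.SpecialLinearGroup.coe_one, hΦ1, map_one])
      map_mul' := fun M N => he (by rw [hf, map_mul, map_mul, hf, hf, hΦmul, Matrix.SpecialLinearGroup.coe_mul]) }
  have hφ : ∀ M, e (φ M) = Φ (m M : Matrix (Fin 2) (Fin 2) F) := hf
  have hi : Function.Injective φ := fun M N h => hminj (Subtype.ext (hΦinj _ _ (by rw [← hφ, ← hφ, h])))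
  have hU : (upperUnipotentSL2 L).map φ = A := by
    ext g
    rw [Subgroup.mem_map]
    constructor
    · rintro ⟨M, hM, rfl⟩
      obtain ⟨t, rfl⟩ := mem_upper_iff.mp hM
      exact hA.mem_of he ((hφ _).trans (hup t))
    · intro hg
      obtain ⟨x, hx⟩ := hA.sub g hg
      exact ⟨upEl x, mem_upper_iff.mpr ⟨_, rfl⟩, he ((hφ _).trans ((hup x).trans hx.symm))⟩
  have hLo : (lowerUnipotentSL2 L).map φ = B := by
    ext g
    rw [Subgroup.mem_map]
    constructor
    · rintro ⟨M, hM, rfl⟩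
      obtain ⟨t, rfl⟩ := mem_lower_iff.mp hM
      exact hB.mem_of he ((hφ _).trans (hlo t))
    · intro hg
      obtain ⟨x, hx⟩ := hB.sub g hg
      refine ⟨loEl (x * c), mem_lower_iff.mpr ⟨_, rfl⟩, he ((hφ _).trans ((hlo _).trans ?_))⟩
      rw [hx, mul_div_cancel_right₀ _ hc0]
  refine ⟨?_, φ, ?_, ?_, hU, hLo⟩
  · rw [← hU, ← hLo]
    exact map_pair φ (RankOnePair_symm sl2_isRankOnePair)
      fun h => sl2_isRankOnePair.ne (Subgroup.map_injective hi h).symm
  · rw [MonoidHom.range_eq_map, ← lower_sup_upper, Subgroup.map_sup, hU, hLo, sup_comm]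
  · rw [(MonoidHom.ker_eq_bot_iff φ).mpr hi]
    exact bot_le

/-- A symmetric family of such groups is a degenerate class of `L`-root subgroups. -/
theorem subTransv_spec (he : Function.Injective e) {S : Set (Subgroup G)} (P : (ι → F) → Prop) (Ψ : (ι → F) → ι → F)
    (hmem : ∀ A ∈ S, ∃ v, P v ∧ IsSubTransv j e A v (Ψ v))
    (hgen : (⨆ A ∈ S, A) = ⊤) (hconj : ∀ A ∈ S, ∀ g : G, conjBy A g ∈ S)
    (horth : ∀ v w, P v → P w → Ψ v ⬝ᵥ w = 0 → Ψ w ⬝ᵥ v = 0)
    (hrange : ∀ v w, P v → P w → ∃ c, j c = (Ψ v ⬝ᵥ w) * (Ψ w ⬝ᵥ v))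
    (hjoin : ∀ v w, P v → P w → v ≠ 0 → w ≠ 0 → ∃ u, ∃ C ∈ S, P u ∧ IsSubTransv j e C u (Ψ u) ∧
      Ψ v ⬝ᵥ u ≠ 0 ∧ Ψ w ⬝ᵥ u ≠ 0)
    (hne : S.Nonempty) :
    IsRootSubgroupClass S ∧ IsDegenerateRootSet S ∧ IsKRootSubgroupSet L S ∧ IsConnectedFamily (FAdj S) S := by
  have hpair : ∀ {A B : Subgroup G} {v w : ι → F}, P v → P w → IsSubTransv j e A v (Ψ v) →
      IsSubTransv j e B w (Ψ w) → Ψ v ⬝ᵥ w ≠ 0 → IsRankOnePair A B ∧ IsPSL2PairOver L A B := by
    intro A B v w hv hw hA hB h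
    obtain ⟨c, hc⟩ := hrange v w hv hw
    exact subTransv_pair he hA hB h (fun h' => h (horth w v hw hv h')) hc
  have hset : IsRootSubgroupSet S := by
    refine ⟨fun A hA => ?_, fun A hA => ?_, hgen, hconj, fun A hA B hB => ?_⟩
    · obtain ⟨v, -, h⟩ := hmem A hA
      exact h.commutative he
    · obtain ⟨v, -, h⟩ := hmem A hA
      exact h.ne_bot
    · obtain ⟨v, hv, h⟩ := hmem A hA
      obtain ⟨w, hw, h'⟩ := hmem B hB
      by_cases h0 : Ψ v ⬝ᵥ w = 0
      · exact Or.inl (subTransv_comm_bot he h h' h0 (horth v w hv hw h0))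
      · exact Or.inr (Or.inl (hpair hv hw h h' h0).1)
  have hdeg : IsDegenerateRootSet S := by
    intro A hA B hB hcc
    obtain ⟨v, hv, h⟩ := hmem A hA
    obtain ⟨w, hw, h'⟩ := hmem B hB
    by_cases h0 : Ψ v ⬝ᵥ w = 0
    · exact hset.ne_bot _ hcc.1 (subTransv_comm_bot he h h' h0 (horth v w hv hw h0))
    · exact commutator_notMem_of_pair hset hA hB (hpair hv hw h h' h0).1 hcc.1
  have hk : IsKRootSubgroupSet L S := by
    refine ⟨hset, fun A hA B hB hAB => ?_⟩
    obtain ⟨v, hv, h⟩ := hmem A hA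
    obtain ⟨w, hw, h'⟩ := hmem B hB
    by_cases h0 : Ψ v ⬝ᵥ w = 0
    · exact absurd (subTransv_comm_bot he h h' h0 (horth v w hv hw h0)) (not_commutator_bot hAB)
    · exact (hpair hv hw h h' h0).2
  have hcon : IsConnectedFamily (FAdj S) S := by
    intro A hA B hB
    obtain ⟨v, hv, h⟩ := hmem A hA
    obtain ⟨w, hw, h'⟩ := hmem B hB
    obtain ⟨u, C, hC, hu, hC', h1, h2⟩ := hjoin v w hv hw h.hv h'.hv
    exact (Relation.ReflTransGen.single (show FAdj S A C from ⟨hA, hC, (hpair hv hu h hC' h1).1⟩)).tail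
      ⟨hC, hB, (hpair hu hw hC' h' fun h0 => h2 (horth u w hu hw h0)).1⟩
  refine ⟨⟨hset, ?_⟩, hdeg, hk, hcon⟩
  obtain ⟨A, hA⟩ := hne
  obtain ⟨v, hv, h⟩ := hmem A hA
  obtain ⟨u, C, hC, hu, hC', h1, -⟩ := hjoin v v hv hv h.hv h.hv
  exact ((connected_iff_class hset ⟨A, hA, C, hC, (hpair hv hu h hC' h1).1.ne⟩).mp hcon).1

end Cfsg.Lib.RootSub
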