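import Cfsg.Agent.RootSub.SL2
import Cfsg.Agent.RootSub.CommCase
import Cfsg.Agent.RootSub.Components

/-!
# Transvection groups inside a matrix group
-/

set_option autoImplicit false
set_option linter.unusedSectionVars false
set_option linter.unusedVariables false
set_option linter.unusedSimpArgs false

open Subgroup Matrix
open Cfsg

namespace Cfsg.Lib.RootSub

variable {ι : Type*} [Fintype ι] [DecidableEq ι] {k : Type*} [Field k] {G : Type*} [Group G]

/-- `1 + x v ψ`. -/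
def tmat (v ψ : ι → k) (x : k) : Matrix ι ι k := 1 + x • vecMulVec v ψ

theorem tmat_zero (v ψ : ι → k) : tmat v ψ 0 = 1 := by simp [tmat]

theorem outer_mul_outer (v ψ w χ : ι → k) :
    vecMulVec v ψ * vecMulVec w χ = (ψ ⬝ᵥ w) • vecMulVec v χ := by
  rw [vecMulVec_mul_vecMulVec, vecMulVec_smul]

theorem mul_outer_mul (M N : Matrix ι ι k) (v ψ : ι → k) :
    M * vecMulVec v ψ * N = vecMulVec (M *ᵥ v) (ψ ᵥ* N) := by
  rw [mul_vecMulVec, vecMulVec_mul]

theorem outer_ne_zero {v ψ : ι → k} (hv : v ≠ 0) (hψ : ψ ≠ 0) : vecMulVec v ψ ≠ 0 := by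
  obtain ⟨i, hi⟩ := Function.ne_iff.1 hv
  obtain ⟨j, hj⟩ := Function.ne_iff.1 hψ
  intro h
  have := congrFun (congrFun h i) j
  rw [vecMulVec_apply, Matrix.zero_apply, mul_eq_zero] at this
  exact this.elim hi hj

theorem tmat_inj {v ψ : ι → k} (hv : v ≠ 0) (hψ : ψ ≠ 0) {x y : k} (h : tmat v ψ x = tmat v ψ y) : x = y :=
  smul_left_injective k (outer_ne_zero hv hψ) (add_left_cancel h)

theorem tmat_mul (v ψ w χ : ι → k) (x y : k) :
    tmat v ψ x * tmat w χ y =
      1 + x • vecMulVec v ψ + y • vecMulVec w χ + (x * y * (ψ ⬝ᵥ w)) • vecMulVec v χ := by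
  simp only [tmat, mul_add, add_mul, one_mul, mul_one, smul_mul_assoc, mul_smul_comm, outer_mul_outer, smul_smul]
  module

theorem tmat_add {v ψ : ι → k} (h : ψ ⬝ᵥ v = 0) (x y : k) : tmat v ψ x * tmat v ψ y = tmat v ψ (x + y) := by
  rw [tmat_mul, h, tmat]
  module

theorem tmat_comm {v ψ w χ : ι → k} (h : ψ ⬝ᵥ w = 0) (h' : χ ⬝ᵥ v = 0) (x y : k) :
    tmat v ψ x * tmat w χ y = tmat w χ y * tmat v ψ x := by
  rw [tmat_mul, tmat_mul, h, h']
  module

theorem tmat_comm_add {v ψ w χ : ι → k} (hψ : ψ ⬝ᵥ v = 0) (hχ : χ ⬝ᵥ w = 0) (h : χ ⬝ᵥ v = 0) (x y : k) :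
    tmat v ψ x * tmat w χ y = tmat v χ (x * y * (ψ ⬝ᵥ w)) * (tmat w χ y * tmat v ψ x) := by
  rw [tmat_mul, tmat_mul, h]
  simp only [tmat, mul_add, add_mul, one_mul, mul_one, smul_mul_assoc, mul_smul_comm, outer_mul_outer, smul_smul,
    hψ, hχ, h, mul_zero, zero_smul, add_zero, smul_zero]
  module

/-- `A` is the root group `{1 + x v ψ}`, seen through `e`. -/
structure IsTransvGroup (e : G →* Matrix ι ι k) (A : Subgroup G) (v ψ : ι → k) : Prop where
  hv : v ≠ 0
  hψ : ψ ≠ 0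
  perp : ψ ⬝ᵥ v = 0
  sub : ∀ g ∈ A, ∃ x, e g = tmat v ψ x
  full : ∀ x, ∃ g ∈ A, e g = tmat v ψ x

variable {e : G →* Matrix ι ι k} {A B C : Subgroup G} {v ψ w χ : ι → k}

theorem e_cancel (e : G →* Matrix ι ι k) (g : G) : e g * e g⁻¹ = 1 := by
  rw [← map_mul, mul_inv_cancel, map_one]

theorem e_cancel' (e : G →* Matrix ι ι k) (g : G) : e g⁻¹ * e g = 1 := by
  rw [← map_mul, inv_mul_cancel, map_one]

theorem IsTransvGroup.mem_of (he : Function.Injective e) (hA : IsTransvGroup e A v ψ) {g : G} {x : k}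
    (hg : e g = tmat v ψ x) : g ∈ A := by
  obtain ⟨g', hg', e'⟩ := hA.full x
  rwa [he (hg.trans e'.symm)]

theorem IsTransvGroup.unique (he : Function.Injective e) (hA : IsTransvGroup e A v ψ)
    (hB : IsTransvGroup e B v ψ) : A = B := by
  refine le_antisymm (fun g hg => ?_) (fun g hg => ?_)
  · obtain ⟨x, hx⟩ := hA.sub g hg
    exact hB.mem_of he hx
  · obtain ⟨x, hx⟩ := hB.sub g hg
    exact hA.mem_of he hx

theorem IsTransvGroup.commutative (he : Function.Injective e) (hA : IsTransvGroup e A v ψ) : IsMulCommutative A := by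
  refine ⟨⟨fun a b => Subtype.ext (he ?_)⟩⟩
  obtain ⟨x, hx⟩ := hA.sub a a.2
  obtain ⟨y, hy⟩ := hA.sub b b.2
  rw [Subgroup.coe_mul, Subgroup.coe_mul, map_mul, map_mul, hx, hy, tmat_add hA.perp, tmat_add hA.perp, add_comm]

theorem IsTransvGroup.ne_bot (hA : IsTransvGroup e A v ψ) : A ≠ ⊥ := by
  intro h
  obtain ⟨g, hg, hge⟩ := hA.full 1
  rw [h, Subgroup.mem_bot] at hg
  rw [hg, map_one, ← tmat_zero v ψ] at hge
  exact zero_ne_one (tmat_inj hA.hv hA.hψ hge)

theorem IsTransvGroup.param_ne_zero (he : Function.Injective e) {g : G} {x : k}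
    (hg : e g = tmat v ψ x) (h1 : g ≠ 1) : x ≠ 0 := fun h => h1 (he (by rw [hg, h, tmat_zero, map_one]))

theorem IsTransvGroup.conj (hA : IsTransvGroup e A v ψ) (g : G) :
    IsTransvGroup e (conjBy A g) (e g *ᵥ v) (ψ ᵥ* e g⁻¹) := by
  have key : ∀ a x, e a = tmat v ψ x → e (g * a * g⁻¹) = tmat (e g *ᵥ v) (ψ ᵥ* e g⁻¹) x := by
    intro a x hx
    rw [map_mul, map_mul, hx, tmat, tmat, mul_add, mul_one, add_mul, e_cancel, mul_smul_comm, smul_mul_assoc,
      mul_outer_mul]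
  refine ⟨fun h => hA.hv ?_, fun h => hA.hψ ?_, ?_, fun a ha => ?_, fun x => ?_⟩
  · have := congrArg (e g⁻¹ *ᵥ ·) h
    simpa [mulVec_mulVec, e_cancel'] using this
  · have := congrArg (· ᵥ* e g) h
    simpa [vecMul_vecMul, e_cancel'] using this
  · rw [dotProduct_mulVec, vecMul_vecMul, e_cancel', vecMul_one, hA.perp]
  · obtain ⟨x, hx⟩ := hA.sub _ (mem_conjBy.mp ha)
    exact ⟨x, by simpa [mul_assoc] using key _ x hx⟩
  · obtain ⟨a, ha, hx⟩ := hA.full x
    exact ⟨g * a * g⁻¹, mem_conjBy.mpr (by simpa [mul_assoc] using ha), key a x hx⟩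

theorem transv_commute (he : Function.Injective e) (hA : IsTransvGroup e A v ψ) (hB : IsTransvGroup e B w χ)
    (h : ψ ⬝ᵥ w = 0) (h' : χ ⬝ᵥ v = 0) {a b : G} (ha : a ∈ A) (hb : b ∈ B) : a * b = b * a := by
  obtain ⟨x, hx⟩ := hA.sub a ha
  obtain ⟨y, hy⟩ := hB.sub b hb
  exact he (by rw [map_mul, map_mul, hx, hy, tmat_comm h h'])

theorem transv_comm_bot (he : Function.Injective e) (hA : IsTransvGroup e A v ψ) (hB : IsTransvGroup e B w χ)
    (h : ψ ⬝ᵥ w = 0) (h' : χ ⬝ᵥ v = 0) : ⁅A, B⁆ = ⊥ := by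
  rw [Subgroup.commutator_eq_bot_iff_le_centralizer]
  exact fun a ha => mem_centralizer_iff.mpr fun b hb => (transv_commute he hA hB h h' ha hb).symm

theorem transv_commutator_elem (hA : IsTransvGroup e A v ψ) (hB : IsTransvGroup e B w χ)
    (h' : χ ⬝ᵥ v = 0) {a b : G} {x y : k} (hx : e a = tmat v ψ x) (hy : e b = tmat w χ y) :
    e (a * b * a⁻¹ * b⁻¹) = tmat v χ (x * y * (ψ ⬝ᵥ w)) := by
  rw [show a * b * a⁻¹ * b⁻¹ = (a * b) * (b * a)⁻¹ by group, map_mul, map_mul, hx, hy,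
    tmat_comm_add hA.perp hB.perp h', ← hx, ← hy, ← map_mul, mul_assoc, e_cancel, mul_one]

theorem closure_image_inv {α : Type*} (f : α → G) (s : Set α) :
    Subgroup.closure ((fun a => (f a)⁻¹) '' s) = Subgroup.closure (f '' s) := by
  conv_rhs => rw [← Subgroup.closure_inv]
  congr 1
  ext g
  simp only [Set.mem_inv, Set.mem_image]
  exact ⟨fun ⟨a, ha, h⟩ => ⟨a, ha, by rw [← h, inv_inv]⟩, fun ⟨a, ha, h⟩ => ⟨a, ha, by rw [h, inv_inv]⟩⟩

theorem rootCommutatorCase_symm {S : Set (Subgroup G)} (h : RootCommutatorCase S A B) :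
    RootCommutatorCase S B A := by
  obtain ⟨h1, h2, h3, h4⟩ := h
  rw [Subgroup.commutator_comm] at h1 h2 h3 h4
  refine ⟨h1, fun c hc x hx => h2 c hc x (by rwa [sup_comm]), fun b hb hb1 => ?_, fun a ha ha1 => ?_⟩
  · rw [← h4 b hb hb1]
    conv_rhs => rw [← closure_image_inv]
    congr 2
    funext a
    group
  · rw [← h3 a ha ha1]
    conv_rhs => rw [← closure_image_inv]
    congr 2
    funext b
    group

theorem transv_commutator_case (he : Function.Injective e) (hA : IsTransvGroup e A v ψ) (hB : IsTransvGroup e B w χ)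
    (hC : IsTransvGroup e C v χ) (ha0 : ψ ⬝ᵥ w ≠ 0) {S : Set (Subgroup G)} (hS : C ∈ S) :
    RootCommutatorCase S A B := by
  have hb0 : χ ⬝ᵥ v = 0 := hC.perp
  have key : ∀ {a b : G}, a ∈ A → b ∈ B → a * b * a⁻¹ * b⁻¹ ∈ C := fun ha hb => by
    obtain ⟨x, hx⟩ := hA.sub _ ha
    obtain ⟨y, hy⟩ := hB.sub _ hb
    exact hC.mem_of he (transv_commutator_elem hA hB hb0 hx hy)
  have hl : ∀ a ∈ A, a ≠ 1 → Subgroup.closure ((fun b : G => a * b * a⁻¹ * b⁻¹) '' (B : Set G)) = C := by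
    intro a ha ha1
    obtain ⟨x, hx⟩ := hA.sub a ha
    have hx0 := IsTransvGroup.param_ne_zero he hx ha1
    refine le_antisymm ((closure_le _).mpr ?_) fun c hc => ?_
    · rintro _ ⟨b, hb, rfl⟩
      exact key ha hb
    · obtain ⟨z, hz⟩ := hC.sub c hc
      obtain ⟨b, hb, hy⟩ := hB.full (z / (x * (ψ ⬝ᵥ w)))
      refine subset_closure ⟨b, hb, he ?_⟩
      rw [transv_commutator_elem hA hB hb0 hx hy, hz]
      congr 1
      field_simp
  have hr : ∀ b ∈ B, b ≠ 1 → Subgroup.closure ((fun a : G => a * b * a⁻¹ * b⁻¹) '' (A : Set G)) = C := by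
    intro b hb hb1
    obtain ⟨y, hy⟩ := hB.sub b hb
    have hy0 := IsTransvGroup.param_ne_zero he hy hb1
    refine le_antisymm ((closure_le _).mpr ?_) fun c hc => ?_
    · rintro _ ⟨a, ha, rfl⟩
      exact key ha hb
    · obtain ⟨z, hz⟩ := hC.sub c hc
      obtain ⟨a, ha, hx⟩ := hA.full (z / (y * (ψ ⬝ᵥ w)))
      refine subset_closure ⟨a, ha, he ?_⟩
      rw [transv_commutator_elem hA hB hb0 hx hy, hz]
      congr 1
      field_simp
  have hAB : ⁅A, B⁆ = C := by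
    refine le_antisymm (Subgroup.commutator_le.mpr fun a ha b hb => key ha hb) fun c hc => ?_
    obtain ⟨z, hz⟩ := hC.sub c hc
    obtain ⟨a, ha, hx⟩ := hA.full (z / (ψ ⬝ᵥ w))
    obtain ⟨b, hb, hy⟩ := hB.full 1
    have h := transv_commutator_elem hA hB hb0 hx hy
    rw [mul_one, div_mul_cancel₀ _ ha0, ← hz] at h
    rw [← he h]
    exact Subgroup.commutator_mem_commutator ha hb
  refine ⟨hAB.symm ▸ hS, fun c hc x hx => ?_, fun a ha ha1 => (hl a ha ha1).trans hAB.symm,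
    fun b hb hb1 => (hr b hb hb1).trans hAB.symm⟩
  rw [hAB] at hc
  have hle : A ⊔ B ≤ centralizer {c} := sup_le
    (fun a ha => mem_centralizer_singleton_iff.mpr (transv_commute he hC hA hb0 hA.perp hc ha).symm)
    (fun b hb => mem_centralizer_singleton_iff.mpr (transv_commute he hC hB hB.perp hb0 hc hb).symm)
  exact (mem_centralizer_singleton_iff.mp (hle hx)).symm

/-- Two transvection groups in general position are the unitriangular groups of an embedded `SL₂`. -/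
theorem exists_sl2_embedding (he : Function.Injective e) (hA : IsTransvGroup e A v ψ) (hB : IsTransvGroup e B w χ)
    (ha0 : ψ ⬝ᵥ w ≠ 0) (hb0 : χ ⬝ᵥ v ≠ 0) :
    ∃ φ : Matrix.SpecialLinearGroup (Fin 2) k →* G, Function.Injective φ ∧
      (upperUnipotentSL2 k).map φ = A ∧ (lowerUnipotentSL2 k).map φ = B := by
  set a := ψ ⬝ᵥ w with hadef
  set b := χ ⬝ᵥ v with hbdef
  set P : Matrix ι (Fin 2) k := Matrix.of fun i j => ![v i, a⁻¹ * w i] j with hP
  set Q : Matrix (Fin 2) ι k := Matrix.of ![b⁻¹ • χ, ψ] with hQ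
  have hQP : Q * P = 1 := by
    have c0 : (fun i => P i 0) = v := by funext i; simp [hP]
    have c1 : (fun i => P i 1) = a⁻¹ • w := by funext i; simp [hP]
    have r0 : (fun i => Q 0 i) = b⁻¹ • χ := by funext i; simp [hQ]
    have r1 : (fun i => Q 1 i) = ψ := by funext i; simp [hQ]
    ext i j
    rw [Matrix.mul_apply']
    fin_cases i <;> fin_cases j <;>
      simp [c0, c1, r0, r1, ← hadef, ← hbdef, hA.perp, hB.perp, inv_mul_cancel₀ ha0, inv_mul_cancel₀ hb0]
  let Φ : Matrix (Fin 2) (Fin 2) k → Matrix ι ι k := fun M => 1 + P * (M - 1) * Q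
  have hΦmul : ∀ M N, Φ M * Φ N = Φ (M * N) := by
    intro M N
    have e1 : P * (M - 1) * Q * (P * (N - 1) * Q) = P * ((M - 1) * (N - 1)) * Q := by
      calc P * (M - 1) * Q * (P * (N - 1) * Q) = P * (M - 1) * (Q * P) * (N - 1) * Q := by
            simp only [Matrix.mul_assoc]
        _ = _ := by rw [hQP, Matrix.mul_one]; simp only [Matrix.mul_assoc]
    simp only [Φ]
    rw [add_mul, one_mul, mul_add, mul_one, e1,
      show M * N - 1 = (M - 1) + (N - 1) + (M - 1) * (N - 1) by noncomm_ring]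
    simp only [Matrix.mul_add, Matrix.add_mul]
    abel
  have hΦ1 : Φ 1 = 1 := by simp [Φ]
  have hΦinj : ∀ M N, Φ M = Φ N → M = N := by
    intro M N h
    have h' := congrArg (fun X => Q * X * P) (add_left_cancel h)
    have e2 : ∀ X : Matrix (Fin 2) (Fin 2) k, Q * (P * X * Q) * P = X := fun X => by
      calc Q * (P * X * Q) * P = (Q * P) * X * (Q * P) := by simp only [Matrix.mul_assoc]
        _ = X := by rw [hQP, Matrix.one_mul, Matrix.mul_one]
    simpa [e2] using h'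
  have hup : ∀ t, Φ (upEl t : Matrix (Fin 2) (Fin 2) k) = tmat v ψ t := by
    intro t
    simp only [Φ, tmat, upEl_coe]
    congr 1
    ext i j
    simp [Matrix.mul_apply, Fin.sum_univ_two, hP, hQ, vecMulVec_apply, Matrix.one_apply]
    ring
  have hlo : ∀ t, Φ (loEl t : Matrix (Fin 2) (Fin 2) k) = tmat w χ (t / (a * b)) := by
    intro t
    simp only [Φ, tmat, loEl_coe]
    congr 1
    ext i j
    simp [Matrix.mul_apply, Fin.sum_univ_two, hP, hQ, vecMulVec_apply, Matrix.one_apply]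
    field_simp
  have hex : ∀ M : Matrix.SpecialLinearGroup (Fin 2) k, ∃ g, e g = Φ M := by
    intro M
    have hM : M ∈ lowerUnipotentSL2 k ⊔ upperUnipotentSL2 k := lower_sup_upper (k := k) ▸ Subgroup.mem_top M
    have hinv : ∀ (M : Matrix.SpecialLinearGroup (Fin 2) k) (g : G), e g = Φ M → e g⁻¹ = Φ ((M⁻¹ : Matrix.SpecialLinearGroup (Fin 2) k) : Matrix (Fin 2) (Fin 2) k) := by
      intro M g hg
      have h1 : Φ (M : Matrix (Fin 2) (Fin 2) k) *
          Φ ((M⁻¹ : Matrix.SpecialLinearGroup (Fin 2) k) : Matrix (Fin 2) (Fin 2) k) = 1 := by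
        rw [hΦmul, ← Matrix.SpecialLinearGroup.coe_mul, mul_inv_cancel, Matrix.SpecialLinearGroup.coe_one, hΦ1]
      rw [← hg] at h1
      exact (left_inv_eq_right_inv (e_cancel' e g) h1)
    rw [Subgroup.sup_eq_closure] at hM
    induction hM using Subgroup.closure_induction with
    | mem g hg =>
      rcases hg with hg | hg
      · obtain ⟨t, rfl⟩ := mem_lower_iff.mp hg
        obtain ⟨g', -, h⟩ := hB.full (t / (a * b))
        exact ⟨g', by rw [h, hlo]⟩
      · obtain ⟨t, rfl⟩ := mem_upper_iff.mp hg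
        obtain ⟨g', -, h⟩ := hA.full t
        exact ⟨g', by rw [h, hup]⟩
    | one => exact ⟨1, by rw [map_one, Matrix.SpecialLinearGroup.coe_one, hΦ1]⟩
    | mul x y _ _ hx hy =>
      obtain ⟨g, hg⟩ := hx
      obtain ⟨g', hg'⟩ := hy
      exact ⟨g * g', by rw [map_mul, hg, hg', hΦmul, Matrix.SpecialLinearGroup.coe_mul]⟩
    | inv x _ hx =>
      obtain ⟨g, hg⟩ := hx
      exact ⟨g⁻¹, hinv x g hg⟩
  choose f hf using hex
  let φ : Matrix.SpecialLinearGroup (Fin 2) k →* G :=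
    { toFun := f
      map_one' := he (by rw [hf, Matrix.SpecialLinearGroup.coe_one, hΦ1, map_one])
      map_mul' := fun M N => he (by rw [hf, map_mul, hf, hf, hΦmul, Matrix.SpecialLinearGroup.coe_mul]) }
  have hφ : ∀ M, e (φ M) = Φ M := hf
  refine ⟨φ, fun M N h => Subtype.ext (hΦinj _ _ (by rw [← hφ, ← hφ, h])), ?_, ?_⟩
  · ext g
    rw [Subgroup.mem_map]
    constructor
    · rintro ⟨M, hM, rfl⟩
      obtain ⟨t, rfl⟩ := mem_upper_iff.mp hM
      exact hA.mem_of he ((hφ _).trans (hup t))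
    · intro hg
      obtain ⟨x, hx⟩ := hA.sub g hg
      exact ⟨upEl x, mem_upper_iff.mpr ⟨_, rfl⟩, he ((hφ _).trans ((hup x).trans hx.symm))⟩
  · ext g
    rw [Subgroup.mem_map]
    constructor
    · rintro ⟨M, hM, rfl⟩
      obtain ⟨t, rfl⟩ := mem_lower_iff.mp hM
      exact hB.mem_of he ((hφ _).trans (hlo t))
    · intro hg
      obtain ⟨x, hx⟩ := hB.sub g hg
      refine ⟨loEl (x * (a * b)), mem_lower_iff.mpr ⟨_, rfl⟩, he ((hφ _).trans ((hlo _).trans ?_))⟩
      rw [hx, mul_div_cancel_right₀ _ (mul_ne_zero ha0 hb0)]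

theorem transv_pair (he : Function.Injective e) (hA : IsTransvGroup e A v ψ) (hB : IsTransvGroup e B w χ)
    (ha0 : ψ ⬝ᵥ w ≠ 0) (hb0 : χ ⬝ᵥ v ≠ 0) : IsRankOnePair A B ∧ IsPSL2PairOver k A B := by
  obtain ⟨φ, hi, hU, hL⟩ := exists_sl2_embedding he hA hB ha0 hb0
  refine ⟨?_, φ, ?_, ?_, hU, hL⟩
  · rw [← hU, ← hL]
    exact map_pair φ (RankOnePair_symm sl2_isRankOnePair)
      fun h => sl2_isRankOnePair.ne (Subgroup.map_injective hi h).symm
  · rw [MonoidHom.range_eq_map, ← lower_sup_upper, Subgroup.map_sup, hU, hL, sup_comm]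
  · rw [(MonoidHom.ker_eq_bot_iff φ).mpr hi]
    exact bot_le

/-- A set of transvection groups is a set of `k`-root subgroups. -/
theorem transv_rootSet (he : Function.Injective e) {S : Set (Subgroup G)}
    (P : (ι → k) → (ι → k) → Prop) (hmem : ∀ A ∈ S, ∃ v ψ, P v ψ ∧ IsTransvGroup e A v ψ)
    (hclosed : ∀ (A B : Subgroup G) (v ψ w χ : ι → k), P v ψ → P w χ → IsTransvGroup e A v ψ → IsTransvGroup e B w χ →
      ψ ⬝ᵥ w ≠ 0 → χ ⬝ᵥ v = 0 → ∃ C ∈ S, IsTransvGroup e C v χ)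
    (hgen : (⨆ A ∈ S, A) = ⊤) (hconj : ∀ A ∈ S, ∀ g : G, conjBy A g ∈ S) :
    IsRootSubgroupSet S ∧ IsKRootSubgroupSet k S := by
  have hset : IsRootSubgroupSet S := by
    refine ⟨fun A hA => ?_, fun A hA => ?_, hgen, hconj, fun A hA B hB => ?_⟩
    · obtain ⟨v, ψ, hPv, h⟩ := hmem A hA
      exact h.commutative he
    · obtain ⟨v, ψ, hPv, h⟩ := hmem A hA
      exact h.ne_bot
    · obtain ⟨v, ψ, hPv, h⟩ := hmem A hA
      obtain ⟨w, χ, hPw, h'⟩ := hmem B hB
      by_cases ha : ψ ⬝ᵥ w = 0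
      · by_cases hb : χ ⬝ᵥ v = 0
        · exact Or.inl (transv_comm_bot he h h' ha hb)
        · obtain ⟨C, hC, hC'⟩ := hclosed B A w χ v ψ hPw hPv h' h hb ha
          exact Or.inr (Or.inr (rootCommutatorCase_symm (transv_commutator_case he h' h hC' hb hC)))
      · by_cases hb : χ ⬝ᵥ v = 0
        · obtain ⟨C, hC, hC'⟩ := hclosed A B v ψ w χ hPv hPw h h' ha hb
          exact Or.inr (Or.inr (transv_commutator_case he h h' hC' ha hC))
        · exact Or.inr (Or.inl (transv_pair he h h' ha hb).1)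
  refine ⟨hset, hset, fun A hA B hB hAB => ?_⟩
  obtain ⟨v, ψ, hPv, h⟩ := hmem A hA
  obtain ⟨w, χ, hPw, h'⟩ := hmem B hB
  by_cases ha : ψ ⬝ᵥ w = 0
  · exfalso
    by_cases hb : χ ⬝ᵥ v = 0
    · exact not_commutator_bot hAB (transv_comm_bot he h h' ha hb)
    · obtain ⟨C, hC, hC'⟩ := hclosed B A w χ v ψ hPw hPv h' h hb ha
      exact commutator_notMem_of_pair hset hA hB hAB (rootCommutatorCase_symm (transv_commutator_case he h' h hC' hb hC)).1
  · by_cases hb : χ ⬝ᵥ v = 0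
    · exfalso
      obtain ⟨C, hC, hC'⟩ := hclosed A B v ψ w χ hPv hPw h h' ha hb
      exact commutator_notMem_of_pair hset hA hB hAB (transv_commutator_case he h h' hC' ha hC).1
    · exact (transv_pair he h h' ha hb).2

end Cfsg.Lib.RootSub
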