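import Cfsg.Agent.RootSub.SubTransv
import Cfsg.Agent.Classical.Unitary.Matrix
import Cfsg.Agent.Classical.Unitary.Root

/-!
# Unitary transvection groups as a class of root subgroups
-/

set_option autoImplicit false
set_option linter.unusedSectionVars false
set_option linter.unusedVariables false
set_option linter.unusedSimpArgs false
set_option linter.style.haveILetI false

open Subgroup Matrix
open Cfsg

namespace Cfsg.Lib.RootSub

section Restrict

variable {ι : Type*} [Fintype ι] [DecidableEq ι] {F : Type*} [Field F] {L : Type*} [Field L] {j : L →+* F}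
  {G : Type*} [Group G] {e : G →* Matrix ι ι F} {A : Subgroup G} {v ψ : ι → F}

theorem IsSubTransv.subgroupOf (hA : IsSubTransv j e A v ψ) {K : Subgroup G} (hK : A ≤ K) :
    IsSubTransv j (e.comp K.subtype) (A.subgroupOf K) v ψ :=
  ⟨hA.hv, hA.hψ, hA.perp, fun g hg => hA.sub _ (Subgroup.mem_subgroupOf.mp hg), fun t => by
    obtain ⟨g, hg, h⟩ := hA.full t
    exact ⟨⟨g, hK hg⟩, Subgroup.mem_subgroupOf.mpr hg, h⟩⟩

theorem iSup_subgroupOf_image (S : Set (Subgroup G)) :
    (⨆ A ∈ (fun A : Subgroup G => A.subgroupOf (⨆ B ∈ S, B)) '' S, A) = ⊤ := by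
  apply Subgroup.map_injective (⨆ B ∈ S, B).subtype_injective
  rw [← MonoidHom.range_eq_map, Subgroup.range_subtype, iSup_image]
  simp only [Subgroup.map_iSup, Subgroup.subgroupOf_map_subtype]
  exact iSup_congr fun A => iSup_congr fun hA => inf_eq_left.mpr (le_iSup₂_of_le A hA le_rfl)

end Restrict

section Unitary

open Cfsg.Lib.Classical

variable (F : Type*) [Field F] [Fintype F] (q m : ℕ)

/-- Matrices of `SU`. -/
noncomputable def suToMat : ↥(Cfsg.SU m F q) →* Matrix (Fin m) (Fin m) F :=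
  (slToMat m F).comp (Cfsg.SU m F q).subtype

theorem suToMat_apply (g : ↥(Cfsg.SU m F q)) :
    suToMat F q m g = ((g : Matrix.SpecialLinearGroup (Fin m) F) : Matrix (Fin m) (Fin m) F) := rfl

theorem suToMat_injective : Function.Injective (suToMat F q m) := fun a b h =>
  Subtype.ext (Subtype.ext h)

theorem suToMat_form (g : ↥(Cfsg.SU m F q)) (u v : Fin m → F) :
    hermForm m F q (suToMat F q m g *ᵥ u) (suToMat F q m g *ᵥ v) = hermForm m F q u v := g.2 u v

/-- The transvections with centre `p`. -/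
def transvSet (p : Fin m → F) : Set ↥(Cfsg.SU m F q) :=
  {g | (∀ v : Fin m → F, ∃ c : F,
      ((g : Matrix.SpecialLinearGroup (Fin m) F) : Matrix (Fin m) (Fin m) F) *ᵥ v = v + c • p) ∧
    ∀ v : Fin m → F, hermForm m F q v p = 0 →
      ((g : Matrix.SpecialLinearGroup (Fin m) F) : Matrix (Fin m) (Fin m) F) *ᵥ v = v}

variable {F q m} (hF : Fintype.card F = q ^ 2) (δ : F)

/-- The covector `v ↦ δ h(v, p)`. -/
noncomputable def skewVec (p : Fin m → F) : Fin m → F := fun i => δ * powConj hF (p i)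

theorem skewVec_dot (p v : Fin m → F) : skewVec hF δ p ⬝ᵥ v = δ * hermForm m F q v p := by
  simp only [skewVec, dotProduct, hermForm, powConj_apply, Finset.mul_sum]
  exact Finset.sum_congr rfl fun i _ => by ring

theorem tmat_skew_mulVec (p v : Fin m → F) (x : F) :
    tmat p (skewVec hF δ p) x *ᵥ v = v + (x * δ * hermForm m F q v p) • p := by
  rw [tmat, add_mulVec, one_mulVec, smul_mulVec, vecMulVec_mulVec, skewVec_dot, op_smul_eq_smul, smul_smul,
    mul_assoc]

theorem skewVec_ne (hδ : δ ≠ 0) {p : Fin m → F} (hp : p ≠ 0) : skewVec hF δ p ≠ 0 := by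
  obtain ⟨i, hi⟩ := Function.ne_iff.1 hp
  exact fun h => mul_ne_zero hδ (fun h' => hi ((powConj_isConj hF).eq_zero.mp h')) (congrFun h i)

theorem skewVec_conj (g : ↥(Cfsg.SU m F q)) (p : Fin m → F) :
    skewVec hF δ p ᵥ* suToMat F q m g⁻¹ = skewVec hF δ (suToMat F q m g *ᵥ p) :=
  dotProduct_eq _ _ fun u => by
    rw [← dotProduct_mulVec, skewVec_dot, skewVec_dot, ← suToMat_form F q m g, mulVec_mulVec, ← map_mul,
      mul_inv_cancel, map_one, one_mulVec]

variable {δ} {L : Type*} [Field L] {j : L →+* F}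

theorem isSubTransv_transv (hδ0 : δ ≠ 0) (hδ : δ + powConj hF δ = 0)
    (hj : ∀ a : F, (∃ t, j t = a) ↔ powConj hF a = a) {p : Fin m → F} (hp : p ≠ 0)
    (hpp : hermForm m F q p p = 0) :
    IsSubTransv j (suToMat F q m) (Subgroup.closure (transvSet F q m p)) p (skewVec hF δ p) := by
  have hperp : skewVec hF δ p ⬝ᵥ p = 0 := by rw [skewVec_dot, hpp, mul_zero]
  have hσ : ∀ t, powConj hF (j t) = j t := fun t => (hj _).mp ⟨t, rfl⟩
  have hppH : (stdHerm m hF).h p p = 0 := by rw [stdHerm_h, hpp]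
  refine ⟨hp, skewVec_ne hF δ hδ0 hp, hperp, fun g hg => ?_, fun t => ?_⟩
  · induction hg using Subgroup.closure_induction with
    | mem g hg =>
      obtain ⟨h1, h2⟩ := hg
      obtain ⟨v₁, hv₁⟩ : ∃ v, hermForm m F q v p ≠ 0 := by
        by_contra h
        push Not at h
        exact hp ((stdHerm m hF).nondeg p fun v => by
          rw [stdHerm_h, h])
      obtain ⟨c₁, hc₁⟩ := h1 v₁
      set a := hermForm m F q v₁ p with ha
      have hv : ∀ v, suToMat F q m g *ᵥ v = v + (c₁ / a * hermForm m F q v p) • p := by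
        intro v
        set b := hermForm m F q v p with hb
        have e0 : hermForm m F q (v - (b / a) • v₁) p = 0 := by
          rw [← stdHerm_h hF, (stdHerm m hF).sub_left, (stdHerm m hF).smul_left, stdHerm_h, stdHerm_h,
            ← ha, ← hb, div_mul_cancel₀ _ hv₁, sub_self]
        have e1 := h2 _ e0
        rw [mulVec_sub, mulVec_smul, hc₁] at e1
        rw [suToMat_apply, eq_add_of_sub_eq e1]
        rw [smul_add, smul_smul, ← add_assoc, sub_add_cancel, div_mul_eq_mul_div, div_mul_eq_mul_div, mul_comm b]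
      have hskew : c₁ / a + powConj hF (c₁ / a) = 0 := by
        set c := c₁ / a
        have := suToMat_form F q m g v₁ v₁
        rw [hv, ← stdHerm_h hF, ← stdHerm_h hF, ← stdHerm_h hF, (stdHerm m hF).add_left, (stdHerm m hF).add_right,
          (stdHerm m hF).add_right, (stdHerm m hF).smul_left, (stdHerm m hF).smul_left,
          (stdHerm m hF).smul_right, (stdHerm m hF).smul_right, hppH] at this
        have e2 : (stdHerm m hF).h v₁ p = a := by rw [stdHerm_h]
        rw [(stdHerm m hF).symm p v₁, e2] at this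
        have hs : (stdHerm m hF).σ = powConj hF := rfl
        rw [hs, map_mul] at this
        have h3 : (c + powConj hF c) * (a * powConj hF a) = 0 := by linear_combination this
        exact (mul_eq_zero.mp h3).resolve_right
          (mul_ne_zero hv₁ fun h' => hv₁ ((powConj_isConj hF).eq_zero.mp h'))
      obtain ⟨t, ht⟩ := (hj (c₁ / a / δ)).mpr (by
        rw [map_div₀, eq_neg_of_add_eq_zero_right hskew, eq_neg_of_add_eq_zero_right hδ, neg_div_neg_eq])
      refine ⟨t, Matrix.ext_iff_mulVec.mpr fun v => ?_⟩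
      rw [hv, tmat_skew_mulVec, ht, div_mul_cancel₀ _ hδ0]
    | one => exact ⟨0, by rw [map_one, map_zero, tmat_zero]⟩
    | mul x y _ _ hx hy =>
      obtain ⟨s, hs⟩ := hx
      obtain ⟨t, ht⟩ := hy
      exact ⟨s + t, by rw [map_mul, hs, ht, tmat_add hperp, map_add]⟩
    | inv x _ hx =>
      obtain ⟨s, hs⟩ := hx
      refine ⟨-s, left_inv_eq_right_inv (e_cancel' _ x) ?_⟩
      rw [hs, tmat_add hperp, map_neg, add_neg_cancel, tmat_zero]
  · have hc : j t * δ + (stdHerm m hF).σ (j t * δ) = 0 := by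
      change j t * δ + powConj hF (j t * δ) = 0
      rw [map_mul, hσ, ← mul_add, hδ, mul_zero]
    let g : ↥(Cfsg.SU m F q) := suEquiv m hF ((stdHerm m hF).sT hppH hc)
    have hg : ∀ v, suToMat F q m g *ᵥ v = v + (j t * δ * hermForm m F q v p) • p := by
      intro v
      rw [suToMat_apply, suEquiv_coe, unitToGL_mulVec, HermSpace.sT_apply, stdHerm_h]
    refine ⟨g, Subgroup.subset_closure ⟨fun v => ⟨_, hg v⟩, fun v hv => ?_⟩,
      Matrix.ext_iff_mulVec.mpr fun v => by rw [hg, tmat_skew_mulVec]⟩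
    rw [← suToMat_apply, hg, hv, mul_zero, zero_smul, add_zero]

end Unitary

open Cfsg.Lib.Classical in
theorem unitary_transv_spec (F : Type*) [Field F] [Fintype F] (q n : ℕ) (hF : Fintype.card F = q ^ 2)
    (S : Set (Subgroup ↥(Cfsg.SU (n + 2) F q)))
    (hS : ∀ A, A ∈ S ↔ ∃ p : Fin (n + 2) → F, p ≠ 0 ∧ hermForm (n + 2) F q p p = 0 ∧
      A = Subgroup.closure (transvSet F q (n + 2) p)) :
    ∀ S', S' = (fun A : Subgroup ↥(Cfsg.SU (n + 2) F q) => A.subgroupOf (⨆ B ∈ S, B)) '' S →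
    IsRootSubgroupClass S' ∧ IsDegenerateRootSet S' ∧
      (∃ (L : Type) (_ : Field L) (_ : Fintype L), Fintype.card L = q ∧ IsKRootSubgroupSet L S') ∧
      IsConnectedFamily (FAdj S') S' := by
  intro S' hS'
  have hσ : IsConj (powConj hF) := powConj_isConj hF
  obtain ⟨δ, hδ0, hδ⟩ := hσ.exists_skew
  let φ := (Finite.equivFin ↥(fixedField (powConj hF))).symm
  letI : Field (Fin (Nat.card ↥(fixedField (powConj hF)))) := φ.field
  let j : Fin (Nat.card ↥(fixedField (powConj hF))) →+* F :=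
    (fixedField (powConj hF)).subtype.comp φ.ringEquiv.toRingHom
  have hj : ∀ a : F, (∃ t, j t = a) ↔ powConj hF a = a := fun a =>
    ⟨fun ⟨t, ht⟩ => ht ▸ (φ t).2, fun h => ⟨φ.symm ⟨a, h⟩, congrArg Subtype.val (φ.apply_symm_apply ⟨a, h⟩)⟩⟩
  let e := (suToMat F q (n + 2)).comp (⨆ B ∈ S, B).subtype
  have he : Function.Injective e := (suToMat_injective F q (n + 2)).comp (⨆ B ∈ S, B).subtype_injective
  let P : (Fin (n + 2) → F) → Prop := fun p => hermForm (n + 2) F q p p = 0
  have hT : ∀ p, p ≠ 0 → P p → ∃ C ∈ S', IsSubTransv j e C p (skewVec hF δ p) := by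
    intro p hp hpp
    have hA : Subgroup.closure (transvSet F q (n + 2) p) ∈ S := (hS _).mpr ⟨p, hp, hpp, rfl⟩
    exact ⟨_, hS' ▸ ⟨_, hA, rfl⟩, (isSubTransv_transv hF hδ0 hδ hj hp hpp).subgroupOf (le_iSup₂_of_le _ hA le_rfl)⟩
  have hmem : ∀ C ∈ S', ∃ p, P p ∧ IsSubTransv j e C p (skewVec hF δ p) := by
    intro C hC
    rw [hS'] at hC
    obtain ⟨A, hA, rfl⟩ := hC
    obtain ⟨p, hp, hpp, rfl⟩ := (hS A).mp hA
    exact ⟨p, hpp, (isSubTransv_transv hF hδ0 hδ hj hp hpp).subgroupOf (le_iSup₂_of_le _ hA le_rfl)⟩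
  have hconj : ∀ C ∈ S', ∀ g : ↥(⨆ B ∈ S, B), conjBy C g ∈ S' := by
    intro C hC g
    obtain ⟨p, hpp, h⟩ := hmem C hC
    have h' := h.conj g
    rw [show skewVec hF δ p ᵥ* e g⁻¹ = skewVec hF δ (e g *ᵥ p) from
      skewVec_conj hF δ (g : ↥(Cfsg.SU (n + 2) F q)) p] at h'
    obtain ⟨D, hD, hD'⟩ := hT (e g *ᵥ p) h'.hv (by
      change hermForm (n + 2) F q (suToMat F q (n + 2) _ *ᵥ p) (suToMat F q (n + 2) _ *ᵥ p) = 0
      rw [suToMat_form, hpp])
    exact h'.unique he hD' ▸ hD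
  have hsymm : ∀ v w : Fin (n + 2) → F, hermForm (n + 2) F q v w = powConj hF (hermForm (n + 2) F q w v) := by
    intro v w
    rw [← stdHerm_h hF, ← stdHerm_h hF]
    exact (stdHerm (n + 2) hF).symm _ _
  have horth : ∀ v w, P v → P w → skewVec hF δ v ⬝ᵥ w = 0 → skewVec hF δ w ⬝ᵥ v = 0 := by
    intro v w _ _ h
    rw [skewVec_dot, mul_eq_zero] at h
    rw [skewVec_dot, hsymm, h.resolve_left hδ0, map_zero, mul_zero]
  have hrange : ∀ v w, P v → P w → ∃ c, j c = (skewVec hF δ v ⬝ᵥ w) * (skewVec hF δ w ⬝ᵥ v) := by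
    intro v w _ _
    rw [hj, skewVec_dot, skewVec_dot, map_mul, map_mul, map_mul, hsymm v w, hσ.invol,
      eq_neg_of_add_eq_zero_right hδ]
    ring
  have hjoin : ∀ v w, P v → P w → v ≠ 0 → w ≠ 0 → ∃ u, ∃ C ∈ S', P u ∧ IsSubTransv j e C u (skewVec hF δ u) ∧
      skewVec hF δ v ⬝ᵥ u ≠ 0 ∧ skewVec hF δ w ⬝ᵥ u ≠ 0 := by
    intro v w hv hw hv0 hw0
    obtain ⟨r, hr, h1, h2⟩ := (stdHerm (n + 2) hF).exists_isotropic_nonorth hv0 hw0
      (by rw [stdHerm_h]; exact hv) (by rw [stdHerm_h]; exact hw)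
    rw [stdHerm_h] at hr h1 h2
    have hr0 : r ≠ 0 := fun h => h1 (by rw [h, hsymm]; simp [hermForm])
    obtain ⟨C, hC, hC'⟩ := hT r hr0 hr
    refine ⟨r, C, hC, hr, hC', ?_, ?_⟩ <;> rw [skewVec_dot] <;> refine mul_ne_zero hδ0 fun h => ?_
    · exact h1 (by rw [hsymm, h, map_zero])
    · exact h2 (by rw [hsymm, h, map_zero])
  have hne : S'.Nonempty := by
    obtain ⟨b, hb⟩ := hσ.norm_surjective (a := (-1 : F)) (by rw [map_neg, map_one])
    obtain ⟨C, hC, -⟩ := hT (Fin.cons 1 (Fin.cons b 0))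
      (fun h => one_ne_zero (congrFun h 0)) (by
        change hermForm _ F q _ _ = 0
        rw [powConj_apply] at hb
        simp only [hermForm, Fin.sum_univ_succ, Fin.cons_zero, Fin.cons_succ, one_mul, one_pow, Pi.zero_apply,
          zero_mul, Finset.sum_const_zero, add_zero, hb, add_neg_cancel])
    exact ⟨C, hC⟩
  obtain ⟨h1, h2, h3, h4⟩ := subTransv_spec (j := j) he P (skewVec hF δ) hmem (hS' ▸ iSup_subgroupOf_image S) hconj
    horth hrange hjoin hne
  exact ⟨h1, h2, ⟨Fin (Nat.card ↥(fixedField (powConj hF))), inferInstance, inferInstance,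
    (Fintype.card_fin _).trans (stdHerm_q (n := n) hF), h3⟩, h4⟩

end Cfsg.Lib.RootSub
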