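import Cfsg.Agent.RootSub.NondegGeneration

/-!
# Weak TI-subsets of non-degenerate classes are abelian
-/

set_option autoImplicit false
set_option linter.unusedSectionVars false
set_option linter.unusedVariables false

open Subgroup
open Cfsg

namespace Cfsg.Lib.RootSub

open scoped commutatorElement

variable {G : Type*} [Group G] {S Δ : Set (Subgroup G)} {A B C X : Subgroup G}

/-- The setwise stabiliser of a family of subgroups under conjugation. -/
def famStab (Δ : Set (Subgroup G)) : Subgroup G where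
  carrier := {g | (fun A => conjBy A g) '' Δ = Δ}
  one_mem' := by simp [conjBy_one]
  mul_mem' := fun {g h} hg hh => by
    show (fun A => conjBy A (g * h)) '' Δ = Δ
    conv_rhs => rw [← show (fun A => conjBy A g) '' Δ = Δ from hg, ← show (fun A => conjBy A h) '' Δ = Δ from hh]
    rw [Set.image_image]
    simp only [conjBy_conjBy]
  inv_mem' := fun {g} hg => by
    show (fun A => conjBy A g⁻¹) '' Δ = Δ
    conv_lhs => rw [← show (fun A => conjBy A g) '' Δ = Δ from hg]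
    rw [Set.image_image]
    simp only [conjBy_conjBy, inv_mul_cancel, conjBy_one, Set.image_id']

theorem le_famStab (hS : IsRootSubgroupSet S) (hΔ : IsWeakTISubset S Δ) (hA : A ∈ Δ) (hX : X ∈ S)
    (hcomm : ∀ a ∈ A, ∀ x ∈ X, a * x = x * a) : X ≤ famStab Δ := by
  intro x hx
  by_cases hx1 : x = 1
  · exact hx1 ▸ one_mem _
  refine (hΔ.2.2.2 x ⟨hx1, X, hX, hx⟩).resolve_right fun h => ?_
  refine Set.disjoint_left.mp h ⟨A, hA, ?_⟩ hA
  exact conjBy_eq_self_iff.mpr (Subgroup.centralizer_le_normalizer _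
    (mem_centralizer_iff.mpr fun a ha => hcomm a ha x hx))

theorem weakTI_abelian (hS : IsRootSubgroupClass S) (hnd : IsNondegenerateRootSet S) (hΔ : IsWeakTISubset S Δ) :
    IsAbelianFamily Δ := by
  have hSS := hS.1
  obtain ⟨-, ⟨A₀, hA₀, B₀, hB₀, hp₀⟩, -⟩ := id hnd
  have hpart := class_partners hS hA₀ ⟨hB₀, hp₀⟩
  have hsub := hΔ.1
  have hpair : ∀ A ∈ Δ, ∀ B ∈ Δ, ¬ IsRankOnePair A B := by
    intro A hA B hB h
    have hAS := hsub hA
    have hBS := hsub hB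
    have hle : (⊤ : Subgroup G) ≤ famStab Δ := by
      rw [← generated_by_lines hS hnd hAS ⟨hBS, h⟩]
      refine sup_le (iSup₂_le fun C hC => ?_)
        (le_famStab hSS hΔ hB hBS fun b hb x hx => abelian_comm hSS hBS hb hx)
      exact le_famStab hSS hΔ hA hC.1.1 fun a ha c hc => commute_of_bot hC.1.2.2 ha hc
    refine hΔ.2.2.1 (Set.Subset.antisymm hsub fun X hX => ?_)
    obtain ⟨g, rfl⟩ := hS.2.2 A hAS X hX
    exact (hle (mem_top g) : (fun A => conjBy A g) '' Δ = Δ) ▸ Set.mem_image_of_mem _ hA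
  intro A hA B hB
  rcases hSS.pair A (hsub hA) B (hsub hB) with h0 | hr | hc
  · exact fun a ha b hb => commute_of_bot h0 ha hb
  · exact absurd hr (hpair A hA B hB)
  exfalso
  have hAS := hsub hA
  have hBS := hsub hB
  obtain ⟨Q, hQ, hAQ⟩ := hpart A hAS
  set F := ⁅A, B⁆ with hFdef
  have hFS : F ∈ S := hc.1
  have hFA : F ≠ A := fun h => by
    obtain ⟨a, ha, ha1⟩ := exists_ne_one hAQ
    apply ha1
    rw [← Subgroup.mem_bot, ← inf_commutator hSS hAS hQ hAQ hBS hFS]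
    exact ⟨ha, show a ∈ F from h.symm ▸ ha⟩
  have hcomm : ∀ f ∈ F, ∀ a ∈ A, f * a = a * f := fun f hf a ha => hc.2.1 f hf a (mem_sup_left ha)
  have hlp := line_partition hSS hAS hQ hAQ hBS hFS
  have hlm := line_members hSS hAS hQ hAQ hBS hFS
  obtain ⟨P₀, hP₀, hFP₀⟩ := hpart F hFS
  have hcov : ∀ x ∈ F ⊔ A, x ≠ 1 → ∃ C ∈ S, C ≤ F ⊔ A ∧ x ∈ C := by
    rw [sup_comm F A]
    exact fun x hx hx1 => (hlp.2.1 x hx hx1).elim fun C hC => ⟨C, hC.1.1, hC.1.2, hC.2⟩
  obtain ⟨B₁, hB₁, hB₁le, hB₁F, hB₁P⟩ := exists_exception hSS hFS hP₀ hFP₀ hAS (Ne.symm hFA) hcomm hcov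
  obtain ⟨b, hb, rfl⟩ : ∃ b ∈ B, conjBy A b = B₁ := by
    rcases hlm.le (show B₁ ∈ membersIn S (A ⊔ F) from ⟨hB₁, sup_comm F A ▸ hB₁le⟩) with h | h
    · exact h
    · exact absurd h hB₁F
  have hfix : conjBy F b⁻¹ = F := conjBy_eq_self_iff.mpr (inv_mem (Subgroup.centralizer_le_normalizer _
    (mem_centralizer_iff.mpr fun f hf => hc.2.1 f hf b (mem_sup_right hb))))
  have hP : conjBy P₀ b⁻¹ ∈ S := hSS.conj_mem P₀ hP₀ _
  have hFP : IsRankOnePair F (conjBy P₀ b⁻¹) := hfix ▸ conj_pair hFP₀ b⁻¹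
  have hAP : ¬ IsRankOnePair A (conjBy P₀ b⁻¹) := fun h => hB₁P (by
    have := conj_pair h b
    rwa [conjBy_conjBy, mul_inv_cancel, conjBy_one] at this)
  obtain ⟨hK, hFK⟩ := line_commutator hSS hFS hP hFP hAS (Ne.symm hFA) (hpart A hAS) hcomm
    (fun x hx hx1 => (hcov x hx hx1).imp fun E h => ⟨h.1, h.2.2⟩) hAP
  set K := ⁅A, conjBy P₀ b⁻¹⁆ with hKdef
  obtain ⟨hBK, -⟩ := line_group hSS hAS hBS hFS hK (by rw [Subgroup.commutator_comm]; exact hFK)
  have hKst : K ≤ famStab Δ := le_famStab hSS hΔ hA hK fun a ha k hk =>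
    ((commutator_case hSS hAS hP hK).2.1 k hk a (mem_sup_left ha)).symm
  have hBst : B ≤ famStab Δ := le_famStab hSS hΔ hB hBS fun b hb x hx => abelian_comm hSS hBS hb hx
  obtain ⟨x, hx, hxe⟩ := right_mem hBK
  refine hpair B hB K ?_ hBK
  rw [hxe]
  exact ((sup_le hBst hKst) hx : (fun A => conjBy A x) '' Δ = Δ) ▸ Set.mem_image_of_mem _ hB

end Cfsg.Lib.RootSub
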